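import Cfsg.Agent.H45.CosetCheck
import Mathlib.Algebra.CharP.Two
import Mathlib.LinearAlgebra.Matrix.Notation
import Mathlib.Tactic.LinearCombination

/-!
Arrays of 78 rows over the field with four elements, packed in two planes of bits, with sparse
row operations and their interpretation.
-/

set_option autoImplicit false

namespace Cfsg.Agent.H56.EMult

open Cfsg.Agent.H45 (force force_eq)

/-- two planes -/
abbrev Pl := ℕ × ℕ

/-- one block of `W` bits -/
def blk (W x i : ℕ) : ℕ := (x >>> (W * i)) % 2 ^ W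

/-- the planes of a scalar multiple of a block -/
def cm (c a b : ℕ) : ℕ × ℕ :=
  bif Nat.beq c 1 then (a, b) else bif Nat.beq c 2 then (b, a ^^^ b) else
    bif Nat.beq c 3 then (a ^^^ b, a) else (0, 0)

/-- the addition of one multiple of a row of `P` to a row of `Q` -/
noncomputable def add1 (W : ℕ) (e : ℕ × ℕ × ℕ) (P Q : Pl) : Pl :=
  match cm e.2.2 (blk W P.1 e.2.1) (blk W P.2 e.2.1) with
  | (a, b) => (Q.1 ^^^ (a <<< (W * e.1)), Q.2 ^^^ (b <<< (W * e.1)))

/-- simultaneous row operations -/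
noncomputable def addAll (W : ℕ) (P : Pl) : List (ℕ × ℕ × ℕ) → Pl → Pl
  | [], Q => Q
  | e :: es, Q => add1 W e P (addAll W P es Q)

/-- one sparse matrix applied -/
noncomputable def stepE (W : ℕ) (es : List (ℕ × ℕ × ℕ)) (P : Pl) : Pl :=
  force P.1 fun a => force P.2 fun b => addAll W (a, b) es (a, b)

theorem stepE_eq (W : ℕ) (es : List (ℕ × ℕ × ℕ)) (P : Pl) : stepE W es P = addAll W P es P := by
  simp [stepE, force_eq]

/-- the code of a bit pair -/
def code (P : Pl) (k : ℕ) : ℕ := (P.1 >>> k) % 2 + 2 * ((P.2 >>> k) % 2)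

section Interp

variable {K : Type*} [Field K] (ω : K)

/-- the value of a bit -/
def bitV (K : Type*) [Field K] (b : Bool) : K := if b then 1 else 0

/-- the value of an entry -/
def pval (P : Pl) (k : ℕ) : K := bitV K (P.1.testBit k) + bitV K (P.2.testBit k) * ω

/-- the value of a code -/
def cv (c : ℕ) : K :=
  bif Nat.beq c 1 then 1 else bif Nat.beq c 2 then ω else bif Nat.beq c 3 then 1 + ω else 0

theorem bitV_xor [CharP K 2] (a b : Bool) : bitV K (a ^^ b) = bitV K a + bitV K b := by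
  cases a <;> cases b <;> simp [bitV, CharTwo.add_self_eq_zero]

theorem pval_xor [CharP K 2] (P Q : Pl) (k : ℕ) :
    pval ω (P.1 ^^^ Q.1, P.2 ^^^ Q.2) k = pval ω P k + pval ω Q k := by
  simp only [pval, Nat.testBit_xor, bitV_xor]; ring

theorem pval_zero (k : ℕ) : pval ω (0, 0) k = 0 := by simp [pval, bitV]

theorem testBit_blk (W x i j : ℕ) : (blk W x i).testBit j = (decide (j < W) && x.testBit (W * i + j)) := by
  rw [blk, Nat.testBit_mod_two_pow, Nat.testBit_shiftRight]

theorem pval_blk {W j : ℕ} (P : Pl) (i : ℕ) (hj : j < W) :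
    pval ω (blk W P.1 i, blk W P.2 i) j = pval ω P (W * i + j) := by
  simp [pval, testBit_blk, hj]

theorem pval_cm [CharP K 2] {ω : K} (h : ω ^ 2 + ω + 1 = 0) (c a b k : ℕ) :
    pval ω (cm c a b) k = cv ω c * pval ω (a, b) k := by
  have h2 := CharTwo.two_eq_zero (R := K)
  unfold cm cv
  cases Nat.beq c 1
  · cases Nat.beq c 2
    · cases Nat.beq c 3
      · simp [pval, bitV]
      · simp only [cond_true, cond_false, pval, Nat.testBit_xor, bitV_xor]
        linear_combination -(bitV K (b.testBit k)) * h + (bitV K (b.testBit k)) * h2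
    · simp only [cond_true, cond_false, pval, Nat.testBit_xor, bitV_xor]
      linear_combination -(bitV K (b.testBit k)) * h +
        (bitV K (b.testBit k) + bitV K (b.testBit k) * ω) * h2
  · simp

theorem testBit_put {W a t i j : ℕ} (hj : j < W) (ha : a < 2 ^ W) :
    (a <<< (W * t)).testBit (W * i + j) = (decide (t = i) && a.testBit j) := by
  rw [Nat.testBit_shiftLeft]
  rcases lt_trichotomy t i with h | rfl | h
  · have h1 : W * (t + 1) ≤ W * i := Nat.mul_le_mul_left W h
    rw [Nat.mul_add, Nat.mul_one] at h1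
    have : a.testBit (W * i + j - W * t) = false :=
      Nat.testBit_lt_two_pow (lt_of_lt_of_le ha (Nat.pow_le_pow_right (by norm_num) (by omega)))
    simp [this, ne_of_lt h]
  · simp
  · have h1 : W * (i + 1) ≤ W * t := Nat.mul_le_mul_left W h
    rw [Nat.mul_add, Nat.mul_one] at h1
    simp [show ¬ (W * t ≤ W * i + j) by omega, (ne_of_lt h).symm]

theorem cm_lt {W c a b : ℕ} (ha : a < 2 ^ W) (hb : b < 2 ^ W) :
    (cm c a b).1 < 2 ^ W ∧ (cm c a b).2 < 2 ^ W := by
  unfold cm
  have h0 : (0 : ℕ) < 2 ^ W := Nat.two_pow_pos W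
  cases Nat.beq c 1 <;> cases Nat.beq c 2 <;> cases Nat.beq c 3 <;>
    simp [ha, hb, h0, Nat.xor_lt_two_pow ha hb]

theorem blk_lt (W x i : ℕ) : blk W x i < 2 ^ W := Nat.mod_lt _ (Nat.two_pow_pos W)

theorem pval_add1 [CharP K 2] {ω : K} (h : ω ^ 2 + ω + 1 = 0) {W i j : ℕ} (hj : j < W)
    (e : ℕ × ℕ × ℕ) (P Q : Pl) :
    pval ω (add1 W e P Q) (W * i + j) = pval ω Q (W * i + j) +
      (if e.1 = i then cv ω e.2.2 * pval ω P (W * e.2.1 + j) else 0) := by
  obtain ⟨ha, hb⟩ := cm_lt (c := e.2.2) (blk_lt W P.1 e.2.1) (blk_lt W P.2 e.2.1)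
  have hc := pval_cm h e.2.2 (blk W P.1 e.2.1) (blk W P.2 e.2.1) j
  rw [pval_blk ω P e.2.1 hj] at hc
  unfold add1
  generalize cm e.2.2 (blk W P.1 e.2.1) (blk W P.2 e.2.1) = ab at ha hb hc
  obtain ⟨a, b⟩ := ab
  show pval ω (Q.1 ^^^ a <<< (W * e.1), Q.2 ^^^ b <<< (W * e.1)) _ = _
  rw [pval_xor ω Q (a <<< (W * e.1), b <<< (W * e.1))]
  congr 1
  simp only [pval, testBit_put hj ha, testBit_put hj hb]
  by_cases hi : e.1 = i
  · simp only [hi, decide_true, Bool.true_and, if_pos]
    exact hc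
  · simp [hi, bitV]

/-- the sum of the entries of a row -/
def rowSum (es : List (ℕ × ℕ × ℕ)) (i : ℕ) (f : ℕ → K) : K :=
  (es.map fun e => if e.1 = i then cv ω e.2.2 * f e.2.1 else 0).sum

theorem pval_stepE [CharP K 2] {ω : K} (h : ω ^ 2 + ω + 1 = 0) {W i j : ℕ} (hj : j < W)
    (es : List (ℕ × ℕ × ℕ)) (P : Pl) :
    pval ω (stepE W es P) (W * i + j) = pval ω P (W * i + j) +
      rowSum ω es i fun k => pval ω P (W * k + j) := by
  rw [stepE_eq]
  suffices ∀ Q, pval ω (addAll W P es Q) (W * i + j) = pval ω Q (W * i + j) +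
      rowSum ω es i fun k => pval ω P (W * k + j) from this P
  induction es with
  | nil => intro Q; simp [addAll, rowSum]
  | cons e es ih =>
    intro Q
    rw [addAll, pval_add1 h hj, ih]
    simp only [rowSum, List.map_cons, List.sum_cons]
    ring

theorem omega_ne {ω : K} [CharP K 2] (h : ω ^ 2 + ω + 1 = 0) : ω ≠ 0 ∧ ω ≠ 1 ∧ 1 + ω ≠ 0 := by
  have h2 := CharTwo.two_eq_zero (R := K)
  refine ⟨?_, ?_, ?_⟩
  · rintro rfl; simp at h
  · rintro rfl; exact one_ne_zero (α := K) (by linear_combination h - h2)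
  · intro e
    exact one_ne_zero (α := K) (by linear_combination h - ω * e)

theorem pval_inj [CharP K 2] {ω : K} (h : ω ^ 2 + ω + 1 = 0) {P Q : Pl} {k : ℕ}
    (e : pval ω P k = pval ω Q k) : P.1.testBit k = Q.1.testBit k ∧ P.2.testBit k = Q.2.testBit k := by
  obtain ⟨h0, h1, h3⟩ := omega_ne h
  have h2 := CharTwo.two_eq_zero (R := K)
  revert e
  simp only [pval]
  cases P.1.testBit k <;> cases P.2.testBit k <;> cases Q.1.testBit k <;> cases Q.2.testBit k <;>
    simp [bitV, h0, h1, h3, Ne.symm h0, Ne.symm h1, Ne.symm h3]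

end Interp

end Cfsg.Agent.H56.EMult
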