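import Cfsg.Agent.H56.EMult.Ent

/-!
The columns of root elements packed in one number, two bits for each row, and the check of a table
of sparse entries against them.
-/

set_option autoImplicit false
set_option maxRecDepth 100000

namespace Cfsg.Agent.H56.EMult

open Cfsg.Lie

/-- two bits of a packed column -/
def get2 (x u : ℕ) : ℕ := (x >>> (2 * u)) % 4

/-- the sum of codes placed at rows -/
def putL (l : List (ℕ × ℕ)) (x : ℕ) : ℕ := l.foldl (fun a p => a ^^^ (p.2 <<< (2 * p.1))) x

/-- the sum of the codes placed at one row -/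
def selL (l : List (ℕ × ℕ)) (u c : ℕ) : ℕ :=
  l.foldl (fun a p => a ^^^ (bif Nat.beq p.1 u then p.2 else 0)) c

/-- the terms of a chain -/
def chainA (r s : ℕ) : List ((ℕ × ℤ) × ℕ) :=
  ((chevE6.chain.getD r #[]).toList.filter fun e => e.1 = s).flatMap fun e => e.2.toList.zipIdx

/-- the terms of a column of a root element -/
def colT (r t col : ℕ) : List (ℕ × ℕ) :=
  if col < 6 then [(6 + r, cmulC (icode ((chevE6.cartanSR.getD col #[]).getD r 0)) t)]
  else if col = 6 + r then []
  else if col = 6 + chevE6.negIdx.getD r 0 then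
    (6 + r, cmulC t t) :: (List.range 6).map fun i =>
      (i, cmulC (icode ((chevE6.coroot.getD r #[]).getD i 0)) t)
  else (chainA r (col - 6)).map fun q => (6 + q.1.1, cmulC (icode q.1.2) (cpow t (q.2 + 1)))

/-- the terms of a column of a sparse table -/
def colE (es : List (ℕ × ℕ × ℕ)) (col : ℕ) : List (ℕ × ℕ) :=
  es.map fun e => (e.1, bif Nat.beq e.2.1 col then e.2.2 else 0)

/-- the check of a table of sparse entries for a root element -/
def entOK (r t : ℕ) (es : List (ℕ × ℕ × ℕ)) : Bool :=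
  (Nat.blt r 72 && Nat.blt t 4) && es.all (fun e => Nat.blt e.2.2 4 && Nat.blt e.2.1 78 && Nat.blt e.1 78) &&
    (List.range 78).all fun col => (colT r t col).all (fun p => Nat.blt p.2 4) &&
      Nat.beq (putL (colT r t col) (1 <<< (2 * col))) (putL (colE es col) (1 <<< (2 * col)))

theorem testBit_get2 (x u i : ℕ) :
    (get2 x u).testBit i = (decide (i < 2) && x.testBit (2 * u + i)) := by
  rw [get2, show (4 : ℕ) = 2 ^ 2 from rfl, Nat.testBit_mod_two_pow, Nat.testBit_shiftRight]

theorem get2_xor (a : ℕ) {v : ℕ} (hv : v < 4) (w u : ℕ) :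
    get2 (a ^^^ (v <<< (2 * w))) u = get2 a u ^^^ (bif Nat.beq w u then v else 0) := by
  refine Nat.eq_of_testBit_eq fun i => ?_
  rw [Nat.testBit_xor, testBit_get2, testBit_get2, Nat.testBit_xor]
  rcases Nat.lt_or_ge i 2 with hi | hi
  · simp only [hi, decide_true, Bool.true_and]
    congr 1
    rw [testBit_put (W := 2) hi (show v < 2 ^ 2 from hv)]
    by_cases hwu : w = u
    · rw [hwu, Nat.beq_refl]; simp
    · rw [Bool.eq_false_iff.2 fun e => hwu (Nat.eq_of_beq_eq_true e)]; simp [hwu]
  · rw [decide_eq_false (by omega)]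
    simp only [Bool.false_and, Bool.false_bne]
    refine (Nat.testBit_lt_two_pow (lt_of_lt_of_le ?_
      (Nat.pow_le_pow_right (by norm_num) hi))).symm
    cases Nat.beq w u
    · exact Nat.two_pow_pos 2
    · exact hv

theorem get2_putL : ∀ (l : List (ℕ × ℕ)) (x u : ℕ), (∀ p ∈ l, p.2 < 4) →
    get2 (putL l x) u = selL l u (get2 x u)
  | [], _, _, _ => rfl
  | p :: l, x, u, hl => by
    show get2 (putL l (x ^^^ (p.2 <<< (2 * p.1)))) u = selL l u _
    rw [get2_putL l _ u fun q hq => hl q (List.mem_cons_of_mem _ hq),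
      get2_xor x (hl p List.mem_cons_self)]

theorem get2_one (col u : ℕ) : get2 (1 <<< (2 * col)) u = if u = col then 1 else 0 := by
  have h := get2_xor 0 (show (1 : ℕ) < 4 by norm_num) col u
  rw [Nat.zero_xor] at h
  rw [h, show get2 0 u = 0 by simp [get2], Nat.zero_xor]
  by_cases hu : u = col
  · rw [hu, Nat.beq_refl]; simp
  · rw [Bool.eq_false_iff.2 fun e => hu (Nat.eq_of_beq_eq_true e).symm]; simp [hu]

theorem selL_none : ∀ (l : List (ℕ × ℕ)) (u c : ℕ), (∀ p ∈ l, p.1 ≠ u ∨ p.2 = 0) → selL l u c = c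
  | [], _, _, _ => rfl
  | p :: l, u, c, h => by
    show selL l u (c ^^^ _) = c
    rw [selL_none l u _ fun q hq => h q (List.mem_cons_of_mem _ hq)]
    rcases h p List.mem_cons_self with h1 | h1
    · rw [Bool.eq_false_iff.2 fun e => h1 (Nat.eq_of_beq_eq_true e)]; simp
    · cases Nat.beq p.1 u <;> simp [h1]

theorem selL_range (f : ℕ → ℕ) (u c : ℕ) : ∀ n, selL ((List.range n).map fun i => (i, f i)) u c =
    c ^^^ (if u < n then f u else 0)
  | 0 => by simp [selL]
  | n + 1 => by
    rw [List.range_succ, List.map_append, selL, List.foldl_append]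
    show selL _ u c ^^^ (bif Nat.beq n u then f n else 0) = _
    rw [selL_range f u c n]
    by_cases hn : n = u
    · subst hn; rw [Nat.beq_refl]; simp
    · rw [Bool.eq_false_iff.2 fun e => hn (Nat.eq_of_beq_eq_true e)]
      by_cases hu : u < n
      · simp [hu, show u < n + 1 by omega]
      · simp [hu, show ¬ u < n + 1 by omega]

theorem chainCoeff_eq (r s u : ℕ) : chevE6.chainCoeff r s u =
    ((chainA r s).filter fun q => q.1.1 = u).map fun q => (q.2 + 1, q.1.2) := by
  simp only [ChevalleyDatum.chainCoeff, chainA, List.filter_flatMap, List.map_flatMap]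

theorem selL_chain (t u : ℕ) : ∀ (A : List ((ℕ × ℤ) × ℕ)) (c : ℕ),
    selL (A.map fun q => (6 + q.1.1, cmulC (icode q.1.2) (cpow t (q.2 + 1)))) (6 + u) c =
      (((A.filter fun q => q.1.1 = u).map fun q => (q.2 + 1, q.1.2)).map fun km =>
        cmulC (icode km.2) (cpow t km.1)).foldl Nat.xor c
  | [], _ => rfl
  | q :: A, c => by
    show selL _ (6 + u) (c ^^^ (bif Nat.beq (6 + q.1.1) (6 + u) then
      cmulC (icode q.1.2) (cpow t (q.2 + 1)) else 0)) = _
    rw [selL_chain t u A]
    by_cases hq : q.1.1 = u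
    · rw [hq, Nat.beq_refl]; simp [hq]
    · have hf : Nat.beq (6 + q.1.1) (6 + u) = false :=
        Bool.eq_false_iff.2 fun e => hq (by have := Nat.eq_of_beq_eq_true e; omega)
      rw [hf]; simp [hq]

theorem selL_colE (col row : ℕ) : ∀ (es : List (ℕ × ℕ × ℕ)) (c : ℕ),
    selL (colE es col) row c = (es.map fun e =>
      bif Nat.beq e.1 row && Nat.beq e.2.1 col then e.2.2 else 0).foldl Nat.xor c
  | [], _ => rfl
  | e :: es, c => by
    show selL (colE es col) row (c ^^^ _) = _
    rw [selL_colE col row es]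
    simp only [List.map_cons, List.foldl_cons]
    congr 1
    show c ^^^ _ = c ^^^ _
    congr 1
    cases Nat.beq e.1 row <;> simp

theorem neg_ne : ∀ r, r < 72 → chevE6.negIdx.getD r 0 ≠ r := by decide +kernel

theorem selL_colT {r : ℕ} (hr : r < 72) (t row col : ℕ) :
    selL (colT r t col) row (if row = col then 1 else 0) = entC r t row col := by
  unfold colT entC
  by_cases h6 : col < 6
  · rw [if_pos h6, if_pos h6]
    by_cases hrow : row < 6
    · rw [if_pos hrow, selL_none _ _ _ fun p hp => Or.inl (by simp at hp; subst hp; simp; omega)]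
    · rw [if_neg hrow, if_neg (show row ≠ col by omega)]
      by_cases he : row = 6 + r
      · subst he; simp [selL]
      · rw [if_neg he, selL_none _ _ _ fun p hp => Or.inl (by simp at hp; subst hp; exact Ne.symm he)]
  rw [if_neg h6, if_neg h6]
  by_cases hc : col = 6 + r
  · rw [if_pos hc, if_pos hc, hc]; rfl
  rw [if_neg hc, if_neg hc]
  by_cases hn : col = 6 + chevE6.negIdx.getD r 0
  · rw [if_pos hn, if_pos hn]
    rw [show ∀ (p : ℕ × ℕ) l c, selL (p :: l) row c =
      selL l row (c ^^^ (bif Nat.beq p.1 row then p.2 else 0)) from fun _ _ _ => rfl, selL_range]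
    have := neg_ne r hr
    by_cases hrow : row < 6
    · rw [if_pos hrow, if_pos hrow, if_neg (show row ≠ col by omega),
        Bool.eq_false_iff.2 fun e => (show (6 + r) ≠ row by omega) (Nat.eq_of_beq_eq_true e)]
      simp
    · rw [if_neg hrow, if_neg hrow]
      by_cases he : row = col
      · rw [if_pos he, if_pos he,
          Bool.eq_false_iff.2 fun e => (show (6 + r) ≠ row by omega) (Nat.eq_of_beq_eq_true e)]
        simp
      · rw [if_neg he, if_neg he]
        by_cases he2 : row = 6 + r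
        · rw [if_pos he2, he2, Nat.beq_refl]; simp
        · rw [if_neg he2, Bool.eq_false_iff.2 fun e => he2 (Nat.eq_of_beq_eq_true e).symm]; simp
  rw [if_neg hn, if_neg hn]
  by_cases hrow : row < 6
  · rw [if_pos hrow, if_neg (show row ≠ col by omega), selL_none]
    intro p hp
    obtain ⟨q, -, rfl⟩ := List.mem_map.1 hp
    exact Or.inl (by simp; omega)
  · rw [if_neg hrow]
    obtain ⟨u, rfl⟩ : ∃ u, row = 6 + u := ⟨row - 6, by omega⟩
    rw [selL_chain, chainCoeff_eq, Nat.add_sub_cancel_left]

theorem entOK_spec {r t : ℕ} {es : List (ℕ × ℕ × ℕ)} (h : entOK r t es = true) :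
    r < 72 ∧ t < 4 ∧ (∀ e ∈ es, e.2.2 < 4 ∧ e.2.1 < 78 ∧ e.1 < 78) ∧
      ∀ row col, col < 78 → entC r t row col = entL es row col := by
  simp only [entOK, Bool.and_eq_true, List.all_eq_true, List.mem_range, Nat.beq_eq] at h
  obtain ⟨⟨⟨hr, ht⟩, hes⟩, hcol⟩ := h
  have hlt : ∀ {a b : ℕ}, Nat.blt a b = true → a < b := fun e => Nat.le_of_ble_eq_true e
  refine ⟨hlt hr, hlt ht, fun e he => ⟨hlt (hes e he).1.1, hlt (hes e he).1.2, hlt (hes e he).2⟩,
    fun row col hc => ?_⟩
  have h1 := congrArg (fun x => get2 x row) (hcol col hc).2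
  rw [get2_putL _ _ _ fun p hp => hlt ((hcol col hc).1 p hp), get2_putL _ _ _ fun p hp => ?_,
    get2_one, selL_colT (hlt hr), selL_colE] at h1
  · exact h1
  · obtain ⟨e, he, rfl⟩ := List.mem_map.1 hp
    show (bif Nat.beq e.2.1 col then e.2.2 else 0) < 4
    cases Nat.beq e.2.1 col
    · exact Nat.zero_lt_succ _
    · exact hlt (hes e he).1.1

end Cfsg.Agent.H56.EMult
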