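import Mathlib

/-!
# Corestricted central extensions and commutators of lifts

For a normalised 2-cocycle on a subgroup `P` the corestriction is a central extension of `G`; the
commutator of lifts of commuting `x`, `y` is a sum over `G ⧸ P`, which is localised to the cosets fixed by
a 2-group centralizing both.
-/

set_option autoImplicit false
set_option linter.unusedSectionVars false
set_option linter.style.haveILetI false

namespace Cfsg.Agent.H56.EMult

open scoped Pointwise commutatorElement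

universe u v

/-- A normalised 2-cocycle with trivial action. -/
structure Coc (P : Type u) (A : Type v) [Group P] [AddCommGroup A] where
  /-- The values. -/
  c : P → P → A
  assoc : ∀ a b d, c a b + c (a * b) d = c b d + c a (b * d)
  one_left : ∀ a, c 1 a = 0
  one_right : ∀ a, c a 1 = 0

variable {P : Type u} {A : Type v} [Group P] [AddCommGroup A]

/-- The commutator of lifts. -/
def Coc.pr (C : Coc P A) (a b : P) : A := C.c a b - C.c b a

theorem Coc.inv_symm (C : Coc P A) (a : P) : C.c a⁻¹ a = C.c a a⁻¹ := by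
  have h := C.assoc a a⁻¹ a
  rw [mul_inv_cancel, inv_mul_cancel, C.one_left, C.one_right, add_zero, add_zero] at h
  exact h.symm

/-! ### The extension of a cocycle -/

/-- The central extension of a cocycle. -/
@[ext]
structure Ext (C : Coc P A) where
  /-- The kernel coordinate. -/
  a : A
  /-- The image. -/
  g : P

namespace Ext

variable {C : Coc P A}

instance : Mul (Ext C) := ⟨fun X Y => ⟨X.a + Y.a + C.c X.g Y.g, X.g * Y.g⟩⟩

instance : One (Ext C) := ⟨⟨0, 1⟩⟩

instance : Inv (Ext C) := ⟨fun X => ⟨-X.a - C.c X.g X.g⁻¹, X.g⁻¹⟩⟩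

theorem mul_a (X Y : Ext C) : (X * Y).a = X.a + Y.a + C.c X.g Y.g := rfl

theorem mul_g (X Y : Ext C) : (X * Y).g = X.g * Y.g := rfl

instance : Group (Ext C) :=
  Group.ofLeftAxioms
    (fun X Y Z => by
      refine Ext.ext ?_ (mul_assoc _ _ _)
      show X.a + Y.a + C.c X.g Y.g + Z.a + C.c (X.g * Y.g) Z.g =
        X.a + (Y.a + Z.a + C.c Y.g Z.g) + C.c X.g (Y.g * Z.g)
      have h := C.assoc X.g Y.g Z.g
      rw [show X.a + Y.a + C.c X.g Y.g + Z.a + C.c (X.g * Y.g) Z.g =
        X.a + Y.a + Z.a + (C.c X.g Y.g + C.c (X.g * Y.g) Z.g) by abel, h]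
      abel)
    (fun X => by
      refine Ext.ext ?_ (one_mul _)
      show 0 + X.a + C.c 1 X.g = X.a
      rw [C.one_left]; abel)
    (fun X => by
      refine Ext.ext ?_ (inv_mul_cancel _)
      show -X.a - C.c X.g X.g⁻¹ + X.a + C.c X.g⁻¹ X.g = 0
      rw [C.inv_symm]; abel)

/-- The projection. -/
def proj (C : Coc P A) : Ext C →* P where
  toFun := Ext.g
  map_one' := rfl
  map_mul' _ _ := rfl

/-- The kernel embedding. -/
def incl (C : Coc P A) : Multiplicative A →* Ext C where
  toFun a := ⟨a.toAdd, 1⟩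
  map_one' := rfl
  map_mul' a b := by
    refine Ext.ext ?_ (one_mul 1).symm
    show (a * b).toAdd = a.toAdd + b.toAdd + C.c 1 1
    rw [C.one_left, add_zero, toAdd_mul]

/-- Shifting by a kernel element. -/
def shift (a : A) (X : Ext C) : Ext C := incl C (Multiplicative.ofAdd a) * X

theorem shift_a (a : A) (X : Ext C) : (shift a X).a = a + X.a := by
  show a + X.a + C.c 1 X.g = _
  rw [C.one_left, add_zero]

theorem shift_g (a : A) (X : Ext C) : (shift a X).g = X.g := one_mul _

theorem incl_central (a : Multiplicative A) (X : Ext C) : incl C a * X = X * incl C a := by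
  refine Ext.ext ?_ ((one_mul _).trans (mul_one _).symm)
  show a.toAdd + X.a + C.c 1 X.g = X.a + a.toAdd + C.c X.g 1
  rw [C.one_left, C.one_right]; abel

theorem shift_mul (a : A) (X Y : Ext C) : shift a X * Y = shift a (X * Y) := mul_assoc _ _ _

theorem mul_shift (a : A) (X Y : Ext C) : X * shift a Y = shift a (X * Y) := by
  rw [shift, shift, ← mul_assoc, ← incl_central, mul_assoc]

theorem shift_shift (a b : A) (X : Ext C) : shift a (shift b X) = shift (a + b) X := by
  rw [shift, shift, shift, ← mul_assoc, ← map_mul]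
  rfl

theorem eq_shift {X Y : Ext C} (h : X.g = Y.g) : X = shift (X.a - Y.a) Y :=
  Ext.ext (by rw [shift_a, sub_add_cancel]) (h.trans (shift_g _ _).symm)

theorem proj_surjective : Function.Surjective (proj C) := fun p => ⟨⟨0, p⟩, rfl⟩

theorem incl_injective : Function.Injective (incl C) := fun a b h => by
  have := congrArg Ext.a h
  exact Multiplicative.toAdd.injective this

theorem range_incl : (incl C).range = (proj C).ker := by
  ext X
  constructor
  · rintro ⟨a, rfl⟩
    rfl
  · intro h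
    exact ⟨Multiplicative.ofAdd X.a, Ext.ext rfl (show (1 : P) = X.g from (MonoidHom.mem_ker.1 h).symm)⟩

/-- The commutator of lifts of commuting elements. -/
theorem commutator_eq (X Y : Ext C) (h : X.g * Y.g = Y.g * X.g) :
    ⁅X, Y⁆ = incl C (Multiplicative.ofAdd (C.pr X.g Y.g)) := by
  rw [commutatorElement_def, mul_inv_eq_iff_eq_mul, mul_inv_eq_iff_eq_mul, mul_assoc]
  refine Ext.ext ?_ ?_
  · show X.a + Y.a + C.c X.g Y.g = C.pr X.g Y.g + (Y.a + X.a + C.c Y.g X.g) + C.c 1 (Y.g * X.g)
    rw [C.one_left, Coc.pr]; abel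
  · show X.g * Y.g = 1 * (Y.g * X.g)
    rw [one_mul, h]

theorem finite [Finite A] [Finite P] (C : Coc P A) : Finite (Ext C) :=
  Finite.of_equiv (A × P) ⟨fun x => ⟨x.1, x.2⟩, fun X => (X.a, X.g), fun _ => rfl, fun _ => rfl⟩

end Ext

/-! ### Corestriction -/

section cor

variable {G : Type u} [Group G] {H : Subgroup G}

/-- A section of the coset map. -/
structure Sec (H : Subgroup G) where
  /-- The representatives. -/
  s : G ⧸ H → G
  spec : ∀ i, (s i : G ⧸ H) = i

/-- The standard section. -/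
noncomputable def Sec.std (H : Subgroup G) : Sec H := ⟨fun i => i.out, fun i => i.out_eq⟩

/-- The transfer coordinate. -/
def Sec.t (σ : Sec H) (g : G) (i : G ⧸ H) : ↥H :=
  ⟨(σ.s (g • i))⁻¹ * (g * σ.s i), QuotientGroup.eq.1 (by
    rw [σ.spec]
    conv_lhs => rw [← σ.spec i]
    rfl)⟩

theorem Sec.t_mul (σ : Sec H) (g h : G) (i : G ⧸ H) :
    σ.t (g * h) i = σ.t g (h • i) * σ.t h i := by
  refine Subtype.ext ?_
  show (σ.s ((g * h) • i))⁻¹ * (g * h * σ.s i) =
    (σ.s (g • h • i))⁻¹ * (g * σ.s (h • i)) * ((σ.s (h • i))⁻¹ * (h * σ.s i))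
  rw [mul_smul]; group

theorem Sec.t_one (σ : Sec H) (i : G ⧸ H) : σ.t 1 i = 1 := by
  refine Subtype.ext ?_
  show (σ.s ((1 : G) • i))⁻¹ * (1 * σ.s i) = 1
  rw [one_smul, one_mul, inv_mul_cancel]

variable [Finite G] (C : Coc ↥H A)

/-- The corestriction. -/
noncomputable def Coc.cor : Coc G A where
  c g h :=
    letI := Fintype.ofFinite (G ⧸ H)
    ∑ i : G ⧸ H, C.c ((Sec.std H).t g (h • i)) ((Sec.std H).t h i)
  assoc g h k := by
    letI := Fintype.ofFinite (G ⧸ H)
    rw [show (∑ i : G ⧸ H, C.c ((Sec.std H).t g (h • i)) ((Sec.std H).t h i)) =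
        ∑ i : G ⧸ H, C.c ((Sec.std H).t g (h • k • i)) ((Sec.std H).t h (k • i)) from
      (Equiv.sum_comp (MulAction.toPerm k)
        (fun i : G ⧸ H => C.c ((Sec.std H).t g (h • i)) ((Sec.std H).t h i))).symm,
      ← Finset.sum_add_distrib, ← Finset.sum_add_distrib]
    refine Finset.sum_congr rfl fun i _ => ?_
    rw [Sec.t_mul, Sec.t_mul, mul_smul]
    exact C.assoc _ _ _
  one_left g := by
    letI := Fintype.ofFinite (G ⧸ H)
    exact Finset.sum_eq_zero fun i _ => by rw [Sec.t_one, C.one_left]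
  one_right g := by
    letI := Fintype.ofFinite (G ⧸ H)
    exact Finset.sum_eq_zero fun i _ => by rw [Sec.t_one, C.one_right]

/-- The commutator value of a pair in the corestricted extension. -/
noncomputable def total (C : Coc ↥H A) (x y : G) : A := C.cor.pr x y

/-- The corestricted central extension. -/
theorem exists_extension [Finite A] (C : Coc ↥H A) :
    ∃ (E : Type max u v) (_ : Group E) (_ : Finite E) (sigma : E →* G) (iota : Multiplicative A →* E),
      Function.Surjective sigma ∧ Function.Injective iota ∧ iota.range = sigma.ker ∧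
        (∀ a X, iota a * X = X * iota a) ∧
        ∀ X Y : E, sigma X * sigma Y = sigma Y * sigma X →
          ⁅X, Y⁆ = iota (Multiplicative.ofAdd (total C (sigma X) (sigma Y))) :=
  ⟨Ext C.cor, inferInstance, Ext.finite _, Ext.proj _, Ext.incl _, Ext.proj_surjective,
    Ext.incl_injective, Ext.range_incl, Ext.incl_central, fun X Y h => Ext.commutator_eq X Y h⟩

/-! ### Localisation -/

/-- The local discrepancy. -/
def loc (C : Coc ↥H A) (σ : Sec H) (x y : G) (i : G ⧸ H) : A :=
  C.c (σ.t x (y • i)) (σ.t y i) - C.c (σ.t y (x • i)) (σ.t x i)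

/-- Local discrepancies summed over a set of cosets. -/
def locSum (C : Coc ↥H A) (σ : Sec H) (x y : G) (T : Finset (G ⧸ H)) : A := ∑ i ∈ T, loc C σ x y i

theorem total_eq [Fintype (G ⧸ H)] (x y : G) :
    total C x y = locSum C (Sec.std H) x y Finset.univ := by
  show C.cor.c x y - C.cor.c y x = _
  unfold locSum loc Coc.cor
  rw [Finset.sum_sub_distrib]
  congr 1 <;> exact Finset.sum_congr (by ext; simp) fun _ _ => rfl

/-- Invariance of a set of cosets. -/
def Stable (x y : G) (T : Finset (G ⧸ H)) : Prop :=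
  (∀ i, x • i ∈ T ↔ i ∈ T) ∧ ∀ i, y • i ∈ T ↔ i ∈ T

variable {x y : G} (hxy : x * y = y * x)

include hxy in
/-- The sum over a stable set does not depend on the section. -/
theorem locSum_congr {T : Finset (G ⧸ H)} (hT : Stable x y T) (σ τ : Sec H) :
    locSum C σ x y T = locSum C τ x y T := by
  let q : G ⧸ H → ↥H := fun i =>
    ⟨(σ.s i)⁻¹ * τ.s i, QuotientGroup.eq.1 ((σ.spec i).trans (τ.spec i).symm)⟩
  have ht : ∀ g i, τ.t g i = (q (g • i))⁻¹ * σ.t g i * q i := fun g i => Subtype.ext (by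
    show (τ.s (g • i))⁻¹ * (g * τ.s i) =
      ((σ.s (g • i))⁻¹ * τ.s (g • i))⁻¹ * ((σ.s (g • i))⁻¹ * (g * σ.s i)) * ((σ.s i)⁻¹ * τ.s i)
    group)
  let L : ↥H → Ext C := fun p => ⟨0, p⟩
  let α : G → G ⧸ H → A := fun g i => -((L (q (g • i)))⁻¹ * L (σ.t g i) * L (q i)).a
  have hL : ∀ g i, L (τ.t g i) = Ext.shift (α g i) ((L (q (g • i)))⁻¹ * L (σ.t g i) * L (q i)) := by
    intro g i
    refine Ext.ext ?_ ?_
    · rw [Ext.shift_a]
      exact (neg_add_cancel _).symm
    · rw [Ext.shift_g]
      exact ht g i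
  have hloc : ∀ (ρ : Sec H) i, L (ρ.t x (y • i)) * L (ρ.t y i) =
      Ext.shift (loc C ρ x y i) (L (ρ.t y (x • i)) * L (ρ.t x i)) := by
    intro ρ i
    refine Ext.ext ?_ ?_
    · rw [Ext.shift_a, Ext.mul_a, Ext.mul_a]
      simp [L, loc]
    · rw [Ext.shift_g, Ext.mul_g, Ext.mul_g]
      show ρ.t x (y • i) * ρ.t y i = ρ.t y (x • i) * ρ.t x i
      rw [← Sec.t_mul, ← Sec.t_mul, hxy]
  have key : ∀ i, loc C τ x y i =
      loc C σ x y i + (α x (y • i) - α x i) + (α y i - α y (x • i)) := by
    intro i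
    set Q := L (q i) with hQ
    set Q' := L (q (x • y • i)) with hQ'
    have hcomm : y • x • i = x • y • i := by rw [← mul_smul, ← mul_smul, hxy]
    have h1 := hloc τ i
    rw [hL x (y • i), hL y i, hL y (x • i), hL x i, hcomm] at h1
    simp only [Ext.shift_mul, Ext.mul_shift, Ext.shift_shift] at h1
    have e1 : (Q'⁻¹ * L (σ.t x (y • i)) * L (q (y • i))) *
        ((L (q (y • i)))⁻¹ * L (σ.t y i) * Q) =
        Ext.shift (loc C σ x y i) (Q'⁻¹ * L (σ.t y (x • i)) * L (q (x • i)) *
          ((L (q (x • i)))⁻¹ * L (σ.t x i) * Q)) := by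
      rw [show (Q'⁻¹ * L (σ.t x (y • i)) * L (q (y • i))) *
          ((L (q (y • i)))⁻¹ * L (σ.t y i) * Q) =
          Q'⁻¹ * (L (σ.t x (y • i)) * L (σ.t y i)) * Q by group,
        hloc σ i, Ext.mul_shift, Ext.shift_mul]
      congr 1
      group
    rw [← hQ', ← hQ, e1, Ext.shift_shift] at h1
    have h2 := congrArg Ext.a h1
    rw [Ext.shift_a, Ext.shift_a, add_left_inj] at h2
    rw [eq_comm, ← sub_eq_zero] at h2
    rw [← sub_eq_zero]
    refine Eq.trans ?_ h2
    abel
  unfold locSum
  rw [Finset.sum_congr rfl fun i (_ : i ∈ T) => key i, Finset.sum_add_distrib, Finset.sum_add_distrib,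
    Finset.sum_sub_distrib, Finset.sum_sub_distrib]
  have e2 : ∑ i ∈ T, α x (y • i) = ∑ i ∈ T, α x i :=
    Finset.sum_equiv (MulAction.toPerm y) (fun i => (hT.2 i).symm) fun i _ => rfl
  have e3 : ∑ i ∈ T, α y (x • i) = ∑ i ∈ T, α y i :=
    Finset.sum_equiv (MulAction.toPerm x) (fun i => (hT.1 i).symm) fun i _ => rfl
  rw [e2, e3, sub_self, sub_self, add_zero, add_zero]

include hxy in
/-- Translation by an element centralizing `x` and `y`. -/
theorem locSum_smul [DecidableEq (G ⧸ H)] {T : Finset (G ⧸ H)} (hT : Stable x y T) {a : G}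
    (hax : a * x = x * a) (hay : a * y = y * a) (σ : Sec H) :
    locSum C σ x y (a • T) = locSum C σ x y T := by
  let τ : Sec H := ⟨fun i => a * σ.s (a⁻¹ • i), fun i => by
    show a • ((σ.s (a⁻¹ • i) : G) : G ⧸ H) = i
    rw [σ.spec, smul_inv_smul]⟩
  have ht : ∀ g, a * g = g * a → ∀ i, τ.t g (a • i) = σ.t g i := fun g hg i => Subtype.ext (by
    show (a * σ.s (a⁻¹ • g • a • i))⁻¹ * (g * (a * σ.s (a⁻¹ • a • i))) = _
    rw [inv_smul_smul, smul_smul g a, ← hg, mul_smul, inv_smul_smul, ← mul_assoc g a, ← hg]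
    show _ = (σ.s (g • i))⁻¹ * (g * σ.s i)
    group)
  have hst : Stable x y (a • T) := by
    constructor <;> intro i <;> rw [← Finset.inv_smul_mem_iff, ← Finset.inv_smul_mem_iff (a := a)]
    · rw [smul_smul, show a⁻¹ * x = x * a⁻¹ from (Commute.inv_left (a := a) hax).eq, mul_smul]
      exact hT.1 _
    · rw [smul_smul, show a⁻¹ * y = y * a⁻¹ from (Commute.inv_left (a := a) hay).eq, mul_smul]
      exact hT.2 _
  rw [locSum_congr C hxy hst σ τ]
  unfold locSum
  rw [Finset.smul_finset_def, Finset.sum_image fun i _ j _ h => smul_left_cancel a h]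
  refine Finset.sum_congr rfl fun i _ => ?_
  have h1 : x • a • i = a • x • i := by rw [smul_smul, smul_smul, hax]
  have h2 : y • a • i = a • y • i := by rw [smul_smul, smul_smul, hay]
  unfold loc
  rw [h1, h2, ht x hax, ht x hax, ht y hay, ht y hay]

/-- `pr` extended by zero. -/
noncomputable def prG (C : Coc ↥H A) (a b : G) : A :=
  haveI := Classical.dec (a ∈ H ∧ b ∈ H)
  if h : a ∈ H ∧ b ∈ H then C.pr ⟨a, h.1⟩ ⟨b, h.2⟩ else 0

theorem prG_of_mem {a b : G} (ha : a ∈ H) (hb : b ∈ H) : prG C a b = C.pr ⟨a, ha⟩ ⟨b, hb⟩ :=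
  dif_pos ⟨ha, hb⟩

theorem prG_coe (a b : ↥H) : prG C (a : G) b = C.pr a b := prG_of_mem C a.2 b.2

/-- A section with prescribed values on a set. -/
theorem exists_sec (T : Set (G ⧸ H)) (f : G ⧸ H → G) (hf : ∀ i ∈ T, (f i : G ⧸ H) = i) :
    ∃ σ : Sec H, ∀ i ∈ T, σ.s i = f i := by
  classical
  refine ⟨⟨fun i => if i ∈ T then f i else i.out, fun i => ?_⟩, fun i hi => if_pos hi⟩
  split_ifs with h
  · exact hf i h
  · exact i.out_eq

include hxy in
/-- A common fixed coset. -/
theorem locSum_single {i : G ⧸ H} (hx : x • i = i) (hy : y • i = i) {g : G}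
    (hg : (g : G ⧸ H) = i) (σ : Sec H) :
    locSum C σ x y {i} = prG C (g⁻¹ * x * g) (g⁻¹ * y * g) := by
  have hT : Stable x y ({i} : Finset (G ⧸ H)) := by
    constructor <;> intro j <;> rw [Finset.mem_singleton, Finset.mem_singleton]
    · exact ⟨fun h => smul_left_cancel x (h.trans hx.symm), fun h => by rw [h, hx]⟩
    · exact ⟨fun h => smul_left_cancel y (h.trans hy.symm), fun h => by rw [h, hy]⟩
  obtain ⟨τ, hτ⟩ := exists_sec ({i} : Set (G ⧸ H)) (fun _ => g) (by rintro j rfl; exact hg)
  rw [locSum_congr C hxy hT σ τ, locSum, Finset.sum_singleton, loc, hx, hy]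
  have e : ∀ k, k • i = i → ((τ.t k i : ↥H) : G) = g⁻¹ * k * g := fun k hk => by
    show (τ.s (k • i))⁻¹ * (k * τ.s i) = _
    rw [hk, hτ i rfl, mul_assoc]
  rw [← e x hx, ← e y hy, prG_coe]
  rfl

include hxy in
/-- A two-cycle of `x` fixed by `y`. -/
theorem locSum_pair [DecidableEq (G ⧸ H)] {i : G ⧸ H} (hx : x • i ≠ i) (hx2 : x • x • i = i)
    (hy : y • i = i) {g : G} (hg : (g : G ⧸ H) = i) (σ : Sec H) :
    locSum C σ x y {i, x • i} = prG C (g⁻¹ * (x * x) * g) (g⁻¹ * y * g) := by
  have hyx : y • x • i = x • i := by rw [← mul_smul, ← hxy, mul_smul, hy]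
  have hT : Stable x y ({i, x • i} : Finset (G ⧸ H)) := by
    constructor <;> intro j <;> simp only [Finset.mem_insert, Finset.mem_singleton]
    · constructor
      · rintro (h | h)
        · exact Or.inr (smul_left_cancel x (h.trans hx2.symm))
        · exact Or.inl (smul_left_cancel x h)
      · rintro (rfl | rfl)
        · exact Or.inr rfl
        · exact Or.inl hx2
    · constructor
      · rintro (h | h)
        · exact Or.inl (smul_left_cancel y (h.trans hy.symm))
        · exact Or.inr (smul_left_cancel y (h.trans hyx.symm))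
      · rintro (rfl | rfl)
        · exact Or.inl hy
        · exact Or.inr hyx
  obtain ⟨τ, hτ⟩ := exists_sec ({i, x • i} : Set (G ⧸ H)) (fun j => if j = i then g else x * g) (by
    rintro j (rfl | rfl)
    · rw [if_pos rfl]; exact hg
    · rw [if_neg hx, ← hg]; rfl)
  have hi : τ.s i = g := (hτ i (Or.inl rfl)).trans (if_pos rfl)
  have hxi : τ.s (x • i) = x * g := (hτ _ (Or.inr rfl)).trans (if_neg hx)
  rw [locSum_congr C hxy hT σ τ, locSum, Finset.sum_pair (Ne.symm hx)]
  unfold loc
  rw [hy, hyx, hx2]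
  have t1 : τ.t x i = 1 := Subtype.ext (by
    show (τ.s (x • i))⁻¹ * (x * τ.s i) = 1
    rw [hxi, hi, inv_mul_cancel])
  have t2 : τ.t y (x • i) = τ.t y i := Subtype.ext (by
    show (τ.s (y • x • i))⁻¹ * (y * τ.s (x • i)) = (τ.s (y • i))⁻¹ * (y * τ.s i)
    rw [hyx, hy, hxi, hi, show y * (x * g) = x * (y * g) by rw [← mul_assoc, ← mul_assoc, hxy]]
    group)
  have t3 : ((τ.t x (x • i) : ↥H) : G) = g⁻¹ * (x * x) * g := by
    show (τ.s (x • x • i))⁻¹ * (x * τ.s (x • i)) = _
    rw [hx2, hi, hxi]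
    group
  have t4 : ((τ.t y i : ↥H) : G) = g⁻¹ * y * g := by
    show (τ.s (y • i))⁻¹ * (y * τ.s i) = _
    rw [hy, hi, mul_assoc]
  rw [← t3, ← t4, prG_coe, t1, t2, C.one_left, C.one_right, sub_self, zero_add]
  rfl

variable [Fintype (G ⧸ H)]

open Classical in
include hxy in
/-- Cosets moved by an involution contribute nothing. -/
theorem locSum_moved (hy2 : y * y = 1) (σ : Sec H) :
    locSum C σ x y ({i | y • i ≠ i} : Finset (G ⧸ H)) = 0 := by
  have hyy : ∀ i : G ⧸ H, y • y • i = i := fun i => by rw [smul_smul, hy2, one_smul]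
  have hxy' : ∀ i : G ⧸ H, y • x • i = x • y • i := fun i => by rw [smul_smul, smul_smul, hxy]
  have hT : Stable x y ({i | y • i ≠ i} : Finset (G ⧸ H)) := by
    constructor <;> intro i <;> simp only [Finset.mem_filter, Finset.mem_univ, true_and, hxy', hyy,
      ne_eq]
    · rw [smul_left_cancel_iff]
    · exact ⟨fun h h' => h h'.symm, fun h h' => h h'.symm⟩
  let n := Fintype.equivFin (G ⧸ H)
  obtain ⟨τ, hτ⟩ := exists_sec {i : G ⧸ H | y • i ≠ i}
    (fun i => if n i < n (y • i) then σ.s i else y * σ.s (y • i)) (fun i _ => by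
      split_ifs
      · exact σ.spec i
      · show y • ((σ.s (y • i) : G) : G ⧸ H) = i
        rw [σ.spec, hyy])
  have ht : ∀ i, y • i ≠ i → τ.t y i = 1 := fun i hi => Subtype.ext (by
    show (τ.s (y • i))⁻¹ * (y * τ.s i) = 1
    rw [hτ i hi, hτ (y • i) (show y • y • i ≠ y • i by rw [hyy]; exact Ne.symm hi), hyy]
    rcases lt_or_gt_of_ne (fun h => hi (n.injective h).symm : n i ≠ n (y • i)) with h | h
    · rw [if_pos h, if_neg h.not_gt, inv_mul_cancel]
    · rw [if_neg h.not_gt, if_pos h, ← mul_assoc y y, hy2, one_mul, inv_mul_cancel])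
  rw [locSum_congr C hxy hT σ τ]
  refine Finset.sum_eq_zero fun i hi => ?_
  have hi' : y • i ≠ i := (Finset.mem_filter.1 hi).2
  rw [loc, ht i hi', ht (x • i) (by rw [hxy']; exact fun h => hi' (smul_left_cancel x h)), C.one_left,
    C.one_right, sub_self]

open Classical in
include hxy in
/-- Four-cycles of `x` inside the fixed cosets of `y` contribute nothing. -/
theorem locSum_four (hx4 : x ^ 4 = 1) (σ : Sec H) :
    locSum C σ x y ({i | y • i = i ∧ x • x • i ≠ i} : Finset (G ⧸ H)) = 0 := by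
  have hxy' : ∀ i : G ⧸ H, y • x • i = x • y • i := fun i => by rw [smul_smul, smul_smul, hxy]
  have hT : Stable x y ({i | y • i = i ∧ x • x • i ≠ i} : Finset (G ⧸ H)) := by
    constructor <;> intro i <;> simp only [Finset.mem_filter, Finset.mem_univ, true_and, hxy',
      ne_eq, smul_left_cancel_iff]
    constructor
    · rintro ⟨h1, h2⟩
      rw [h1] at h2
      exact ⟨h1, h2⟩
    · rintro ⟨h1, h2⟩
      rw [h1]
      exact ⟨rfl, h2⟩
  have hfree : ∀ r : G ⧸ H, x • x • r ≠ r → ∀ d : ℕ, x ^ d • r = r → x ^ d = 1 := by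
    intro r hr d hd
    rw [pow_eq_pow_mod d hx4] at hd ⊢
    have := Nat.mod_lt d (show 0 < 4 by omega)
    interval_cases h : d % 4
    · exact pow_zero x
    · rw [pow_one] at hd; exact absurd (by rw [hd, hd]) hr
    · rw [pow_two, mul_smul] at hd; exact absurd hd hr
    · have h1 : x • r = r := by
        conv_lhs => rw [← hd]
        rw [smul_smul, ← pow_succ', hx4, one_smul]
      exact absurd (by rw [h1, h1]) hr
  let cyc : G ⧸ H → Finset (G ⧸ H) := fun i => (Finset.range 4).image fun d => x ^ d • i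
  have hne : ∀ i, (cyc i).Nonempty := fun i => Finset.Nonempty.image ⟨0, by simp⟩ _
  have hcyc : ∀ i, cyc (x • i) = cyc i := fun i => by
    ext j
    simp only [cyc, Finset.mem_image, Finset.mem_range, smul_smul, ← pow_succ]
    constructor
    · rintro ⟨d, hd, rfl⟩
      exact ⟨(d + 1) % 4, Nat.mod_lt _ (by norm_num), by rw [← pow_eq_pow_mod _ hx4]⟩
    · rintro ⟨d, hd, rfl⟩
      exact ⟨(d + 3) % 4, Nat.mod_lt _ (by norm_num), by
        rw [pow_succ, ← pow_eq_pow_mod _ hx4, ← pow_succ, show d + 3 + 1 = d + 4 by ring, pow_add, hx4,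
          mul_one]⟩
  let n := Fintype.equivFin (G ⧸ H)
  let r : G ⧸ H → G ⧸ H := fun i => n.symm (((cyc i).image n).min' ((hne i).image _))
  have hr : ∀ i, ∃ d : ℕ, x ^ d • r i = i := fun i => by
    obtain ⟨j, hj, hjr⟩ := Finset.mem_image.1 (((cyc i).image n).min'_mem ((hne i).image _))
    have hjr' : r i = j := by simp only [r, ← hjr, n.symm_apply_apply]
    obtain ⟨d, hd, hdj⟩ := Finset.mem_image.1 hj
    rw [Finset.mem_range] at hd
    refine ⟨4 - d, ?_⟩
    rw [hjr', ← hdj, smul_smul, ← pow_add, Nat.sub_add_cancel hd.le, hx4, one_smul]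
  have hrx : ∀ i, r (x • i) = r i := fun i => by simp only [r, hcyc]
  choose e he using hr
  obtain ⟨τ, hτ⟩ := exists_sec {i : G ⧸ H | y • i = i ∧ x • x • i ≠ i}
    (fun i => x ^ e i * σ.s (r i)) (fun i _ => by
      show x ^ e i • ((σ.s (r i) : G) : G ⧸ H) = i
      rw [σ.spec, he])
  rw [locSum_congr C hxy hT σ τ]
  refine Finset.sum_eq_zero fun i hi => ?_
  have hi' := (Finset.mem_filter.1 hi).2
  have hxi : y • x • i = x • i ∧ x • x • x • i ≠ x • i :=
    ⟨by rw [hxy', hi'.1], fun h => hi'.2 (smul_left_cancel x h)⟩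
  have ht : τ.t x i = 1 := Subtype.ext (by
    show (τ.s (x • i))⁻¹ * (x * τ.s i) = 1
    rw [hτ i hi', hτ _ hxi, hrx, ← mul_assoc x, ← pow_succ']
    have hpow : x ^ e (x • i) = x ^ (e i + 1) := by
      have h0 : x • x • r i ≠ r i := fun h => hi'.2 (by
        conv_lhs => rw [← he i]
        rw [smul_smul, smul_smul,
          show x * x * x ^ e i = x ^ e i * (x * x) from
            (((Commute.refl x).pow_right (e i)).mul_left ((Commute.refl x).pow_right (e i))).eq,
          mul_smul, mul_smul, h, he i])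
      have h1 : x ^ (e i + 1) • r i = x ^ e (x • i) • r i := by
        rw [pow_succ', mul_smul, he, ← hrx i, he]
      have h2 : x ^ (e i + 1 + 3 * e (x • i)) = 1 := hfree _ h0 _ (by
        rw [add_comm, pow_add, mul_smul, h1, smul_smul, ← pow_add,
          show 3 * e (x • i) + e (x • i) = 4 * e (x • i) by ring, pow_mul, hx4, one_pow, one_smul])
      calc x ^ e (x • i) = x ^ (e i + 1 + 3 * e (x • i)) * x ^ e (x • i) := by rw [h2, one_mul]
        _ = x ^ (e i + 1) * (x ^ 4) ^ e (x • i) := by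
            rw [← pow_add, ← pow_mul, ← pow_add]
            congr 1
            ring
        _ = x ^ (e i + 1) := by rw [hx4, one_pow, mul_one]
    rw [hpow, inv_mul_cancel])
  rw [loc, hi'.1, ht, C.one_left, C.one_right, sub_self]

/-- In exponent two, an invariant sum over a set acted on by a 2-group reduces to the fixed elements. -/
theorem sum_eq_sum_fixed {S : Type*} [Group S] [Finite S] (hS : IsPGroup 2 S) {α : Type*}
    [MulAction S α] [DecidableEq α] (h2 : ∀ a : A, a + a = 0) (f : α → A) (T : Finset α)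
    (hT : ∀ (s : S) i, i ∈ T → s • i ∈ T) (hf : ∀ (s : S) i, i ∈ T → f (s • i) = f i)
    [DecidablePred fun i : α => ∀ s : S, s • i = i] :
    ∑ i ∈ T, f i = ∑ i ∈ T with ∀ s : S, s • i = i, f i := by
  classical
  haveI : Fact (Nat.Prime 2) := ⟨Nat.prime_two⟩
  haveI := Fintype.ofFinite S
  induction T using Finset.strongInduction with
  | H T ih =>
    by_cases hall : ∀ i ∈ T, ∀ s : S, s • i = i
    · rw [Finset.filter_true_of_mem hall]
    push Not at hall
    obtain ⟨i, hi, s, hs⟩ := hall
    set O := Finset.univ.image fun t : S => t • i with hO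
    have hOT : O ⊆ T := fun j hj => by
      obtain ⟨t, -, rfl⟩ := Finset.mem_image.1 hj
      exact hT t i hi
    have hsum : ∑ j ∈ O, f j = 0 := by
      rw [Finset.sum_congr rfl fun j hj => show f j = f i by
        obtain ⟨t, -, rfl⟩ := Finset.mem_image.1 hj
        exact hf t i hi, Finset.sum_const]
      haveI : Finite (MulAction.orbit S i) := Set.finite_range _ |>.to_subtype
      obtain ⟨k, hk⟩ := hS.card_orbit i
      have hcard : O.card = 2 ^ k := by
        rw [← hk, ← Nat.card_eq_finsetCard O]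
        exact Nat.card_congr (Equiv.subtypeEquivRight fun j => by simp [hO, MulAction.mem_orbit_iff])
      rw [hcard]
      rcases k with _ | k
      · exfalso
        rw [pow_zero, Finset.card_eq_one] at hcard
        obtain ⟨j, hj⟩ := hcard
        have h1 : s • i ∈ O := Finset.mem_image_of_mem _ (Finset.mem_univ s)
        have h3 : (1 : S) • i ∈ O :=
          Finset.mem_image_of_mem (fun t : S => t • i) (Finset.mem_univ (1 : S))
        rw [one_smul] at h3
        rw [hj, Finset.mem_singleton] at h1 h3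
        exact hs (h1.trans h3.symm)
      · rw [pow_succ, mul_nsmul, two_nsmul, h2]
    have hlt : T \ O ⊂ T := Finset.sdiff_ssubset hOT ⟨i, Finset.mem_image.2 ⟨1, Finset.mem_univ _, one_smul S i⟩⟩
    have hinv : ∀ (t : S) j, j ∈ T \ O → t • j ∈ T \ O := fun t j hj => by
      rw [Finset.mem_sdiff] at hj ⊢
      refine ⟨hT t j hj.1, fun h => hj.2 ?_⟩
      obtain ⟨t', -, ht'⟩ := Finset.mem_image.1 h
      exact Finset.mem_image.2 ⟨t⁻¹ * t', Finset.mem_univ _, by rw [mul_smul, ht', inv_smul_smul]⟩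
    rw [← Finset.sum_sdiff hOT, hsum, add_zero,
      ih _ hlt hinv fun t j hj => hf t j (Finset.mem_sdiff.1 hj).1]
    refine Finset.sum_congr (Finset.ext fun j => ?_) fun _ _ => rfl
    simp only [Finset.mem_filter, Finset.mem_sdiff]
    refine ⟨fun h => ⟨h.1.1, h.2⟩, fun h => ⟨⟨h.1, fun hj => ?_⟩, h.2⟩⟩
    obtain ⟨t, -, rfl⟩ := Finset.mem_image.1 hj
    have h1 := h.2 t⁻¹
    rw [inv_smul_smul] at h1
    rw [← h1] at h
    exact hs (h.2 s)

/-- A two-cycle of `x` in the fixed cosets of `y` which is kept by `S`. -/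
def PairFixed (S : Subgroup G) (x y : G) (i : G ⧸ H) : Prop :=
  y • i = i ∧ x • i ≠ i ∧ x • x • i = i ∧ ∀ a ∈ S, a • i = i ∨ a • i = x • i

include hxy in
/-- The commutator value from the fixed cosets and fixed pairs of a 2-group. -/
theorem total_eval (h2 : ∀ a : A, a + a = 0) (hy2 : y * y = 1) (hx4 : x ^ 4 = 1)
    (S : Subgroup G) (hS : IsPGroup 2 ↥S) (hxS : x ∈ S) (hyS : y ∈ S)
    (hSx : ∀ a ∈ S, a * x = x * a) (hSy : ∀ a ∈ S, a * y = y * a)
    {ι κ : Type*} [Fintype ι] [Fintype κ] (g : ι → G) (h : κ → G)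
    (hginj : Function.Injective fun a => (g a : G ⧸ H))
    (hg : ∀ i : G ⧸ H, (∃ a, (g a : G ⧸ H) = i) ↔ ∀ s ∈ S, s • i = i)
    (hh : ∀ b, PairFixed S x y (h b : G ⧸ H))
    (hhinj : ∀ b b', ((h b : G ⧸ H) = h b' ∨ (h b : G ⧸ H) = x • (h b' : G ⧸ H)) → b = b')
    (hhsurj : ∀ i : G ⧸ H, PairFixed S x y i → ∃ b, (h b : G ⧸ H) = i ∨ (h b : G ⧸ H) = x • i) :
    total C x y = (∑ a, prG C ((g a)⁻¹ * x * g a) ((g a)⁻¹ * y * g a)) +
      ∑ b, prG C ((h b)⁻¹ * (x * x) * h b) ((h b)⁻¹ * y * h b) := by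
  classical
  set σ := Sec.std H
  have hsd : ∀ (s : ↥S) (i : G ⧸ H), s • i = (s : G) • i := fun _ _ => rfl
  have hxy' : ∀ i : G ⧸ H, y • x • i = x • y • i := fun i => by rw [smul_smul, smul_smul, hxy]
  have hcomm : ∀ a ∈ S, ∀ i : G ⧸ H, y • a • i = a • y • i ∧ x • a • i = a • x • i := fun a ha i =>
    ⟨by rw [smul_smul, smul_smul, hSy a ha], by rw [smul_smul, smul_smul, hSx a ha]⟩
  rw [total_eq]
  -- split by the action of `y` and the cycle length of `x`
  set M : Finset (G ⧸ H) := {i | y • i ≠ i}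
  set F1 : Finset (G ⧸ H) := {i | y • i = i ∧ x • i = i}
  set F2 : Finset (G ⧸ H) := {i | y • i = i ∧ x • i ≠ i ∧ x • x • i = i} with hF2
  set F4 : Finset (G ⧸ H) := {i | y • i = i ∧ x • x • i ≠ i}
  have hsplit : locSum C σ x y Finset.univ =
      locSum C σ x y F1 + locSum C σ x y F2 + locSum C σ x y M + locSum C σ x y F4 := by
    unfold locSum
    rw [← Finset.sum_union, ← Finset.sum_union, ← Finset.sum_union]
    · refine Finset.sum_congr (Finset.ext fun i => ?_) fun _ _ => rfl
      simp only [M, F1, F2, F4, Finset.mem_union, Finset.mem_filter, Finset.mem_univ, true_and]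
      constructor
      · intro _
        by_cases h1 : y • i = i
        · by_cases h3 : x • i = i
          · exact Or.inl (Or.inl (Or.inl ⟨h1, h3⟩))
          · by_cases h5 : x • x • i = i
            · exact Or.inl (Or.inl (Or.inr ⟨h1, h3, h5⟩))
            · exact Or.inr ⟨h1, h5⟩
        · exact Or.inl (Or.inr h1)
      · intro _; trivial
    · rw [Finset.disjoint_left]
      intro i hi h'
      simp only [M, F1, F2, F4, Finset.mem_union, Finset.mem_filter, Finset.mem_univ, true_and] at hi h'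
      rcases hi with (⟨-, e⟩ | ⟨-, -, e⟩) | e
      · exact h'.2 (by rw [e, e])
      · exact h'.2 e
      · exact e h'.1
    · rw [Finset.disjoint_left]
      intro i hi h'
      simp only [M, F1, F2, Finset.mem_union, Finset.mem_filter, Finset.mem_univ, true_and] at hi h'
      rcases hi with ⟨e, -⟩ | ⟨e, -⟩ <;> exact h' e
    · rw [Finset.disjoint_left]
      intro i hi h'
      simp only [F1, F2, Finset.mem_filter, Finset.mem_univ, true_and] at hi h'
      exact h'.2.1 hi.2
  rw [hsplit, locSum_moved C hxy hy2, locSum_four C hxy hx4, add_zero, add_zero]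
  congr 1
  · -- fixed cosets
    have hsum : locSum C σ x y F1 = ∑ i ∈ F1, locSum C σ x y {i} := by simp [locSum]
    rw [hsum, sum_eq_sum_fixed hS h2 (fun i => locSum C σ x y {i}) F1
      (fun s i hi => by
        simp only [F1, Finset.mem_filter, Finset.mem_univ, true_and, hsd] at hi ⊢
        rw [(hcomm _ s.2 i).1, (hcomm _ s.2 i).2, hi.1, hi.2]
        exact ⟨rfl, rfl⟩)
      (fun s i hi => by
        simp only [F1, Finset.mem_filter, Finset.mem_univ, true_and] at hi
        have hT : Stable x y ({i} : Finset (G ⧸ H)) := by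
          constructor <;> intro j <;> rw [Finset.mem_singleton, Finset.mem_singleton]
          · exact ⟨fun h => smul_left_cancel x (h.trans hi.2.symm), fun h => by rw [h, hi.2]⟩
          · exact ⟨fun h => smul_left_cancel y (h.trans hi.1.symm), fun h => by rw [h, hi.1]⟩
        rw [← locSum_smul C hxy hT (hSx s s.2) (hSy s s.2) σ, Finset.smul_finset_singleton]
        rfl)]
    symm
    refine Finset.sum_bij (fun a _ => (g a : G ⧸ H)) (fun a _ => ?_) (fun a _ b _ hab => hginj hab)
      (fun i hi => ?_) (fun a _ => ?_)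
    · have h1 := (hg _).1 ⟨a, rfl⟩
      simp only [F1, Finset.mem_filter, Finset.mem_univ, true_and]
      exact ⟨⟨h1 y hyS, h1 x hxS⟩, fun s => h1 s s.2⟩
    · obtain ⟨a, ha⟩ := (hg i).2 fun s hs => (Finset.mem_filter.1 hi).2 ⟨s, hs⟩
      exact ⟨a, Finset.mem_univ a, ha⟩
    · have h1 := (hg _).1 ⟨a, rfl⟩
      exact (locSum_single C hxy (h1 x hxS) (h1 y hyS) rfl σ).symm
  · -- pairs
    set pairs := F2.image fun i => ({i, x • i} : Finset (G ⧸ H)) with hpairs
    have hdisj : ∀ T ∈ pairs, ({i ∈ F2 | ({i, x • i} : Finset (G ⧸ H)) = T} : Finset (G ⧸ H)) = T := by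
      intro T hT
      obtain ⟨j, hj, rfl⟩ := Finset.mem_image.1 hT
      simp only [hF2, Finset.mem_filter, Finset.mem_univ, true_and] at hj
      obtain ⟨hj1, hj2, hj3⟩ := hj
      ext i
      simp only [hF2, Finset.mem_filter, Finset.mem_univ, true_and]
      constructor
      · rintro ⟨-, h⟩
        rw [← h]; simp
      · intro h
        simp only [Finset.mem_insert, Finset.mem_singleton] at h
        rcases h with rfl | rfl
        · exact ⟨⟨hj1, hj2, hj3⟩, rfl⟩
        · refine ⟨⟨by rw [hxy', hj1], by rw [hj3]; exact Ne.symm hj2, by rw [hj3]⟩, ?_⟩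
          rw [hj3, Finset.pair_comm]
    have hsum : locSum C σ x y F2 = ∑ T ∈ pairs, locSum C σ x y T := by
      unfold locSum
      rw [hpairs, ← Finset.sum_fiberwise_of_maps_to (t := F2.image fun i => ({i, x • i} : Finset (G ⧸ H)))
        (g := fun i => ({i, x • i} : Finset (G ⧸ H))) (fun i hi => Finset.mem_image_of_mem _ hi)]
      exact Finset.sum_congr rfl fun T hT => Finset.sum_congr (hdisj T hT) fun _ _ => rfl
    have hsm : ∀ (s : ↥S) (j : G ⧸ H), s • ({j, x • j} : Finset (G ⧸ H)) =
        {(s : G) • j, x • (s : G) • j} := fun s j => by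
      rw [(hcomm _ s.2 j).2]
      simp [Finset.smul_finset_insert, Finset.smul_finset_singleton, hsd]
    rw [hsum, sum_eq_sum_fixed hS h2 (fun T => locSum C σ x y T) pairs
      (fun s T hT => by
        obtain ⟨j, hj, rfl⟩ := Finset.mem_image.1 hT
        erw [hsm]
        refine Finset.mem_image.2 ⟨(s : G) • j, ?_, rfl⟩
        simp only [hF2, Finset.mem_filter, Finset.mem_univ, true_and] at hj ⊢
        refine ⟨by rw [(hcomm _ s.2 j).1, hj.1], fun h => hj.2.1 ?_, ?_⟩
        · rw [(hcomm _ s.2 j).2] at h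
          exact smul_left_cancel _ h
        · rw [(hcomm _ s.2 j).2, (hcomm _ s.2 (x • j)).2, hj.2.2])
      (fun s T hT => by
        obtain ⟨j, hj, rfl⟩ := Finset.mem_image.1 hT
        simp only [hF2, Finset.mem_filter, Finset.mem_univ, true_and] at hj
        obtain ⟨hj1, hj2, hj3⟩ := hj
        have hT : Stable x y ({j, x • j} : Finset (G ⧸ H)) := by
          constructor <;> intro i <;> simp only [Finset.mem_insert, Finset.mem_singleton]
          · constructor
            · rintro (h | h)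
              · exact Or.inr (smul_left_cancel x (h.trans hj3.symm))
              · exact Or.inl (smul_left_cancel x h)
            · rintro (rfl | rfl)
              · exact Or.inr rfl
              · exact Or.inl hj3
          · have hyx : y • x • j = x • j := by rw [hxy', hj1]
            constructor
            · rintro (h | h)
              · exact Or.inl (smul_left_cancel y (h.trans hj1.symm))
              · exact Or.inr (smul_left_cancel y (h.trans hyx.symm))
            · rintro (rfl | rfl)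
              · exact Or.inl hj1
              · exact Or.inr hyx
        exact (congrArg (locSum C σ x y) ((hsm s j).trans (show _ = (s : G) • ({j, x • j} : Finset (G ⧸ H)) by
          rw [(hcomm _ s.2 j).2]
          simp [Finset.smul_finset_insert, Finset.smul_finset_singleton]))).trans
          (locSum_smul C hxy hT (hSx s s.2) (hSy s s.2) σ))]
    symm
    refine Finset.sum_bij (fun b _ => ({(h b : G ⧸ H), x • (h b : G ⧸ H)} : Finset (G ⧸ H)))
      (fun b _ => ?_) (fun a _ b _ hab => hhinj a b ?_) (fun T hT => ?_) (fun b _ => ?_)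
    · obtain ⟨h1, h3, h4, h5⟩ := hh b
      refine Finset.mem_filter.2 ⟨Finset.mem_image.2 ⟨_, ?_, rfl⟩, fun s => ?_⟩
      · simp only [hF2, Finset.mem_filter, Finset.mem_univ, true_and]
        exact ⟨h1, h3, h4⟩
      · erw [hsm]
        rcases h5 s s.2 with e | e
        · rw [e]
        · rw [e, h4, Finset.pair_comm]
    · have : (h a : G ⧸ H) ∈ ({(h b : G ⧸ H), x • (h b : G ⧸ H)} : Finset (G ⧸ H)) := by
        rw [← hab]; simp
      simpa using this
    · obtain ⟨hTp, hTfix⟩ := Finset.mem_filter.1 hT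
      obtain ⟨j, hj, rfl⟩ := Finset.mem_image.1 hTp
      simp only [hF2, Finset.mem_filter, Finset.mem_univ, true_and] at hj
      have hPF : PairFixed S x y j := ⟨hj.1, hj.2.1, hj.2.2, fun s hs => by
        have h1 := hTfix ⟨s, hs⟩
        erw [hsm] at h1
        have : s • j ∈ ({j, x • j} : Finset (G ⧸ H)) := by rw [← h1]; simp
        simpa using this⟩
      obtain ⟨b, hb⟩ := hhsurj j hPF
      refine ⟨b, Finset.mem_univ b, ?_⟩
      rcases hb with hb | hb
      · rw [hb]
      · rw [hb, hj.2.2, Finset.pair_comm]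
    · obtain ⟨h1, h3, h4, -⟩ := hh b
      exact (locSum_pair C hxy h3 h4 h1 rfl σ).symm

end cor

end Cfsg.Agent.H56.EMult
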