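import Cfsg.Agent.H56.EMult.Col

/-!
Sparse matrices applied to packed arrays as matrix products.
-/

set_option autoImplicit false
set_option maxRecDepth 100000

namespace Cfsg.Agent.H56.EMult

open Cfsg.Lie

/-- the sparse rows applied to nothing else -/
noncomputable def mulE (W : ℕ) (es : List (ℕ × ℕ × ℕ)) (P : Pl) : Pl := addAll W P es (0, 0)

/-- the packed unit matrix -/
def idP : Pl := ((List.range 78).foldl (fun a i => a ||| 1 <<< (79 * i)) 0, 0)

/-- the check of the packed unit matrix -/
def idOK : Bool :=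
  (List.range 78).all fun i => (List.range 78).all fun j =>
    Bool.rec (Bool.not (idP.1.testBit (78 * i + j))) (idP.1.testBit (78 * i + j)) (Nat.beq i j)

theorem idP_ok : idOK = true := by decide +kernel

/-- a list of sparse matrices applied, the first one last -/
noncomputable def runT (W : ℕ) (l : List (List (ℕ × ℕ × ℕ))) (P : Pl) : Pl :=
  l.foldr (stepE W) P

/-- the check of sparse entries -/
def esOK (es : List (ℕ × ℕ × ℕ)) : Bool :=
  es.all fun e => Nat.blt e.2.2 4 && Nat.blt e.2.1 78 && Nat.blt e.1 78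

/-- equality of packed arrays -/
def peq (P Q : Pl) : Bool := Nat.beq P.1 Q.1 && Nat.beq P.2 Q.2

theorem peq_eq {P Q : Pl} (h : peq P Q = true) : P = Q := by
  simp only [peq, Bool.and_eq_true, Nat.beq_eq] at h
  exact Prod.ext h.1 h.2

theorem beqT (a : ℕ) : Nat.beq a a = true := Nat.beq_refl a

theorem beqF {a b : ℕ} (h : a ≠ b) : Nat.beq a b = false :=
  Bool.eq_false_iff.2 fun e => h (Nat.eq_of_beq_eq_true e)

theorem bltT {a b : ℕ} (h : Nat.blt a b = true) : a < b := Nat.le_of_ble_eq_true h

section Sound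

variable {K : Type*} [Field K]

theorem ix_lt (a : chevE6.Idx) : ix a < 78 := by
  rcases a with i | r
  · exact lt_trans i.isLt (by decide)
  · exact Nat.add_lt_add_left r.isLt 6

/-- the places as an equivalence -/
def ixE : chevE6.Idx ≃ Fin 78 := finSumFinEquiv

theorem ixE_val (a : chevE6.Idx) : (ixE a).val = ix a := by rcases a with i | r <;> rfl

theorem ix_inj : Function.Injective ix := fun a b h =>
  ixE.injective (Fin.ext (by rw [ixE_val, ixE_val, h]))

theorem ix_surj {n : ℕ} (hn : n < 78) : ∃ a, ix a = n :=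
  ⟨ixE.symm ⟨n, hn⟩, by rw [← ixE_val, Equiv.apply_symm_apply]⟩

/-- the matrix of sparse entries -/
def elMat (ω : K) (es : List (ℕ × ℕ × ℕ)) : Matrix chevE6.Idx chevE6.Idx K :=
  Matrix.of fun a b => cv ω (entL es (ix a) (ix b))

/-- the sparse matrix without its diagonal -/
def spMat (ω : K) (es : List (ℕ × ℕ × ℕ)) : Matrix chevE6.Idx chevE6.Idx K :=
  Matrix.of fun a b =>
    (es.map fun e => if e.1 = ix a ∧ e.2.1 = ix b then cv ω e.2.2 else 0).sum

/-- the matrix of a packed array -/
def matOf (ω : K) (W : ℕ) (P : Pl) : Matrix chevE6.Idx (Fin W) K :=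
  Matrix.of fun a j => pval ω P (W * ix a + j.val)

theorem spMat_mul (ω : K) {W : ℕ} {es : List (ℕ × ℕ × ℕ)} (hes : ∀ e ∈ es, e.2.1 < 78) (P : Pl)
    (a : chevE6.Idx) (j : Fin W) :
    (spMat ω es * matOf ω W P) a j = rowSum ω es (ix a) fun k => pval ω P (W * k + j.val) := by
  simp only [Matrix.mul_apply, spMat, matOf, Matrix.of_apply, rowSum]
  induction es with
  | nil => simp
  | cons e es ih =>
    simp only [List.map_cons, List.sum_cons, add_mul, Finset.sum_add_distrib]
    congr 1
    · obtain ⟨b, hb⟩ := ix_surj (hes e List.mem_cons_self)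
      rw [Finset.sum_eq_single b]
      · rw [hb]; by_cases h1 : e.1 = ix a <;> simp [h1]
      · intro c _ hc
        rw [if_neg fun h => hc (ix_inj (by rw [← h.2, hb])), zero_mul]
      · exact fun h => absurd (Finset.mem_univ _) h
    · exact ih fun x hx => hes x (List.mem_cons_of_mem _ hx)

variable [CharP K 2] {ω : K} (h : ω ^ 2 + ω + 1 = 0)

omit h in
theorem esOK_spec {es : List (ℕ × ℕ × ℕ)} (hes : esOK es = true) :
    ∀ e ∈ es, e.2.2 < 4 ∧ e.2.1 < 78 ∧ e.1 < 78 := by
  intro e he
  have := List.all_eq_true.1 hes e he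
  simp only [Bool.and_eq_true] at this
  exact ⟨bltT this.1.1, bltT this.1.2, bltT this.2⟩

omit h in
theorem elMat_eq {es : List (ℕ × ℕ × ℕ)} (hes : esOK es = true) :
    elMat ω es = 1 + spMat ω es := by
  funext a b
  simp only [elMat, spMat, Matrix.add_apply, Matrix.of_apply, entL]
  rw [cv_foldl]
  · congr 1
    · by_cases hab : a = b
      · subst hab; simp [cv_one]
      · rw [Matrix.one_apply_ne hab, if_neg fun e => hab (ix_inj e), cv_zero]
    · rw [List.map_map]
      refine congrArg List.sum (List.map_congr_left fun e _ => ?_)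
      show cv ω (bif Nat.beq e.1 (ix a) && Nat.beq e.2.1 (ix b) then e.2.2 else 0) = _
      by_cases h1 : e.1 = ix a <;> by_cases h2 : e.2.1 = ix b
      · rw [h1, h2, beqT, beqT, if_pos ⟨rfl, rfl⟩]; rfl
      · rw [beqF h2, Bool.and_false, if_neg fun h => h2 h.2]; rfl
      · rw [beqF h1, Bool.false_and, if_neg fun h => h1 h.1]; rfl
      · rw [beqF h1, Bool.false_and, if_neg fun h => h1 h.1]; rfl
  · intro x hx
    obtain ⟨e, he, rfl⟩ := List.mem_map.1 hx
    have := (esOK_spec hes e he).1
    cases (Nat.beq e.1 (ix a) && Nat.beq e.2.1 (ix b)) <;> simp [this]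
  · split <;> norm_num

include h

theorem matOf_step {W : ℕ} {es : List (ℕ × ℕ × ℕ)} (hes : esOK es = true) (P : Pl) :
    matOf ω W (stepE W es P) = elMat ω es * matOf ω W P := by
  funext a j
  rw [elMat_eq hes, Matrix.add_mul, Matrix.one_mul, Matrix.add_apply,
    spMat_mul ω (fun e he => (esOK_spec hes e he).2.1)]
  exact pval_stepE h j.isLt es P

theorem matOf_mulE {W : ℕ} {es : List (ℕ × ℕ × ℕ)} (hes : esOK es = true) (P : Pl) :
    matOf ω W (mulE W es P) = spMat ω es * matOf ω W P := by
  funext a j
  rw [spMat_mul ω (fun e he => (esOK_spec hes e he).2.1)]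
  show pval ω (addAll W P es (0, 0)) (W * ix a + j.val) = _
  have := pval_stepE (i := ix a) h j.isLt es P
  rw [stepE_eq] at this
  have h2 : ∀ (Q : Pl), pval ω (addAll W P es Q) (W * ix a + j.val) =
      pval ω Q (W * ix a + j.val) + rowSum ω es (ix a) fun k => pval ω P (W * k + j.val) := by
    intro Q
    clear this hes
    induction es with
    | nil => simp [addAll, rowSum]
    | cons e es ih =>
      rw [addAll, pval_add1 h j.isLt, ih]
      simp only [rowSum, List.map_cons, List.sum_cons]
      ring
  rw [h2, pval_zero, zero_add]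

theorem matOf_run {W : ℕ} {l : List (List (ℕ × ℕ × ℕ))} (hl : ∀ es ∈ l, esOK es = true) (P : Pl) :
    matOf ω W (runT W l P) = (l.map (elMat ω)).prod * matOf ω W P := by
  induction l with
  | nil => simp [runT]
  | cons es l ih =>
    show matOf ω W (stepE W es (runT W l P)) = _
    rw [matOf_step h (hl es List.mem_cons_self), ih fun x hx => hl x (List.mem_cons_of_mem _ hx),
      List.map_cons, List.prod_cons, Matrix.mul_assoc]

omit h [CharP K 2] in
theorem matOf_idP : matOf ω 78 idP = Matrix.of fun a j => if ix a = j.val then (1 : K) else 0 := by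
  funext a j
  have := List.all_eq_true.1 (List.all_eq_true.1 idP_ok (ix a) (List.mem_range.2 (ix_lt a)))
    j.val (List.mem_range.2 j.isLt)
  simp only [matOf, Matrix.of_apply, pval, show idP.2 = 0 from rfl, Nat.zero_testBit]
  by_cases hij : ix a = j.val
  · rw [hij, beqT] at this
    simp only [] at this
    simp [bitV, hij, this]
  · rw [beqF hij] at this
    simp only [Bool.not_eq_true'] at this
    simp [bitV, hij, this]

theorem prod_eq_of_run {l l' : List (List (ℕ × ℕ × ℕ))} (hl : ∀ es ∈ l, esOK es = true)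
    (hl' : ∀ es ∈ l', esOK es = true) (e : runT 78 l idP = runT 78 l' idP) :
    (l.map (elMat ω)).prod = (l'.map (elMat ω)).prod := by
  have h1 := matOf_run h hl idP (W := 78)
  rw [e, matOf_run h hl' idP, matOf_idP] at h1
  funext a b
  have h2 := congrFun (congrFun h1 a) (ixE b)
  simp only [Matrix.mul_apply, Matrix.of_apply, ixE_val, mul_ite, mul_one, mul_zero] at h2
  rw [Finset.sum_eq_single b, Finset.sum_eq_single b] at h2
  · simpa using h2.symm
  all_goals first
    | (intro c _ hc; rw [if_neg fun e => hc (ix_inj e)])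
    | (intro hb; exact absurd (Finset.mem_univ _) hb)

end Sound

end Cfsg.Agent.H56.EMult
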