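import Cfsg.Agent.H56.EMult.ElData
import Cfsg.Agent.H56.EMult.Mat

/-!
The tables of elements checked by evaluation.
-/

set_option autoImplicit false
set_option maxRecDepth 100000
set_option Elab.async false

namespace Cfsg.Agent.H56.EMult

open Cfsg.Agent.H45 (cget)

/-- the entries behind a packed number -/
def unpack : ℕ → ℕ → List (ℕ × ℕ × ℕ)
  | 0, _ => []
  | n + 1, c => (c % 128, c / 128 % 128, c / 16384 % 4) :: unpack n (c / 65536)

/-- the entries of a root element -/
def rootE (i : ℕ) : List (ℕ × ℕ × ℕ) :=
  let p := rootTab.getD i (0, 0); unpack p.1 p.2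

/-- the entries of an element -/
def elE (k : ℕ) : List (ℕ × ℕ × ℕ) :=
  let p := elTab.getD k (0, 0); unpack p.1 p.2

/-- the check of one root element -/
def rootChk (i : ℕ) : Bool :=
  entOK (rootKey.getD i (0, 0)).1 (rootKey.getD i (0, 0)).2 (rootE i)

/-- the check of one letter -/
noncomputable def letChk (k : ℕ) : Bool :=
  esOK (elE k) && (letDef.getD k []).all (fun i => Nat.blt i 40) &&
    peq (runT 78 [elE k] idP) (runT 78 ((letDef.getD k []).map rootE) idP)

/-- the check of one element -/
noncomputable def elChk (k : ℕ) : Bool :=
  esOK (elE k) && (elDef.getD k []).all (fun i => Nat.blt i k) &&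
    peq (runT 78 [elE k] idP) (runT 78 ((elDef.getD k []).map elE) idP)

theorem let_ok : (List.range 12).all letChk = true := by decide +kernel

theorem el_ok0 : ((List.range 88).map (12 + ·)).all elChk = true := by decide +kernel

theorem el_ok1 : ((List.range 72).map (100 + ·)).all elChk = true := by decide +kernel

theorem el_ok2 : ((List.range 72).map (172 + ·)).all elChk = true := by decide +kernel

end Cfsg.Agent.H56.EMult
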