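import Cfsg.Agent.H56.EMult.Bits
import Cfsg.Prelude.Def_ChevE6
import Cfsg.Prelude.Def_ChevWords

/-!
The entries of the root elements of E6 over the field with four elements, as codes.
-/

set_option autoImplicit false
set_option maxRecDepth 100000

namespace Cfsg.Agent.H56.EMult

open Cfsg.Lie

/-- the product of two codes -/
def cmulC (a b : ℕ) : ℕ :=
  bif Nat.beq a 0 || Nat.beq b 0 then 0 else
    bif Nat.beq a 1 then b else bif Nat.beq b 1 then a else
      bif Nat.beq a b then (bif Nat.beq a 2 then 3 else 2) else 1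

/-- the code of an integer -/
def icode (m : ℤ) : ℕ := if m % 2 = 0 then 0 else 1

/-- a power of a code -/
def cpow (t : ℕ) : ℕ → ℕ
  | 0 => 1
  | k + 1 => cmulC (cpow t k) t

/-- the place of an index -/
def ix : chevE6.Idx → ℕ := Sum.elim (fun i => i.val) fun r => 6 + r.val

/-- the code of an entry of a root element -/
def entC (r t row col : ℕ) : ℕ :=
  if col < 6 then
    if row < 6 then (if row = col then 1 else 0)
    else if row = 6 + r then cmulC (icode ((chevE6.cartanSR.getD col #[]).getD r 0)) t else 0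
  else if col = 6 + r then (if row = 6 + r then 1 else 0)
  else if col = 6 + chevE6.negIdx.getD r 0 then
    if row < 6 then cmulC (icode ((chevE6.coroot.getD r #[]).getD row 0)) t
    else if row = col then 1 else if row = 6 + r then cmulC t t else 0
  else if row < 6 then 0
  else ((chevE6.chainCoeff r (col - 6) (row - 6)).map fun km =>
      cmulC (icode km.2) (cpow t km.1)).foldl Nat.xor (if row = col then 1 else 0)

/-- the sum of the sparse entries at a place -/
def entL (es : List (ℕ × ℕ × ℕ)) (row col : ℕ) : ℕ :=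
  (es.map fun e => bif Nat.beq e.1 row && Nat.beq e.2.1 col then e.2.2 else 0).foldl Nat.xor
    (if row = col then 1 else 0)

section Sound

variable {K : Type*} [Field K] [CharP K 2] {ω : K} (h : ω ^ 2 + ω + 1 = 0)

omit [CharP K 2] in
theorem cv_zero : cv ω 0 = 0 := rfl

omit [CharP K 2] in
theorem cv_one : cv ω 1 = 1 := rfl

omit [CharP K 2] in
theorem cv_two : cv ω 2 = ω := rfl

omit [CharP K 2] in
theorem cv_three : cv ω 3 = 1 + ω := rfl

include h

theorem cv_cmul {a b : ℕ} (ha : a < 4) (hb : b < 4) :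
    cmulC a b < 4 ∧ cv ω (cmulC a b) = cv ω a * cv ω b := by
  have h2 := CharTwo.two_eq_zero (R := K)
  interval_cases a <;> interval_cases b <;> refine ⟨by decide, ?_⟩ <;>
    simp only [show cmulC 0 0 = 0 from rfl,
      show cmulC 0 1 = 0 from rfl,
      show cmulC 0 2 = 0 from rfl,
      show cmulC 0 3 = 0 from rfl,
      show cmulC 1 0 = 0 from rfl,
      show cmulC 1 1 = 1 from rfl,
      show cmulC 1 2 = 2 from rfl,
      show cmulC 1 3 = 3 from rfl,
      show cmulC 2 0 = 0 from rfl,
      show cmulC 2 1 = 2 from rfl,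
      show cmulC 2 2 = 3 from rfl,
      show cmulC 2 3 = 1 from rfl,
      show cmulC 3 0 = 0 from rfl,
      show cmulC 3 1 = 3 from rfl,
      show cmulC 3 2 = 1 from rfl,
      show cmulC 3 3 = 2 from rfl,
      cv_zero, cv_one, cv_two, cv_three] <;>
    first
      | linear_combination h - ω * h2
      | linear_combination -h + (ω + 1) * h2
      | linear_combination -h + h2
      | linear_combination h
      | linear_combination -h
      | linear_combination (-ω - 1) * h2
      | ring

omit h in
theorem cv_xor {a b : ℕ} (ha : a < 4) (hb : b < 4) :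
    a ^^^ b < 4 ∧ cv ω (a ^^^ b) = cv ω a + cv ω b := by
  have h2 := CharTwo.two_eq_zero (R := K)
  interval_cases a <;> interval_cases b <;> refine ⟨by decide, ?_⟩ <;>
    simp only [show 0 ^^^ 0 = 0 from rfl,
      show 0 ^^^ 1 = 1 from rfl,
      show 0 ^^^ 2 = 2 from rfl,
      show 0 ^^^ 3 = 3 from rfl,
      show 1 ^^^ 0 = 1 from rfl,
      show 1 ^^^ 1 = 0 from rfl,
      show 1 ^^^ 2 = 3 from rfl,
      show 1 ^^^ 3 = 2 from rfl,
      show 2 ^^^ 0 = 2 from rfl,
      show 2 ^^^ 1 = 3 from rfl,
      show 2 ^^^ 2 = 0 from rfl,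
      show 2 ^^^ 3 = 1 from rfl,
      show 3 ^^^ 0 = 3 from rfl,
      show 3 ^^^ 1 = 2 from rfl,
      show 3 ^^^ 2 = 1 from rfl,
      show 3 ^^^ 3 = 0 from rfl,
      cv_zero, cv_one, cv_two, cv_three] <;>
    first
      | ring1
      | linear_combination (0 : K) * h2
      | linear_combination -h2
      | linear_combination -ω * h2
      | linear_combination -(1 + ω) * h2

omit h in
theorem cv_icode (m : ℤ) : icode m < 4 ∧ cv ω (icode m) = (m : K) := by
  rcases Int.emod_two_eq_zero_or_one m with e | e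
  · refine ⟨by simp [icode, e], ?_⟩
    rw [icode, if_pos e]
    exact ((CharP.intCast_eq_zero_iff K 2 m).2 (Int.dvd_of_emod_eq_zero (by exact_mod_cast e))).symm
  · refine ⟨by simp [icode, e], ?_⟩
    rw [icode, if_neg (by omega)]
    have hm : m = 2 * (m / 2) + 1 := by omega
    rw [hm]
    push_cast
    rw [CharTwo.two_eq_zero, cv_one]
    ring

theorem cv_cpow {t : ℕ} (ht : t < 4) : ∀ k, cpow t k < 4 ∧ cv ω (cpow t k) = cv ω t ^ k
  | 0 => ⟨by simp [cpow], by simp [cpow, cv_one]⟩
  | k + 1 => by
    obtain ⟨h1, h2⟩ := cv_cpow ht k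
    obtain ⟨h3, h4⟩ := cv_cmul h h1 ht
    exact ⟨h3, by rw [cpow, h4, h2, pow_succ]⟩

omit h in
theorem cv_foldl : ∀ (l : List ℕ) (a : ℕ), (∀ x ∈ l, x < 4) → a < 4 →
    cv ω (l.foldl Nat.xor a) = cv ω a + (l.map (cv ω)).sum
  | [], a, _, _ => by simp
  | x :: l, a, hl, ha => by
    obtain ⟨h1, h2⟩ := cv_xor (ω := ω) ha (hl x List.mem_cons_self)
    show cv ω (l.foldl Nat.xor (a ^^^ x)) = _
    rw [cv_foldl l _ (fun y hy => hl y (List.mem_cons_of_mem _ hy)) h1, List.map_cons,
      List.sum_cons, h2, add_assoc]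

theorem xMat_entC {r : Fin chevE6.nroots} {t : ℕ} (ht : t < 4) (row col : chevE6.Idx) :
    chevE6.xMat K r (cv ω t) row col = cv ω (entC r.val t (ix row) (ix col)) := by
  have hneg : ∀ x : K, -x = x := CharTwo.neg_eq
  unfold ChevalleyDatum.xMat
  simp only [Matrix.of_apply]
  rcases col with i | s <;> rcases row with i' | u
  · have hi : i.val < 6 := i.isLt
    have hi' : i'.val < 6 := i'.isLt
    show _ = cv ω (entC r.val t i'.val i.val)
    simp only [entC, hi, hi', if_true, Fin.ext_iff]
    split_ifs <;> simp [cv_zero, cv_one]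
  · have hi : i.val < 6 := i.isLt
    show _ = cv ω (entC r.val t (6 + u.val) i.val)
    simp only [entC, hi, if_true, show ¬ 6 + u.val < 6 by omega,
      if_false, add_right_inj, Fin.ext_iff]
    split_ifs
    · rw [(cv_cmul h (cv_icode (ω := ω) _).1 ht).2, (cv_icode (ω := ω) _).2, neg_mul, hneg]
    · rw [cv_zero]
  · have hi' : i'.val < 6 := i'.isLt
    show _ = cv ω (entC r.val t i'.val (6 + s.val))
    simp only [entC, show ¬ 6 + s.val < 6 by omega, if_false,
      add_right_inj, Fin.ext_iff, hi', if_true, show ¬ i'.val = 6 + r.val by omega]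
    split_ifs
    · rw [cv_zero]
    · rw [(cv_cmul h (cv_icode (ω := ω) _).1 ht).2, (cv_icode (ω := ω) _).2]
    · rw [cv_zero]
  · show _ = cv ω (entC r.val t (6 + u.val) (6 + s.val))
    simp only [entC, show ¬ 6 + s.val < 6 by omega, show ¬ 6 + u.val < 6 by omega,
      if_false, add_right_inj, Fin.ext_iff, Nat.add_sub_cancel_left]
    split_ifs with h1 h2 h3 h4 h5 h6
    all_goals try simp only [cv_one, cv_zero]
    · rw [(cv_cmul h ht ht).2, hneg, sq]
    · rw [cv_foldl, List.map_map, cv_one]
      · congr 2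
        exact List.map_congr_left fun km _ => by
          simp only [Function.comp]
          rw [(cv_cmul h (cv_icode (ω := ω) _).1 (cv_cpow h ht _).1).2, (cv_icode (ω := ω) _).2,
            (cv_cpow h ht _).2]
      · intro x hx
        obtain ⟨km, -, rfl⟩ := List.mem_map.1 hx
        exact (cv_cmul h (cv_icode (ω := ω) _).1 (cv_cpow h ht _).1).1
      · decide
    · rw [cv_foldl, List.map_map, cv_zero]
      · congr 2
        exact List.map_congr_left fun km _ => by
          simp only [Function.comp]
          rw [(cv_cmul h (cv_icode (ω := ω) _).1 (cv_cpow h ht _).1).2, (cv_icode (ω := ω) _).2,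
            (cv_cpow h ht _).2]
      · intro x hx
        obtain ⟨km, -, rfl⟩ := List.mem_map.1 hx
        exact (cv_cmul h (cv_icode (ω := ω) _).1 (cv_cpow h ht _).1).1
      · decide

end Sound

end Cfsg.Agent.H56.EMult
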