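import Cfsg.Agent.H56.EMult.LeviCheck
import Cfsg.Agent.H56.EMult.FaithData

/-!
The action of the complement on the root vectors of degree plus and minus one checked by evaluation.
-/

set_option autoImplicit false
set_option maxRecDepth 100000
set_option Elab.async false

namespace Cfsg.Agent.H56.EMult

open Cfsg.Agent.H45 (cget force force_eq)

/-- one of the two families of vectors -/
structure WTab where
  vecs : ℕ × ℕ
  perms : List ℕ
  pts : ℕ
  ord : ℕ
  rank : ℕ
  d : ℕ

/-- degree plus one -/
def wpFam : WTab := ⟨wpTab, wpPerm, wpPts, wpOrd, wpRank, 3⟩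

/-- degree minus one -/
def wmFam : WTab := ⟨wmTab, wmPerm, wmPts, wmOrd, wmRank, 1⟩

/-- the set of a list of numbers -/
def mset (l : List ℕ) : ℕ := l.foldl (fun a k => a ||| 1 <<< k) 0

/-- the places of one degree -/
def degRows (d : ℕ) : List ℕ := (List.range 78).filter fun n => Nat.beq (deg n) d

/-- the points of a vector -/
def wPts (F : WTab) (w : ℕ) : List ℕ := (List.range 21).map fun i => cget F.pts (21 * w + i)

/-- the image of a vector -/
def wImg (F : WTab) (j w : ℕ) : ℕ := cget (F.perms.getD j 0) w

/-- the moves of the vectors -/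
noncomputable def wVecChk (F : WTab) (j : ℕ) : Bool :=
  let P := stepE 891 (elE (sId j)) F.vecs
  force P.1 fun a => force P.2 fun b =>
    (List.range 891).all fun w => Nat.blt (wImg F j w) 891 &&
      (degRows F.d).all fun n =>
        Nat.beq (code (a, b) (891 * n + w)) (code F.vecs (891 * n + wImg F j w))

/-- the moves of the sets of points -/
noncomputable def wPtsChk (F : WTab) (j : ℕ) : Bool :=
  (List.range 891).all fun w =>
    Nat.beq (mset ((wPts F w).map fun k => Cfsg.Agent.H27.Fi22U6.nxt j k / 4))
      (mset (wPts F (wImg F j w)))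

/-- the vectors vanish outside their degree and the sets of points tell them apart -/
def wFamChk (F : WTab) : Bool :=
  ((List.range 78).all fun n => Nat.beq (deg n) F.d ||
    (Nat.beq ((F.vecs.1 >>> (891 * n)) % 2 ^ 891) 0 && Nat.beq ((F.vecs.2 >>> (891 * n)) % 2 ^ 891) 0)) &&
  ((List.range 891).all fun w => (wPts F w).all (fun k => Nat.blt k 693) &&
    (Nat.blt (cget F.rank w) 891 && Nat.beq (cget F.ord (cget F.rank w)) w)) &&
  (List.range 890).all fun i =>
    Nat.blt (mset (wPts F (cget F.ord i))) (mset (wPts F (cget F.ord (i + 1))))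

/-- the generators of the complement keep the degree -/
def bdChk : Bool :=
  (List.range 8).all fun j => (elE (sId j)).all fun e =>
    Nat.beq (deg e.1) (deg e.2.1) && Bool.not (Nat.beq e.2.1 6) && Bool.not (Nat.beq e.1 6)

/-- a code among the spanning vectors -/
def spanCode (t : ℕ × ℕ × ℕ) (n : ℕ) : ℕ :=
  if t.1 = 0 then (if n = 1 then 1 else 0)
  else if t.1 = 1 then (if n = 77 then 1 else 0)
  else if t.1 = 2 then (if n = 6 then 1 else 0)
  else if t.1 = 3 then code pvTab (693 * n + t.2.1)
  else if t.1 = 4 then code wpTab (891 * n + t.2.1)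
  else code wmTab (891 * n + t.2.1)

/-- each unit vector as a combination of the spanning vectors -/
def spanChk : Bool :=
  (List.range 78).all fun m =>
    let l := spanTab.getD m []
    l.all (fun t => Nat.blt t.1 6 && Nat.blt t.2.1 (bif Nat.beq t.1 3 then 693 else 891) &&
      Nat.blt t.2.2 4) &&
    (List.range 78).all fun n =>
      Nat.beq ((l.map fun t => cmulC t.2.2 (spanCode t n)).foldl Nat.xor 0) (if n = m then 1 else 0)

theorem bd_ok : bdChk = true := by decide +kernel

theorem span_ok : spanChk = true := by decide +kernel

theorem wp_fam : wFamChk wpFam = true := by decide +kernel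

theorem wm_fam : wFamChk wmFam = true := by decide +kernel

theorem wp_pts : (List.range 8).all (wPtsChk wpFam) = true := by decide +kernel

theorem wm_pts : (List.range 8).all (wPtsChk wmFam) = true := by decide +kernel

theorem wp_vec0 : (List.range 4).all (wVecChk wpFam) = true := by decide +kernel

theorem wp_vec1 : ((List.range 4).map (4 + ·)).all (wVecChk wpFam) = true := by decide +kernel

theorem wm_vec0 : (List.range 4).all (wVecChk wmFam) = true := by decide +kernel

theorem wm_vec1 : ((List.range 4).map (4 + ·)).all (wVecChk wmFam) = true := by decide +kernel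

/-- the unit vectors of degree minus one use only vectors of that degree -/
def lowSpanChk : Bool :=
  (List.range 20).all fun i => (spanTab.getD (lowN i) []).all fun t => Nat.beq t.1 5

theorem low_span_ok : lowSpanChk = true := by decide +kernel

/-- the column of the place 31 of the first radical generator and of the central one -/
def x0Chk : Bool :=
  Nat.blt (qId 0) 244 &&
  ((elE zId).all fun e => Bool.not (Nat.beq e.2.1 31) || Nat.ble 3 (deg e.1)) &&
  ((List.range 78).all fun n => Bool.not (Nat.beq (deg n) 2) ||
    Nat.beq (entL (elE (qId 0)) n 31) (if n = 1 then 1 else 0)) &&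
  (Nat.blt (lowT.idxOf 31) 20 && Nat.beq (lowN (lowT.idxOf 31)) 31)

theorem x0_ok : x0Chk = true := by decide +kernel

end Cfsg.Agent.H56.EMult
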