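import Cfsg.Agent.H27.Fi22U6.Map

/-!
Different points give different transvections.
-/

set_option autoImplicit false
set_option maxRecDepth 100000

namespace Cfsg.Agent.H56.EMult

open Cfsg.Agent.H93 Cfsg.Agent.H45 Cfsg.Agent.H27.Fi22U6

/-- the number of a bit pair -/
def enc4 (x : B4) : ℕ := (bif x.1 then 1 else 0) + (bif x.2 then 2 else 0)

/-- the number of six bit pairs -/
def enc6 : B6 → ℕ
  | (x0, x1, x2, x3, x4, x5) =>
    enc4 x0 + 4 * enc4 x1 + 16 * enc4 x2 + 64 * enc4 x3 + 256 * enc4 x4 + 1024 * enc4 x5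

/-- each multiple of a point is looked up as that point -/
def ptLookChk : Bool :=
  (List.range 693).all fun k => [1, 2, 3].all fun s =>
    Nat.beq (cget lookTab (enc6 (bscale (sc s) (bv k))) / 4) k

theorem pt_look_ok : ptLookChk = true := by decide +kernel

theorem pt_inj {F : Type} [Field F] [Fintype F] (hF : Fintype.card F = 4) {k k' : ℕ} (hk : k < 693)
    (hk' : k' < 693) (h : pt hF k = pt hF k') : k = k' := by
  obtain ⟨a, ha⟩ := ptv_eq hF (pv_pt hF hk) (pv_pt hF hk').2 h
  have ha0 : a ≠ 0 := fun e => (pv_pt hF hk).1 (by rw [ha, e, zero_smul])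
  obtain ⟨c, hc⟩ := bval_surj hF a
  have hl := pt_look_ok
  simp only [ptLookChk, List.all_eq_true, List.mem_range, Nat.beq_eq] at hl
  have hs : ∃ s ∈ [1, 2, 3], sc s = c := by
    have key : ∀ c : B4, c ≠ (false, false) → ∃ s ∈ [1, 2, 3], sc s = c := by decide
    exact key c fun e => ha0 (by rw [← hc, e]; simp [bval])
  obtain ⟨s, hs, rfl⟩ := hs
  have e : bscale (sc 1) (bv k) = bscale (sc s) (bv k') := bvec_inj hF (by
    rw [bvec_scale hF, bvec_scale hF, hc, show bval (om hF) (sc 1) = (1 : F) by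
      simp [bval, sc, Nat.testBit, Nat.shiftRight_eq_div_pow], one_smul]
    exact ha)
  rw [← hl k hk 1 (by simp), e, hl k' hk' s hs]

end Cfsg.Agent.H56.EMult
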