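import Cfsg.Agent.H56.EMult.Levi
import Cfsg.Agent.H27.U6Mult.Witness
import Cfsg.Agent.H56.EMult.PtInj
import Cfsg.Agent.H56.EMult.FaithCheck

/-!
The complement maps isomorphically onto `PSU 6 F 2`.
-/

set_option autoImplicit false
set_option maxRecDepth 100000

namespace Cfsg.Agent.H56.EMult

open Cfsg.Lie
open scoped Matrix
open Cfsg.Agent.H27.Fi22U6 (pt nxt)
open Cfsg.Agent.H27.U6Mult (pgen)
open Cfsg.Agent.H45 (cget force force_eq)

section Faith

variable {K : Type*} [Field K] [Fintype K] (hK : Fintype.card K = 4)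

/-- the complement -/
noncomputable def Lg : Subgroup ↥(twistedE6 K 2) :=
  Subgroup.closure {g | ∃ j, j < 8 ∧ g = sg hK j}

/-- a vector of a family -/
noncomputable def wv (F : WTab) (w : ℕ) : chevE6.Idx → K :=
  fun a => cv (omK hK) (code F.vecs (891 * ix a + w))

/-- the invariant of an element of the complement -/
def LInv (g : ↥(twistedE6 K 2)) : Prop :=
  g ∈ Lg hK ∧ (∀ a b, deg (ix a) ≠ deg (ix b) → g.1.val a b = 0) ∧
    (∀ a, g.1.val a (ii 6) = if a = ii 6 then 1 else 0) ∧
    ∃ f : ℕ → ℕ, (∀ k, k < 693 → f k < 693 ∧ g.1.val *ᵥ pv hK k = pv hK (f k)) ∧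
      ∀ F ∈ [wpFam, wmFam], ∀ w, w < 891 → ∃ w', w' < 891 ∧
        g.1.val *ᵥ wv hK F w = wv hK F w' ∧ ∀ k, k ∈ wPts F w' ↔ ∃ i ∈ wPts F w, f i = k

include hK

theorem Lg_le : Lg hK ≤ Pp hK := by
  refine (Subgroup.closure_le _).2 ?_
  rintro g ⟨j, hj, rfl⟩
  exact s_mem hK hj

omit [Field K] [Fintype K] hK in
theorem mset_testBit (l : List ℕ) : ∀ a k, (l.foldl (fun a k => a ||| 1 <<< k) a).testBit k =
    (a.testBit k || decide (k ∈ l)) := by
  induction l with
  | nil => intro a k; simp
  | cons x l ih =>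
    intro a k
    rw [List.foldl_cons, ih, Nat.testBit_or, Nat.one_shiftLeft, Nat.testBit_two_pow, Bool.or_assoc]
    by_cases h : x = k
    · simp [h]
    · simp [h, Ne.symm h]

omit [Field K] [Fintype K] hK in
theorem mem_of_mset {l l' : List ℕ} (h : mset l = mset l') (k : ℕ) : k ∈ l ↔ k ∈ l' := by
  have e := congrArg (fun x => x.testBit k) h
  simpa [mset, mset_testBit] using e

omit [Field K] [Fintype K] hK in
theorem fam_facts {F : WTab} (hF : F ∈ [wpFam, wmFam]) :
    wFamChk F = true ∧ (∀ j, j < 8 → wVecChk F j = true) ∧ (∀ j, j < 8 → wPtsChk F j = true) := by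
  have hr : ∀ j, j < 8 → j ∈ List.range 4 ∨ j ∈ (List.range 4).map (4 + ·) := by
    intro j hj
    rcases Nat.lt_or_ge j 4 with h | h
    · exact Or.inl (List.mem_range.2 h)
    · exact Or.inr (List.mem_map.2 ⟨j - 4, List.mem_range.2 (by omega), by omega⟩)
  simp only [List.mem_cons, List.not_mem_nil, or_false] at hF
  rcases hF with rfl | rfl
  · exact ⟨wp_fam, fun j hj => (hr j hj).elim (List.all_eq_true.1 wp_vec0 j)
      (List.all_eq_true.1 wp_vec1 j), fun j hj => List.all_eq_true.1 wp_pts j (List.mem_range.2 hj)⟩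
  · exact ⟨wm_fam, fun j hj => (hr j hj).elim (List.all_eq_true.1 wm_vec0 j)
      (List.all_eq_true.1 wm_vec1 j), fun j hj => List.all_eq_true.1 wm_pts j (List.mem_range.2 hj)⟩

omit [Field K] [Fintype K] hK in
theorem fam_zero {F : WTab} (hF : F ∈ [wpFam, wmFam]) {n : ℕ} (hn : n < 78) (hd : deg n ≠ F.d)
    {w : ℕ} (hw : w < 891) : code F.vecs (891 * n + w) = 0 := by
  have h := (fam_facts hF).1
  simp only [wFamChk, Bool.and_eq_true, List.all_eq_true, List.mem_range, Bool.or_eq_true,
    Nat.beq_eq] at h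
  obtain ⟨e1, e2⟩ := (h.1.1 n hn).resolve_left hd
  have key : ∀ x, (x >>> (891 * n)) % 2 ^ 891 = 0 → x >>> (891 * n + w) % 2 = 0 := by
    intro x hx
    have := congrArg (fun y => y.testBit w) hx
    rw [Nat.testBit_mod_two_pow, Nat.testBit_shiftRight, Nat.zero_testBit, decide_eq_true hw,
      Bool.true_and, Nat.testBit_eq_decide_div_mod_eq, decide_eq_false_iff_not] at this
    rw [Nat.shiftRight_eq_div_pow]
    omega
  rw [code, key _ e1, key _ e2]

theorem lInv_one : LInv hK 1 := by
  refine ⟨one_mem _, fun a b h => Matrix.one_apply_ne fun e => h (by rw [e]), fun a => Matrix.one_apply,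
    id, fun k hk => ⟨hk, by simp⟩, fun F _ w hw => ⟨w, hw, by simp, fun k => by simp⟩⟩

theorem lInv_mul {g h : ↥(twistedE6 K 2)} (hg : LInv hK g) (hh : LInv hK h) : LInv hK (g * h) := by
  obtain ⟨mg, bg, cg, f, hf, Fg⟩ := hg
  obtain ⟨mh, bh, ch, f', hf', Fh⟩ := hh
  refine ⟨mul_mem mg mh, fun a b hab => ?_, fun a => ?_, f ∘ f', fun k hk => ?_,
    fun F hF w hw => ?_⟩
  · rw [mul_apply_sum]
    refine Finset.sum_eq_zero fun c _ => ?_
    by_cases h1 : deg (ix a) = deg (ix c)
    · rw [bh c b (h1 ▸ hab), mul_zero]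
    · rw [bg a c h1, zero_mul]
  · rw [mul_apply_sum, Finset.sum_eq_single (ii 6)]
    · rw [ch, if_pos rfl, mul_one, cg]
    · intro c _ hc; rw [ch, if_neg hc, mul_zero]
    · exact fun h => absurd (Finset.mem_univ _) h
  · refine ⟨(hf _ (hf' k hk).1).1, ?_⟩
    rw [Subgroup.coe_mul, Units.val_mul, ← Matrix.mulVec_mulVec, (hf' k hk).2, (hf _ (hf' k hk).1).2]
    rfl
  · obtain ⟨w₁, hw₁, e₁, p₁⟩ := Fh F hF w hw
    obtain ⟨w₂, hw₂, e₂, p₂⟩ := Fg F hF w₁ hw₁
    refine ⟨w₂, hw₂, by rw [Subgroup.coe_mul, Units.val_mul, ← Matrix.mulVec_mulVec, e₁, e₂],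
      fun k => ?_⟩
    rw [p₂]
    constructor
    · rintro ⟨i, hi, rfl⟩
      obtain ⟨i', hi', rfl⟩ := (p₁ i).1 hi
      exact ⟨i', hi', rfl⟩
    · rintro ⟨i', hi', rfl⟩
      exact ⟨f' i', (p₁ _).2 ⟨i', hi', rfl⟩, rfl⟩

theorem lInv_gen {j : ℕ} (hj : j < 8) : LInv hK (sg hK j) := by
  have := charTwo hK
  have hω := omK_spec hK
  have hk244 : sId j < 244 := by
    have : ∀ j, j < 8 → sId j < 244 := by decide +kernel
    exact this j hj
  have hes := es_el hk244
  have hval : (sg hK j).1.val = elMat (omK hK) (elE (sId j)) := eg_val hK hk244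
  have hb := bd_ok
  simp only [bdChk, List.all_eq_true, List.mem_range, Bool.and_eq_true, Nat.beq_eq,
    Bool.not_eq_true'] at hb
  have hneq : ∀ {a b : ℕ}, Nat.beq a b = false → a ≠ b := fun h e => by
    rw [e, beqT] at h; exact Bool.noConfusion h
  have bd : ∀ a b, deg (ix a) ≠ deg (ix b) → (sg hK j).1.val a b = 0 := fun a b hab => by
    rw [hval]
    refine elMat_zero hes (fun e => hab (by rw [e])) fun e he => ?_
    by_contra hc
    push Not at hc
    exact hab (by rw [← hc.1, ← hc.2]; exact (hb j hj e he).1.1)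
  refine ⟨Subgroup.subset_closure ⟨j, hj, rfl⟩, bd, fun a => ?_, fun k => nxt j k / 4,
    fun k hk => ?_, fun F hF w hw => ?_⟩
  · rw [hval]
    by_cases ha : a = ii 6
    · rw [if_pos ha, ha]
      exact elMat_diag hes fun e he => Or.inr (by
        rw [ix_ii (show 6 < 78 by norm_num)]; exact hneq (hb j hj e he).1.2)
    · rw [if_neg ha]
      exact elMat_zero hes ha fun e he => Or.inr (by
        rw [ix_ii (show 6 < 78 by norm_num)]; exact hneq (hb j hj e he).1.2)
  · obtain ⟨k', hk', hv, hp⟩ := piP_conj hK ⟨sg hK j, s_mem hK hj⟩ hk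
    rw [piP_s hK hj] at hp
    obtain ⟨hlt, -, e⟩ := Cfsg.Agent.H27.Fi22U6.nxt_spec card_F4 hj hk
    have hinv : (pgen card_F4 j)⁻¹ = pgen card_F4 j :=
      inv_eq_of_mul_eq_one_right (Cfsg.Agent.H93.ptv_mul_self card_F4 _)
    rw [hinv] at hp
    obtain rfl : nxt j k / 4 = k' := pt_inj card_F4 hlt hk' (e.symm.trans hp)
    refine ⟨hlt, funext fun a => ?_⟩
    by_cases ha : deg (ix a) ≤ 2
    · exact hv a ha
    · show _ = cv (omK hK) _
      rw [mid_facts.2 (ix a) (ix_lt a) (by omega) _ hk', cv_zero]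
      simp only [Matrix.mulVec, dotProduct]
      refine Finset.sum_eq_zero fun b _ => ?_
      show (sg hK j).1.val a b * cv (omK hK) _ = 0
      by_cases hb2 : deg (ix b) = 2
      · rw [bd a b (by omega), zero_mul]
      · rw [mid_facts.2 (ix b) (ix_lt b) hb2 k hk, cv_zero, mul_zero]
  · obtain ⟨-, hvec, hpts⟩ := fam_facts hF
    have hv := hvec j hj
    have hp := hpts j hj
    simp only [wVecChk, force_eq, List.all_eq_true, List.mem_range, Bool.and_eq_true,
      Nat.beq_eq] at hv
    simp only [wPtsChk, List.all_eq_true, List.mem_range, Nat.beq_eq] at hp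
    obtain ⟨hlt, hrows⟩ := hv w hw
    have hlt' := bltT hlt
    refine ⟨wImg F j w, hlt', funext fun a => ?_, fun k => ?_⟩
    · rw [Matrix.mulVec, dotProduct, hval]
      have e := congrFun (congrFun (matOf_step (W := 891) hω hes F.vecs) a) ⟨w, hw⟩
      simp only [matOf, Matrix.of_apply, Matrix.mul_apply, pval_code] at e
      show ∑ b, elMat (omK hK) (elE (sId j)) a b * wv hK F w b = _
      by_cases ha : deg (ix a) = F.d
      · refine e.symm.trans (congrArg (cv (omK hK)) (hrows (ix a) ?_))
        simp [degRows, ix_lt, ha, beqT]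
      · show _ = cv (omK hK) _
        rw [fam_zero hF (ix_lt a) ha hlt', cv_zero]
        refine Finset.sum_eq_zero fun b _ => ?_
        show elMat (omK hK) (elE (sId j)) a b * cv (omK hK) _ = 0
        by_cases hb2 : deg (ix b) = F.d
        · rw [← hval, bd a b (by omega), zero_mul]
        · rw [fam_zero hF (ix_lt b) hb2 hw, cv_zero, mul_zero]
    · rw [← mem_of_mset (hp w hw) k, List.mem_map]

theorem lInv_of_mem {g : ↥(twistedE6 K 2)} (hg : g ∈ Lg hK) : LInv hK g := by
  induction hg using Subgroup.closure_induction with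
  | mem x hx => obtain ⟨j, hj, rfl⟩ := hx; exact lInv_gen hK hj
  | one => exact lInv_one hK
  | mul a b _ _ ha hb => exact lInv_mul hK ha hb
  | inv a _ ha =>
    have : Finite ↥(twistedE6 K 2) := inferInstance
    have e : a⁻¹ = a ^ (orderOf a - 1) := inv_eq_of_mul_eq_one_left (by
      rw [← pow_succ, Nat.sub_add_cancel (orderOf_pos a), pow_orderOf_eq_one])
    rw [e]
    induction orderOf a - 1 with
    | zero => rw [pow_zero]; exact lInv_one hK
    | succ n ihn => rw [pow_succ]; exact lInv_mul hK ihn ha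

theorem rV_Lg {g : ↥(twistedE6 K 2)} (hg : g ∈ Lg hK) : rV hK g = 0 := by
  obtain ⟨-, bd, cg, -⟩ := lInv_of_mem hK hg
  obtain ⟨-, hv⟩ := rel_mem hK (Lg_le hK hg)
  have h0 : col20 g = 0 := funext fun i => by
    show g.1.val (lowI i) (ii 6) = 0
    rw [cg, if_neg]
    intro e
    have := deg_lowI i
    rw [e, ix_ii (show 6 < 78 by norm_num), (base_facts.2.2.2.1 6 (by norm_num)).2 rfl] at this
    omega
  rw [h0] at hv
  have e := congrArg (baseI hK *ᵥ ·) hv.symm
  simp only [Matrix.mulVec_mulVec, baseI_mul, Matrix.one_mulVec, Matrix.mulVec_zero] at e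
  exact funext fun i => cst_inj hK (by
    show cst hK (rV hK g i) = cst hK 0
    rw [map_zero]; exact congrFun e i)

/-- the radical as a subgroup -/
def Qr : Subgroup ↥(twistedE6 K 2) :=
  Subgroup.closure (insert (zg hK) {x | ∃ i, i < 20 ∧ x = qg hK i})

theorem conj_Qr {g : ↥(twistedE6 K 2)} (hg : g ∈ Lg hK) {x : ↥(twistedE6 K 2)} (hx : x ∈ Qr hK) :
    g * x * g⁻¹ ∈ Qr hK := by
  have hz : zg hK ∈ Qr hK := Subgroup.subset_closure (Set.mem_insert _ _)
  have hq : ∀ i, i < 20 → qg hK i ∈ Qr hK := fun i hi =>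
    Subgroup.subset_closure (Set.mem_insert_of_mem _ ⟨i, hi, rfl⟩)
  have hsel : ∀ m n, n ≤ 20 → qsel (qg hK) m n ∈ Qr hK := by
    intro m n
    induction n with
    | zero => exact fun _ => one_mem _
    | succ n ih =>
      intro hn
      rw [qsel]
      refine mul_mem (ih (by omega)) ?_
      cases m.testBit n
      · exact one_mem _
      · exact hq n (by omega)
  suffices Lg hK ≤ Subgroup.normalizer (Qr hK) from
    (Subgroup.mem_normalizer_iff.1 (this hg) x).1 hx
  refine (Subgroup.closure_le _).2 ?_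
  rintro s ⟨j, hj, rfl⟩
  obtain ⟨hss, hsz⟩ := s_sq hK hj
  have hinv : (sg hK j)⁻¹ = sg hK j := inv_eq_of_mul_eq_one_right hss
  have hmap : ∀ y ∈ Qr hK, sg hK j * y * (sg hK j)⁻¹ ∈ Qr hK := by
    intro y hy
    induction hy using Subgroup.closure_induction with
    | mem y hy =>
      rcases hy with rfl | ⟨i, hi, rfl⟩
      · rw [← hsz, mul_inv_cancel_right]; exact hz
      · rw [hinv, s_conj hK hj hi]
        refine mul_mem (hsel _ 20 le_rfl) ?_
        cases Nat.beq ((cjTab.getD j []).getD i 0) 1
        · exact one_mem _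
        · exact hz
    | one => simp
    | mul a b _ _ ha hb =>
      rw [show sg hK j * (a * b) * (sg hK j)⁻¹ =
        (sg hK j * a * (sg hK j)⁻¹) * (sg hK j * b * (sg hK j)⁻¹) by group]
      exact mul_mem ha hb
    | inv a _ ha =>
      rw [show sg hK j * a⁻¹ * (sg hK j)⁻¹ = (sg hK j * a * (sg hK j)⁻¹)⁻¹ by group]
      exact inv_mem ha
  refine Subgroup.mem_normalizer_iff.2 fun y => ⟨hmap y, fun h => ?_⟩
  have := hmap _ h
  rw [hinv, show sg hK j * (sg hK j * y * sg hK j) * sg hK j =
    (sg hK j * sg hK j) * y * (sg hK j * sg hK j) by group, hss, one_mul, mul_one] at this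
  exact this

theorem unit_one_fixed {g : ↥(twistedE6 K 2)} (hg : g ∈ Lg hK)
    (hwm : ∀ w, w < 891 → g.1.val *ᵥ wv hK wmFam w = wv hK wmFam w) :
    (g.1.val *ᵥ fun a => if a = ii 1 then (1 : K) else 0) = fun a => if a = ii 1 then 1 else 0 := by
  have := charTwo hK
  have hω := omK_spec hK
  obtain ⟨-, bd, cg, -⟩ := lInv_of_mem hK hg
  have hgP := Lg_le hK hg
  -- the block of degree minus one is trivial
  have hblk : ∀ c i, g.1.val c (lowI i) = if c = lowI i then 1 else 0 := by
    intro c i
    have hsp := span_ok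
    simp only [spanChk, List.all_eq_true, List.mem_range, Bool.and_eq_true, Nat.beq_eq] at hsp
    obtain ⟨hl, hn⟩ := hsp (ix (lowI i)) (ix_lt _)
    have hk5 : ∀ t ∈ spanTab.getD (ix (lowI i)) [], t.1 = 5 := by
      have h := low_span_ok
      simp only [lowSpanChk, List.all_eq_true, List.mem_range, Nat.beq_eq] at h
      rw [ix_lowI]; exact h i.val i.isLt
    generalize spanTab.getD (ix (lowI i)) [] = l at hl hn hk5
    have hcmb : ∀ a, (if a = lowI i then (1 : K) else 0) =
        (l.map fun t => cv (omK hK) t.2.2 * wv hK wmFam t.2.1 a).sum := by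
      intro a
      have e := congrArg (cv (omK hK)) (hn (ix a) (ix_lt a))
      rw [cv_foldl _ _ (fun x hx => by
        obtain ⟨t, ht, rfl⟩ := List.mem_map.1 hx
        refine (cv_cmul hω (bltT (hl t ht).2) ?_).1
        unfold spanCode
        split_ifs <;> first | exact code_lt _ _ | norm_num) (by norm_num), cv_zero, zero_add,
        List.map_map] at e
      refine Eq.trans ?_ (e.symm.trans (congrArg List.sum (List.map_congr_left fun t ht => ?_)))
      · by_cases hab : a = lowI i
        · rw [if_pos hab, if_pos (congrArg ix hab), cv_one]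
        · rw [if_neg hab, if_neg fun e => hab (ix_inj e), cv_zero]
      · show cv (omK hK) (cmulC t.2.2 (spanCode t (ix a))) = _
        have h5 := hk5 t ht
        rw [(cv_cmul hω (bltT (hl t ht).2) (show spanCode t (ix a) < 4 by
          unfold spanCode; split_ifs <;> first | exact code_lt _ _ | norm_num)).2]
        unfold spanCode
        simp only [h5]
        rfl
    have h1 : ∑ b, g.1.val c b * (if b = lowI i then (1 : K) else 0) =
        (if c = lowI i then (1 : K) else 0) := by
      simp only [hcmb]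
      clear hcmb hn
      induction l with
      | nil => simp
      | cons t l ih =>
        simp only [List.map_cons, List.sum_cons, mul_add, Finset.sum_add_distrib]
        rw [ih (fun x hx => hl x (List.mem_cons_of_mem _ hx))
          fun x hx => hk5 x (List.mem_cons_of_mem _ hx)]
        congr 1
        obtain ⟨⟨-, ht2⟩, -⟩ := hl t List.mem_cons_self
        rw [hk5 t List.mem_cons_self, show Nat.beq 5 3 = false from rfl] at ht2
        have e := congrFun (hwm t.2.1 (bltT ht2)) c
        simp only [Matrix.mulVec, dotProduct] at e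
        rw [← e, Finset.mul_sum]
        exact Finset.sum_congr rfl fun b _ => by ring
    rwa [Finset.sum_eq_single (lowI i) (fun b _ hb => by rw [if_neg hb, mul_zero])
      (fun h => absurd (Finset.mem_univ _) h), if_pos rfl, mul_one] at h1
  have hR : rM hK g = 1 := by
    have hb : blk20 g = 1 := funext fun i => funext fun j => by
      show g.1.val (lowI i) (lowI j) = _
      rw [hblk]
      by_cases h : i = j
      · rw [h, if_pos rfl, Matrix.one_apply_eq]
      · rw [if_neg fun e => h (lowI_inj e), Matrix.one_apply_ne h]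
    refine (rel_eq hK (M := 1) (v := rV hK g) ⟨?_, (rel_mem hK hgP).2⟩).1
    rw [hb, Matrix.one_mul, Matrix.map_one _ (map_zero _) (map_one _), Matrix.mul_one]
  -- the conjugate of the first radical generator
  have hxQ : g * qg hK 0 * g⁻¹ ∈ Qr hK :=
    conj_Qr hK hg (Subgroup.subset_closure (Set.mem_insert_of_mem _ ⟨0, by norm_num, rfl⟩))
  obtain ⟨m, hm, b, hb⟩ := (qsys hK).exists_form hxQ
  have hm1 : m = 1 := by
    refine bvz_inj hm (by norm_num) ?_
    rw [← (rMV_form hK m b).2, ← hb]
    obtain ⟨e1, e2⟩ := rMV_mul hK (mul_mem hgP (q_mem hK (i := 0) (by norm_num))) (inv_mem hgP)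
    obtain ⟨-, e4⟩ := rMV_mul hK hgP (q_mem hK (i := 0) (by norm_num))
    rw [e2, rV_Lg hK (inv_mem hg), Matrix.mulVec_zero, add_zero, e4, rV_Lg hK hg, hR,
      Matrix.one_mulVec, zero_add, (rMV_q hK (i := 0) (by norm_num)).2]
    rfl
  have hq1 : qsel (qg hK) 1 20 = qg hK 0 := by
    rw [qsel_wg hK 1 20, show (((List.range 20).filter fun i => (1 : ℕ).testBit i).map qId) = [qId 0]
      by decide +kernel]
    simp [wg, qg]
  rw [hm1, hq1] at hb
  have hcomm : g * qg hK 0 = qg hK 0 * bp (zg hK) b * g := by rw [← hb]; group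
  -- compare the column of the place 31
  have hx := x0_ok
  simp only [x0Chk, Bool.and_eq_true, List.all_eq_true, List.mem_range, Nat.beq_eq,
    Bool.or_eq_true, Bool.not_eq_true'] at hx
  obtain ⟨⟨⟨hx1, hx2⟩, hx3⟩, hx4⟩ := hx
  have hk0 : qId 0 < 244 := bltT hx1
  have hq0 : (qg hK 0).1.val = elMat (omK hK) (elE (qId 0)) := eg_val hK hk0
  have hxcol : ∀ a, deg (ix a) = 2 →
      (qg hK 0).1.val a (ii 31) = if a = ii 1 then 1 else 0 := by
    intro a ha
    rw [hq0, elMat, Matrix.of_apply, ix_ii (show 31 < 78 by norm_num)]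
    rw [(hx3 (ix a) (ix_lt a)).resolve_left (by rw [ha, beqT]; simp)]
    by_cases h : a = ii 1
    · rw [if_pos h, if_pos (by rw [h, ix_ii (show 1 < 78 by norm_num)]), cv_one]
    · rw [if_neg h, if_neg fun e => h (by rw [← e, ii_ix]), cv_zero]
  have h31 : lowI ⟨lowT.idxOf 31, bltT hx4.1⟩ = ii 31 := ix_inj (by
    rw [ix_lowI, ix_ii (show 31 < 78 by norm_num)]; exact hx4.2)
  have hd1 : deg (ix (ii 1)) = 2 := by rw [ix_ii (show 1 < 78 by norm_num)]; rfl
  funext a
  rw [Matrix.mulVec, dotProduct, Finset.sum_eq_single (ii 1) (fun c _ hc => by rw [if_neg hc, mul_zero])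
    (fun h => absurd (Finset.mem_univ _) h), if_pos rfl, mul_one]
  by_cases ha : deg (ix a) = 2
  · have hl : (g * qg hK 0).1.val a (ii 31) = g.1.val a (ii 1) := by
      rw [mul_apply_sum, Finset.sum_eq_single (ii 1)]
      · rw [hxcol _ hd1, if_pos rfl, mul_one]
      · intro c _ hc
        by_cases h2 : deg (ix c) = 2
        · rw [hxcol c h2, if_neg hc, mul_zero]
        · rw [bd a c (by omega), zero_mul]
      · exact fun h => absurd (Finset.mem_univ _) h
    have hr : (qg hK 0 * bp (zg hK) b * g).1.val a (ii 31) = (qg hK 0).1.val a (ii 31) := by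
      rw [mul_apply_sum, Finset.sum_eq_single (ii 31)]
      · rw [← h31, hblk, if_pos rfl, mul_one, h31, mul_apply_sum, Finset.sum_eq_single (ii 31)]
        · have hz : (bp (zg hK) b).1.val (ii 31) (ii 31) = 1 := by
            cases b
            · exact Matrix.one_apply_eq _
            · rw [show (bp (zg hK) true).1.val = elMat (omK hK) (elE zId) from eg_val hK (k := zId) (by decide)]
              refine elMat_diag (es_el (by decide)) fun e he => ?_
              rw [ix_ii (show 31 < 78 by norm_num)]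
              by_contra hc
              push Not at hc
              rcases hx2 e he with h | h
              · rw [hc.2, beqT] at h; exact Bool.noConfusion h
              · rw [hc.1] at h; exact absurd h (by decide)
          rw [hz, mul_one]
        · intro c _ hc
          cases b
          · rw [show (bp (zg hK) false).1.val c (ii 31) = 0 from Matrix.one_apply_ne hc, mul_zero]
          · rw [show (bp (zg hK) true).1.val = elMat (omK hK) (elE zId) from eg_val hK (k := zId) (by decide)]
            by_cases h3 : 3 ≤ deg (ix c)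
            · rw [(parInv_of_mem hK (q_mem hK (i := 0) (by norm_num))).1 a c (by omega), zero_mul]
            · rw [elMat_zero (es_el (by decide)) hc fun e he => ?_, mul_zero]
              rw [ix_ii (show 31 < 78 by norm_num)]
              by_contra hc2
              push Not at hc2
              rcases hx2 e he with h | h
              · rw [hc2.2, beqT] at h; exact Bool.noConfusion h
              · rw [hc2.1] at h; exact h3 (Nat.le_of_ble_eq_true h)
        · exact fun h => absurd (Finset.mem_univ _) h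
      · intro c _ hc
        rw [← h31, hblk, if_neg (by rw [h31]; exact hc), mul_zero]
      · exact fun h => absurd (Finset.mem_univ _) h
    rw [← hl, hcomm, hr, hxcol a ha]
  · rw [bd a (ii 1) (by omega), if_neg fun e => ha (by rw [e, hd1])]

/-- an element of the complement that fixes all points is trivial -/
theorem eq_one_of_piP {g : ↥(twistedE6 K 2)} (hg : g ∈ Lg hK)
    (h : piP hK ⟨g, Lg_le hK hg⟩ = 1) : g = 1 := by
  have := charTwo hK
  obtain ⟨-, bd, cg, f, hf, hfam⟩ := lInv_of_mem hK hg
  have hfix : ∀ k, k < 693 → g.1.val *ᵥ pv hK k = pv hK k := by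
    intro k hk
    obtain ⟨k', hk', hv, hp⟩ := piP_conj hK ⟨g, Lg_le hK hg⟩ hk
    rw [h, one_mul, inv_one, mul_one] at hp
    obtain rfl := pt_inj card_F4 hk hk' hp
    have : f k = k := pv_inj hK (hf k hk).1 hk fun a ha => by
      rw [← (hf k hk).2]; exact hv a ha
    rw [(hf k hk).2, this]
  have hfk : ∀ k, k < 693 → f k = k := fun k hk =>
    pv_inj hK (hf k hk).1 hk fun a _ => by rw [← (hf k hk).2, hfix k hk]
  have hwfix : ∀ F ∈ [wpFam, wmFam], ∀ w, w < 891 → g.1.val *ᵥ wv hK F w = wv hK F w := by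
    intro F hF w hw
    obtain ⟨w', hw', e, hp⟩ := hfam F hF w hw
    have hfc := (fam_facts hF).1
    simp only [wFamChk, Bool.and_eq_true, List.all_eq_true, List.mem_range, Nat.beq_eq] at hfc
    obtain ⟨⟨-, hpt⟩, hord⟩ := hfc
    have hset : mset (wPts F w) = mset (wPts F w') := by
      refine Nat.eq_of_testBit_eq fun k => ?_
      simp only [mset, mset_testBit, Nat.zero_testBit, Bool.false_or, decide_eq_decide]
      rw [hp]
      constructor
      · exact fun hk => ⟨k, hk, hfk k (bltT ((hpt w hw).1 k hk))⟩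
      · rintro ⟨i, hi, rfl⟩
        rwa [hfk i (bltT ((hpt w hw).1 i hi))]
    have hmono : ∀ j, j < 891 → ∀ i, i < j →
        mset (wPts F (cget F.ord i)) < mset (wPts F (cget F.ord j)) := by
      intro j
      induction j with
      | zero => omega
      | succ j ih =>
        intro hj i hi
        have hs := bltT (hord j (by omega))
        rcases Nat.eq_or_lt_of_le (Nat.lt_succ_iff.1 hi) with rfl | hi'
        · exact hs
        · exact (ih (by omega) i hi').trans hs
    obtain ⟨r1, o1⟩ := (hpt w hw).2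
    obtain ⟨r2, o2⟩ := (hpt w' hw').2
    obtain rfl : w = w' := by
      rcases lt_trichotomy (cget F.rank w) (cget F.rank w') with hlt | heq | hgt
      · have := hmono _ (bltT r2) _ hlt
        rw [o1, o2, hset] at this; exact absurd this (lt_irrefl _)
      · rw [← o1, ← o2, heq]
      · have := hmono _ (bltT r1) _ hgt
        rw [o1, o2, hset] at this; exact absurd this (lt_irrefl _)
    exact e
  have hcol : ∀ a, (g.1.val *ᵥ fun b => if b = ii 6 then (1 : K) else 0) a =
      if a = ii 6 then 1 else 0 := fun a => by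
    rw [Matrix.mulVec, dotProduct, Finset.sum_eq_single (ii 6)]
    · rw [if_pos rfl, mul_one, cg]
    · intro c _ hc; rw [if_neg hc, mul_zero]
    · exact fun h => absurd (Finset.mem_univ _) h
  have h77 : ∀ a, g.1.val a (ii 77) = if a = ii 77 then 1 else 0 :=
    (parInv_of_mem hK (Lg_le hK hg)).2.1
  have h1 := unit_one_fixed hK hg (hwfix wmFam (by simp))
  have hunit : ∀ t : ℕ × ℕ × ℕ, t.1 < 6 → t.2.1 < (bif Nat.beq t.1 3 then 693 else 891) →
      g.1.val *ᵥ (fun a => cv (omK hK) (spanCode t (ix a))) =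
        fun a => cv (omK hK) (spanCode t (ix a)) := by
    rintro ⟨t, i, c⟩ ht hi
    have hdelta : ∀ {n : ℕ}, n < 78 → (fun a => cv (omK hK) (if ix a = n then 1 else 0)) =
        fun a => if a = ii n then (1 : K) else 0 := fun {n} hn => funext fun a => by
      by_cases ha : a = ii n
      · rw [if_pos ha, if_pos (by rw [ha, ix_ii hn]), cv_one]
      · rw [if_neg ha, if_neg fun e => ha (by rw [← e, ii_ix]), cv_zero]
    interval_cases t
    · show g.1.val *ᵥ (fun a => cv (omK hK) (if ix a = 1 then 1 else 0)) =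
        fun a => cv (omK hK) (if ix a = 1 then 1 else 0)
      rw [hdelta (by norm_num)]; exact h1
    · show g.1.val *ᵥ (fun a => cv (omK hK) (if ix a = 77 then 1 else 0)) =
        fun a => cv (omK hK) (if ix a = 77 then 1 else 0)
      rw [hdelta (by norm_num)]
      funext a
      rw [Matrix.mulVec, dotProduct, Finset.sum_eq_single (ii 77)]
      · rw [if_pos rfl, mul_one, h77]
      · intro c _ hc; rw [if_neg hc, mul_zero]
      · exact fun h => absurd (Finset.mem_univ _) h
    · show g.1.val *ᵥ (fun a => cv (omK hK) (if ix a = 6 then 1 else 0)) =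
        fun a => cv (omK hK) (if ix a = 6 then 1 else 0)
      rw [hdelta (by norm_num)]; exact funext hcol
    · exact hfix i hi
    · exact hwfix wpFam (by simp) i hi
    · exact hwfix wmFam (by simp) i hi
  refine Subtype.ext (Units.ext (Matrix.ext fun a b => ?_))
  have hsp := span_ok
  simp only [spanChk, List.all_eq_true, List.mem_range, Bool.and_eq_true, Nat.beq_eq] at hsp
  obtain ⟨hl, hn⟩ := hsp (ix b) (ix_lt b)
  generalize spanTab.getD (ix b) [] = l at hl hn
  have hcmb : ∀ a, (if a = b then (1 : K) else 0) =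
      (l.map fun t => cv (omK hK) t.2.2 * cv (omK hK) (spanCode t (ix a))).sum := by
    intro a
    have hcode : ∀ t : ℕ × ℕ × ℕ, ∀ n, spanCode t n < 4 := fun t n => by
      unfold spanCode
      split_ifs <;> first | exact code_lt _ _ | norm_num
    have e := congrArg (cv (omK hK)) (hn (ix a) (ix_lt a))
    rw [cv_foldl _ _ (fun x hx => by
      obtain ⟨t, ht, rfl⟩ := List.mem_map.1 hx
      exact (cv_cmul (omK_spec hK) (bltT (hl t ht).2) (hcode _ _)).1) (by norm_num), cv_zero,
      zero_add, List.map_map] at e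
    refine Eq.trans ?_ (e.symm.trans (congrArg List.sum (List.map_congr_left fun t ht =>
      (cv_cmul (omK_spec hK) (bltT (hl t ht).2) (hcode _ _)).2)))
    by_cases hab : a = b
    · rw [if_pos hab, if_pos (congrArg ix hab), cv_one]
    · rw [if_neg hab, if_neg fun e => hab (ix_inj e), cv_zero]
  have hgb : (g.1.val *ᵥ fun a => if a = b then (1 : K) else 0) = fun a => if a = b then 1 else 0 := by
    funext a'
    simp only [Matrix.mulVec, dotProduct, hcmb]
    clear hcmb hn
    induction l with
    | nil => simp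
    | cons t l ih =>
      simp only [List.map_cons, List.sum_cons, mul_add, Finset.sum_add_distrib]
      rw [ih fun x hx => hl x (List.mem_cons_of_mem _ hx)]
      congr 1
      obtain ⟨⟨ht1, ht2⟩, -⟩ := hl t List.mem_cons_self
      have e := congrFun (hunit t (bltT ht1) (bltT ht2)) a'
      simp only [Matrix.mulVec, dotProduct] at e
      rw [← e, Finset.mul_sum]
      exact Finset.sum_congr rfl fun c _ => by ring
  have e := congrFun hgb a
  rw [Matrix.mulVec, dotProduct, Finset.sum_eq_single b (fun c _ hc => by rw [if_neg hc, mul_zero])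
    (fun h => absurd (Finset.mem_univ _) h), if_pos rfl, mul_one] at e
  rw [e]
  exact Matrix.one_apply.symm

/-- the projection on the complement -/
noncomputable def piL : ↥(Lg hK) →* U6 := (piP hK).comp (Subgroup.inclusion (Lg_le hK))

theorem piL_s {j : ℕ} (hj : j < 8) :
    piL hK ⟨sg hK j, Subgroup.subset_closure ⟨j, hj, rfl⟩⟩ = pgen card_F4 j :=
  piP_s hK hj

theorem piL_bijective : Function.Bijective (piL hK) := by
  refine ⟨(injective_iff_map_eq_one (piL hK)).2 fun g hg => Subtype.ext (eq_one_of_piP hK g.2 hg),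
    MonoidHom.range_eq_top.1 (top_le_iff.1 ?_)⟩
  rw [← Cfsg.Agent.H27.U6Mult.gen_top card_F4, Subgroup.closure_le]
  rintro _ ⟨j, hj, rfl⟩
  exact ⟨_, piL_s hK hj⟩

/-- the complement is `PSU 6 F 2` -/
noncomputable def eLg : ↥(Lg hK) ≃* U6 := MulEquiv.ofBijective (piL hK) (piL_bijective hK)

theorem eLg_s {j : ℕ} (hj : j < 8) :
    eLg hK ⟨sg hK j, Subgroup.subset_closure ⟨j, hj, rfl⟩⟩ = pgen card_F4 j :=
  piL_s hK hj

theorem piP_coe (g : ↥(Lg hK)) : piP hK ⟨g.1, Lg_le hK g.2⟩ = eLg hK g := rfl

theorem lg_perfect : ⁅Lg hK, Lg hK⁆ = Lg hK := by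
  have h : commutator ↥(Lg hK) = ⊤ := by
    refine top_le_iff.1 fun x _ => ?_
    have hx : eLg hK x ∈ commutator U6 := by
      rw [Cfsg.Agent.H27.U6Mult.psu_perfect card_F4]; exact Subgroup.mem_top _
    have hm : (commutator ↥(Lg hK)).map (eLg hK).toMonoidHom = commutator U6 := by
      rw [commutator_def, commutator_def, Subgroup.map_commutator,
        Subgroup.map_top_of_surjective (eLg hK).toMonoidHom (eLg hK).surjective]
    rw [← hm] at hx
    obtain ⟨y, hy, e⟩ := hx
    rwa [← (eLg hK).injective e]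
  calc ⁅Lg hK, Lg hK⁆ = (commutator ↥(Lg hK)).map (Lg hK).subtype := by
        rw [commutator_def, Subgroup.map_commutator, ← MonoidHom.range_eq_map,
          Subgroup.range_subtype]
    _ = Lg hK := by rw [h, ← MonoidHom.range_eq_map, Subgroup.range_subtype]

end Faith

end Cfsg.Agent.H56.EMult
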