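import Cfsg.Agent.H56.EMult.RootCheck
import Cfsg.Prelude.Def_LieTwisted

/-!
The group over the field with four elements: the letters generate, the tabled elements belong to it,
and equal packed products give equal elements.
-/

set_option autoImplicit false
set_option maxRecDepth 100000
set_option Elab.async false

namespace Cfsg.Agent.H56.EMult

open Cfsg.Lie

/-- the letters are involutions -/
noncomputable def invChk : Bool :=
  (List.range 12).all fun k => peq (runT 78 [elE k, elE k] idP) idP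

theorem inv_ok : invChk = true := by decide +kernel

/-- the parameter zero of the root elements of the letters -/
def zeroKeys : Bool :=
  ([46, 25, 39, 32].all fun r => [0, 1].all fun t => rootKey.contains (r, t)) &&
    [56, 36, 15, 35, 42, 37, 29, 34].all fun r => [0, 1, 2, 3].all fun t => rootKey.contains (r, t)

theorem keys_ok : zeroKeys = true := by decide +kernel

/-- the places of the generating words: the root elements and the elements equal to them -/
def genRows : List (List (ℕ × ℕ) × List ℕ) :=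
  [([(46, 0)], []), ([(46, 1)], [0]), ([(25, 0)], []), ([(25, 1)], [1]), ([(39, 0)], []),
   ([(39, 1)], [2]), ([(32, 0)], []), ([(32, 1)], [3]),
   ([(56, 0), (36, 0)], []), ([(56, 1), (36, 1)], [4]), ([(56, 2), (36, 3)], [5]),
   ([(56, 3), (36, 2)], [4, 5]), ([(15, 0), (35, 0)], []), ([(15, 1), (35, 1)], [6]),
   ([(15, 2), (35, 3)], [7]), ([(15, 3), (35, 2)], [6, 7]), ([(42, 0), (37, 0)], []),
   ([(42, 1), (37, 1)], [8]), ([(42, 2), (37, 3)], [9]), ([(42, 3), (37, 2)], [8, 9]),
   ([(29, 0), (34, 0)], []), ([(29, 1), (34, 1)], [10]), ([(29, 2), (34, 3)], [11]),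
   ([(29, 3), (34, 2)], [10, 11])]

/-- the index of a root element -/
def rootIdx (p : ℕ × ℕ) : ℕ := rootKey.idxOf p

/-- the check of the generating words -/
noncomputable def genChk : Bool :=
  genRows.all fun p =>
    p.1.all (fun x => Nat.blt (rootIdx x) 40 &&
      Nat.beq (rootKey.getD (rootIdx x) (0, 0)).1 x.1 &&
      Nat.beq (rootKey.getD (rootIdx x) (0, 0)).2 x.2) &&
    p.2.all (fun k => Nat.blt k 12) &&
      peq (runT 78 (p.1.map fun x => rootE (rootIdx x)) idP) (runT 78 (p.2.map elE) idP)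

theorem gen_ok : genChk = true := by decide +kernel

section Field4

variable {K : Type*} [Field K] [Fintype K] (hK : Fintype.card K = 4)

include hK

theorem exists_om : ∃ w : K, w ^ 2 + w + 1 = 0 := by
  classical
  have hlt : ({0, 1} : Finset K).card < (Finset.univ : Finset K).card := by
    rw [Finset.card_univ, hK]
    exact lt_of_le_of_lt (Finset.card_insert_le _ _) (by simp)
  obtain ⟨w, -, hw⟩ := Finset.exists_mem_notMem_of_card_lt_card hlt
  simp only [Finset.mem_insert, Finset.mem_singleton, not_or] at hw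
  refine ⟨w, ?_⟩
  have h1 := FiniteField.pow_card_sub_one_eq_one w hw.1
  rw [hK] at h1
  have h : (w - 1) * (w ^ 2 + w + 1) = 0 := by linear_combination h1
  exact (mul_eq_zero.mp h).resolve_left (sub_ne_zero.mpr hw.2)

theorem charTwo : CharP K 2 :=
  have : Fact (Nat.Prime 2) := ⟨Nat.prime_two⟩
  charP_of_card_eq_prime_pow (f := 2) hK

/-- a root of `X² + X + 1` -/
noncomputable def omK : K := (exists_om hK).choose

theorem omK_spec : omK hK ^ 2 + omK hK + 1 = 0 := (exists_om hK).choose_spec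

theorem cv_surj (x : K) : ∃ c, c < 4 ∧ cv (omK hK) c = x := by
  have := charTwo hK
  have h := omK_spec hK
  obtain ⟨h0, h1, h3⟩ := omega_ne h
  have hinj : Function.Injective fun c : Fin 4 => cv (omK hK) c.val := by
    rintro ⟨a, ha⟩ ⟨b, hb⟩ e
    change cv _ a = cv _ b at e
    refine Fin.ext (show a = b from ?_)
    interval_cases a <;> interval_cases b <;>
      simp only [cv_zero, cv_one, cv_two, cv_three] at e <;>
      first
        | rfl | exact absurd e h0 | exact absurd e.symm h0 | exact absurd e h1 | exact absurd e.symm h1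
        | exact absurd e h3 | exact absurd e.symm h3 | exact absurd e one_ne_zero
        | exact absurd e zero_ne_one
        | exact absurd (by linear_combination e) h0
        | exact absurd (by linear_combination -e) h0
        | exact absurd (a := (1 : K) = 0) (by linear_combination e) one_ne_zero
        | exact absurd (a := (1 : K) = 0) (by linear_combination -e) one_ne_zero
  obtain ⟨c, hc⟩ := ((Fintype.bijective_iff_injective_and_card _).2
    ⟨hinj, by simp [hK]⟩).2 x
  exact ⟨c.val, c.isLt, hc⟩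

/-- the matrix of a tabled element -/
noncomputable def eM (k : ℕ) : Matrix chevE6.Idx chevE6.Idx K := elMat (omK hK) (elE k)

omit hK in
theorem el_all {k : ℕ} (h : k < 244) (h12 : 12 ≤ k) : elChk k = true := by
  rcases Nat.lt_or_ge k 100 with h1 | h1
  · exact List.all_eq_true.1 el_ok0 k (List.mem_map.2 ⟨k - 12, List.mem_range.2 (by omega), by omega⟩)
  rcases Nat.lt_or_ge k 172 with h2 | h2
  · exact List.all_eq_true.1 el_ok1 k (List.mem_map.2 ⟨k - 100, List.mem_range.2 (by omega), by omega⟩)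
  · exact List.all_eq_true.1 el_ok2 k (List.mem_map.2 ⟨k - 172, List.mem_range.2 (by omega), by omega⟩)

omit hK in
theorem root_all {i : ℕ} (h : i < 40) : rootChk i = true := by
  rcases Nat.lt_or_ge i 8 with h1 | h1
  · exact List.all_eq_true.1 root_ok0 i (List.mem_range.2 h1)
  rcases Nat.lt_or_ge i 16 with h2 | h2
  · exact List.all_eq_true.1 root_ok1 i (List.mem_map.2 ⟨i - 8, List.mem_range.2 (by omega), by omega⟩)
  rcases Nat.lt_or_ge i 24 with h3 | h3
  · exact List.all_eq_true.1 root_ok2 i (List.mem_map.2 ⟨i - 16, List.mem_range.2 (by omega), by omega⟩)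
  rcases Nat.lt_or_ge i 32 with h4 | h4
  · exact List.all_eq_true.1 root_ok3 i (List.mem_map.2 ⟨i - 24, List.mem_range.2 (by omega), by omega⟩)
  · exact List.all_eq_true.1 root_ok4 i (List.mem_map.2 ⟨i - 32, List.mem_range.2 (by omega), by omega⟩)

omit hK in
theorem es_el {k : ℕ} (h : k < 244) : esOK (elE k) = true := by
  rcases Nat.lt_or_ge k 12 with h1 | h1
  · have := List.all_eq_true.1 let_ok k (List.mem_range.2 h1)
    simp only [letChk, Bool.and_eq_true] at this
    exact this.1.1
  · have := el_all h h1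
    simp only [elChk, Bool.and_eq_true] at this
    exact this.1.1

omit hK in
theorem es_root {i : ℕ} (h : i < 40) : esOK (rootE i) = true := by
  have := root_all h
  simp only [rootChk, entOK, Bool.and_eq_true] at this
  exact this.1.2

theorem eM_prod_of_run {w w' : List ℕ} (hw : ∀ k ∈ w, k < 244) (hw' : ∀ k ∈ w', k < 244)
    (e : runT 78 (w.map elE) idP = runT 78 (w'.map elE) idP) :
    (w.map (eM hK)).prod = (w'.map (eM hK)).prod := by
  have := charTwo hK
  have := prod_eq_of_run (omK_spec hK)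
    (l := w.map elE) (l' := w'.map elE)
    (fun es hes => by obtain ⟨k, hk, rfl⟩ := List.mem_map.1 hes; exact es_el (hw k hk))
    (fun es hes => by obtain ⟨k, hk, rfl⟩ := List.mem_map.1 hes; exact es_el (hw' k hk)) e
  simp only [List.map_map] at this
  exact this

theorem x_root {p : ℕ × ℕ} (hp : Nat.blt (rootIdx p) 40 = true)
    (e1 : Nat.beq (rootKey.getD (rootIdx p) (0, 0)).1 p.1 = true)
    (e2 : Nat.beq (rootKey.getD (rootIdx p) (0, 0)).2 p.2 = true) (ht : p.2 < 4) :
    chevE6.x K p.1 (cv (omK hK) p.2) = elMat (omK hK) (rootE (rootIdx p)) := by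
  have := charTwo hK
  have hi := bltT hp
  have h := root_all hi
  simp only [Nat.beq_eq] at e1 e2
  rw [rootChk, e1, e2] at h
  obtain ⟨hr', -, -, hent⟩ := entOK_spec h
  have hr : p.1 < chevE6.nroots := hr' 
  rw [ChevalleyDatum.x, dif_pos hr]
  funext a b
  rw [xMat_entC (omK_spec hK) ht]
  exact congrArg (cv (omK hK)) (hent (ix a) (ix b) (ix_lt b))

theorem wordMat_row {p : List (ℕ × ℕ) × List ℕ} (hp : p ∈ genRows) :
    chevE6.wordMat K (p.1.map fun x => (x.1, cv (omK hK) x.2)) = (p.2.map (eM hK)).prod := by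
  have := charTwo hK
  have h := List.all_eq_true.1 gen_ok p hp
  simp only [Bool.and_eq_true, List.all_eq_true] at h
  obtain ⟨⟨h1, h2⟩, h3⟩ := h
  have ht : ∀ x ∈ p.1, x.2 < 4 := by
    have : ∀ p ∈ genRows, ∀ x ∈ p.1, x.2 < 4 := by decide
    exact this p hp
  have e := prod_eq_of_run (omK_spec hK)
    (l := p.1.map fun x => rootE (rootIdx x)) (l' := p.2.map elE)
    (fun es hes => by
      obtain ⟨x, hx, rfl⟩ := List.mem_map.1 hes
      exact es_root (bltT (h1 x hx).1.1))
    (fun es hes => by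
      obtain ⟨k, hk, rfl⟩ := List.mem_map.1 hes
      exact es_el (lt_trans (bltT (h2 k hk)) (by norm_num)))
    (peq_eq h3)
  simp only [List.map_map] at e
  rw [ChevalleyDatum.wordMat, List.map_map]
  refine Eq.trans (congrArg List.prod (List.map_congr_left fun x hx => ?_)) e
  exact x_root hK (h1 x hx).1.1 (h1 x hx).1.2 (h1 x hx).2 (ht x hx)

theorem eM_mul_self {k : ℕ} (hk : k < 12) : eM hK k * eM hK k = 1 := by
  have h := List.all_eq_true.1 inv_ok k (List.mem_range.2 hk)
  have := eM_prod_of_run hK (w := [k, k]) (w' := [])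
    (by intro x hx; simp at hx; omega) (by simp) (peq_eq h)
  simpa using this

theorem let_mem (k : ℕ) (hk : k < 12) :
    ∃ g : ↥(twistedE6 K 2), g.1.val = eM hK k := by
  have hu := eM_mul_self hK hk
  let g : GL chevE6.Idx K := ⟨eM hK k, eM hK k, hu, hu⟩
  have hrow : ∃ p ∈ genRows, p.2 = [k] ∧ ∃ t : ℕ, t < 4 ∧
      ((∃ r ∈ [e6p2, e6m2, e6p4, e6m4], t = 1 ∧ p.1 = [(r, 1)]) ∨
        ∃ rs ∈ [(e6p1, e6p6), (e6m1, e6m6), (e6p3, e6p5), (e6m3, e6m5)],
          p.1 = [(rs.1, t), (rs.2, cmulC t t)]) := by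
    interval_cases k
    exacts [⟨([(46, 1)], [0]), by decide, rfl, 1, by decide, Or.inl ⟨46, by decide, rfl, rfl⟩⟩,
      ⟨([(25, 1)], [1]), by decide, rfl, 1, by decide, Or.inl ⟨25, by decide, rfl, rfl⟩⟩,
      ⟨([(39, 1)], [2]), by decide, rfl, 1, by decide, Or.inl ⟨39, by decide, rfl, rfl⟩⟩,
      ⟨([(32, 1)], [3]), by decide, rfl, 1, by decide, Or.inl ⟨32, by decide, rfl, rfl⟩⟩,
      ⟨([(56, 1), (36, 1)], [4]), by decide, rfl, 1, by decide, Or.inr ⟨(56, 36), by decide, rfl⟩⟩,
      ⟨([(56, 2), (36, 3)], [5]), by decide, rfl, 2, by decide, Or.inr ⟨(56, 36), by decide, rfl⟩⟩,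
      ⟨([(15, 1), (35, 1)], [6]), by decide, rfl, 1, by decide, Or.inr ⟨(15, 35), by decide, rfl⟩⟩,
      ⟨([(15, 2), (35, 3)], [7]), by decide, rfl, 2, by decide, Or.inr ⟨(15, 35), by decide, rfl⟩⟩,
      ⟨([(42, 1), (37, 1)], [8]), by decide, rfl, 1, by decide, Or.inr ⟨(42, 37), by decide, rfl⟩⟩,
      ⟨([(42, 2), (37, 3)], [9]), by decide, rfl, 2, by decide, Or.inr ⟨(42, 37), by decide, rfl⟩⟩,
      ⟨([(29, 1), (34, 1)], [10]), by decide, rfl, 1, by decide, Or.inr ⟨(29, 34), by decide, rfl⟩⟩,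
      ⟨([(29, 2), (34, 3)], [11]), by decide, rfl, 2, by decide, Or.inr ⟨(29, 34), by decide, rfl⟩⟩]
  obtain ⟨p, hp, hp2, t, ht, hcase⟩ := hrow
  have e := wordMat_row hK hp
  rw [hp2, List.map_cons, List.map_nil, List.prod_singleton] at e
  refine ⟨⟨g, Subgroup.subset_closure ⟨_, ?_, e.symm⟩⟩, rfl⟩
  rcases hcase with ⟨r, hr, -, hp1⟩ | ⟨rs, hrs, hp1⟩
  · refine Or.inl ⟨1, one_pow _, r, hr, ?_⟩
    rw [hp1]; rfl
  · refine Or.inr ⟨cv (omK hK) t, rs, hrs, ?_⟩
    rw [hp1]
    have := charTwo hK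
    simp only [List.map_cons, List.map_nil, (cv_cmul (omK_spec hK) ht ht).2, sq]

theorem eM_mem : ∀ k, k < 244 → ∃ g : ↥(twistedE6 K 2), g.1.val = eM hK k := by
  intro k
  induction k using Nat.strong_induction_on with
  | _ k ih =>
    intro hk
    rcases Nat.lt_or_ge k 12 with h1 | h1
    · exact let_mem hK k h1
    have h := el_all hk h1
    simp only [elChk, Bool.and_eq_true, List.all_eq_true] at h
    have hlt : ∀ x ∈ elDef.getD k [], x < k := fun x hx => bltT (h.1.2 x hx)
    have e := eM_prod_of_run hK (w := [k]) (w' := elDef.getD k [])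
      (by intro x hx; simp at hx; omega) (fun x hx => (hlt x hx).trans hk) (peq_eq h.2)
    rw [List.map_cons, List.map_nil, List.prod_singleton] at e
    rw [e]
    generalize elDef.getD k [] = w at hlt
    clear e h
    induction w with
    | nil => exact ⟨1, by simp⟩
    | cons a w iw =>
      obtain ⟨x, hx⟩ := ih a (hlt a List.mem_cons_self) ((hlt a List.mem_cons_self).trans hk)
      obtain ⟨y, hy⟩ := iw fun b hb => hlt b (List.mem_cons_of_mem _ hb)
      exact ⟨x * y, by simp [hx, hy]⟩

/-- a tabled element -/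
noncomputable def eg (k : ℕ) : ↥(twistedE6 K 2) :=
  if h : k < 244 then (eM_mem hK k h).choose else 1

theorem eg_val {k : ℕ} (h : k < 244) : (eg hK k).1.val = eM hK k := by
  rw [eg, dif_pos h]; exact (eM_mem hK k h).choose_spec

/-- a product of tabled elements -/
noncomputable def wg (w : List ℕ) : ↥(twistedE6 K 2) := (w.map (eg hK)).prod

theorem wg_val {w : List ℕ} (hw : ∀ k ∈ w, k < 244) : (wg hK w).1.val = (w.map (eM hK)).prod := by
  induction w with
  | nil => simp [wg]
  | cons a w ih =>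
    rw [wg, List.map_cons, List.prod_cons, List.map_cons, List.prod_cons,
      ← eg_val hK (hw a List.mem_cons_self), ← ih fun b hb => hw b (List.mem_cons_of_mem _ hb)]
    simp [wg]

theorem wg_append (w w' : List ℕ) : wg hK (w ++ w') = wg hK w * wg hK w' := by
  simp [wg]

theorem wg_eq {w w' : List ℕ} (hw : ∀ k ∈ w, k < 244) (hw' : ∀ k ∈ w', k < 244)
    (e : peq (runT 78 (w.map elE) idP) (runT 78 (w'.map elE) idP) = true) :
    wg hK w = wg hK w' := by
  refine Subtype.ext (Units.ext ?_)
  rw [wg_val hK hw, wg_val hK hw', eM_prod_of_run hK hw hw' (peq_eq e)]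

theorem closure_letters :
    Subgroup.closure {g : ↥(twistedE6 K 2) | ∃ k, k < 12 ∧ g = eg hK k} = ⊤ := by
  rw [eq_top_iff]
  rintro ⟨g, hg⟩ -
  set C := Subgroup.closure {g : ↥(twistedE6 K 2) | ∃ k, k < 12 ∧ g = eg hK k}
  suffices g ∈ C.map (twistedE6 K 2).subtype by
    obtain ⟨x, hx, e⟩ := this
    rwa [← show x = (⟨g, hg⟩ : ↥(twistedE6 K 2)) from Subtype.ext e]
  refine (Subgroup.closure_le _).2 ?_ hg
  rintro u ⟨w, hw, hu⟩
  have := charTwo hK
  have hrow : ∃ p ∈ genRows, w = p.1.map fun x => (x.1, cv (omK hK) x.2) := by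
    rcases hw with ⟨t, ht, r, hr, rfl⟩ | ⟨t, rs, hrs, rfl⟩
    · have h01 : t = cv (omK hK) 0 ∨ t = cv (omK hK) 1 := by
        rw [cv_zero, cv_one]
        rcases eq_or_ne t 0 with h0 | h0
        · exact Or.inl h0
        · exact Or.inr (mul_left_cancel₀ h0 (by rw [← sq, ht, mul_one]))
      simp only [List.mem_cons, List.not_mem_nil, or_false] at hr
      rcases hr with rfl | rfl | rfl | rfl <;> rcases h01 with rfl | rfl
      exacts [⟨([(46, 0)], []), by decide, rfl⟩, ⟨([(46, 1)], [0]), by decide, rfl⟩,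
        ⟨([(25, 0)], []), by decide, rfl⟩, ⟨([(25, 1)], [1]), by decide, rfl⟩,
        ⟨([(39, 0)], []), by decide, rfl⟩, ⟨([(39, 1)], [2]), by decide, rfl⟩,
        ⟨([(32, 0)], []), by decide, rfl⟩, ⟨([(32, 1)], [3]), by decide, rfl⟩]
    · obtain ⟨c, hc, rfl⟩ := cv_surj hK t
      have key : ∀ c, c < 4 → ∀ rs ∈ [(e6p1, e6p6), (e6m1, e6m6), (e6p3, e6p5), (e6m3, e6m5)],
          genRows.any (fun p => p.1 == [(rs.1, c), (rs.2, cmulC c c)]) = true := by decide
      obtain ⟨p, hp, e⟩ := List.any_eq_true.1 (key c hc rs hrs)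
      rw [beq_iff_eq] at e
      refine ⟨p, hp, ?_⟩
      rw [e]
      simp only [List.map_cons, List.map_nil, (cv_cmul (omK_spec hK) hc hc).2, sq]
  obtain ⟨p, hp, rfl⟩ := hrow
  have hlt : ∀ k ∈ p.2, k < 12 := by
    have h := List.all_eq_true.1 gen_ok p hp
    simp only [Bool.and_eq_true, List.all_eq_true] at h
    exact fun k hk => bltT (h.1.2 k hk)
  refine ⟨wg hK p.2, list_prod_mem fun x hx => ?_, Units.ext ?_⟩
  · obtain ⟨k, hk, rfl⟩ := List.mem_map.1 hx
    exact Subgroup.subset_closure ⟨k, hlt k hk, rfl⟩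
  · rw [hu, wordMat_row hK hp]
    exact wg_val hK fun k hk => (hlt k hk).trans (by norm_num)

end Field4

end Cfsg.Agent.H56.EMult
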