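import Cfsg.Agent.H56.EMult.RadCheck
import Cfsg.Agent.H56.EMult.LeviData
import Cfsg.Agent.H27.Fi22U6.Check

/-!
The action of the parabolic subgroup on the vectors of degree zero checked by evaluation.
-/

set_option autoImplicit false
set_option maxRecDepth 100000
set_option Elab.async false

namespace Cfsg.Agent.H56.EMult

open Cfsg.Agent.H45 (cget force force_eq)

/-- the image point of a generator -/
noncomputable def pImg (p k : ℕ) : ℕ :=
  bif Nat.blt p 21 then k else Cfsg.Agent.H27.Fi22U6.nxt (p - 21) k / 4

/-- the checks of one generator at all points -/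
noncomputable def levChk (p : ℕ) : Bool :=
  let P := stepE 693 (elE (pIds.getD p 0)) pvTab
  force P.1 fun a => force P.2 fun b =>
    (List.range 693).all fun k => Nat.blt (pImg p k) 693 &&
      midT.all fun n => Nat.beq (code (a, b) (693 * n + k)) (code pvTab (693 * n + pImg p k))

/-- the rows above degree zero of the vectors vanish and the rows below too -/
def pvMid : Bool :=
  ((List.range 78).all fun n => decide (n ∈ midT) == Nat.beq (deg n) 2) &&
    (List.range 78).all fun n => decide (n ∈ midT) ||
      (Nat.beq ((pvTab.1 >>> (693 * n)) % 2 ^ 693) 0 && Nat.beq ((pvTab.2 >>> (693 * n)) % 2 ^ 693) 0)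

/-- the key of a vector -/
def pvKey (k : ℕ) : ℕ :=
  (midT.map fun n => code pvTab (693 * n + k)).foldr (fun c a => c + 4 * a) 0

/-- the vectors are different -/
def pvDiff : Bool :=
  ((List.range 693).all fun k =>
    Nat.blt (cget pvRank k) 693 && Nat.beq (cget pvOrd (cget pvRank k)) k) &&
  (List.range 692).all fun i => Nat.blt (pvKey (cget pvOrd i)) (pvKey (cget pvOrd (i + 1)))

theorem pv_mid : pvMid = true := by decide +kernel

theorem pv_diff : pvDiff = true := by decide +kernel

theorem lev_ok0 : (List.range 7).all levChk = true := by decide +kernel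

theorem lev_ok1 : ((List.range 7).map (7 + ·)).all levChk = true := by decide +kernel

theorem lev_ok2 : ((List.range 7).map (14 + ·)).all levChk = true := by decide +kernel

theorem lev_ok3 : ((List.range 8).map (21 + ·)).all levChk = true := by decide +kernel

end Cfsg.Agent.H56.EMult
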