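import Cfsg.Agent.H56.EMult.Rad
import Cfsg.Agent.H56.EMult.LeviCheck
import Cfsg.Agent.H27.U6Mult.Bound
import Mathlib.FieldTheory.Finite.GaloisField

/-!
The projection of the parabolic subgroup onto `PSU 6 F 2` through its action on the vectors of degree
zero attached to the isotropic points.
-/

set_option autoImplicit false
set_option maxRecDepth 100000

namespace Cfsg.Agent.H56.EMult

open Cfsg.Lie
open scoped Matrix
open Cfsg.Agent.H27.Fi22U6 (pt nxt nxt_spec closure_pt pt_all)
open Cfsg.Agent.H27.U6Mult (pgen)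
open Cfsg.Agent.H93 (psu_six_center)
open Cfsg.Agent.H45 (cget force force_eq)

/-- the model field with four elements -/
abbrev F4 : Type := GaloisField 2 2

noncomputable instance fintypeF4 : Fintype F4 := Fintype.ofFinite _

theorem card_F4 : Fintype.card F4 = 4 := by
  rw [← Nat.card_eq_fintype_card, GaloisField.card 2 2 (by norm_num)]
  rfl

/-- the model group -/
abbrev U6 : Type := Cfsg.PSU 6 F4 2

theorem cv_inj {K : Type*} [Field K] [CharP K 2] {ω : K} (h : ω ^ 2 + ω + 1 = 0) {a b : ℕ}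
    (ha : a < 4) (hb : b < 4) (e : cv ω a = cv ω b) : a = b := by
  obtain ⟨h0, -, h3⟩ := omega_ne h
  have hc : a ^^^ b < 4 := Nat.xor_lt_two_pow (n := 2) ha hb
  have hz : cv ω (a ^^^ b) = 0 := by rw [(cv_xor ha hb).2, e, CharTwo.add_self_eq_zero]
  refine Nat.xor_eq_zero_iff.1 ?_
  generalize a ^^^ b = c at hc hz
  interval_cases c
  · rfl
  · exact absurd hz one_ne_zero
  · exact absurd hz h0
  · exact absurd hz h3

section Levi

variable {K : Type*} [Field K] [Fintype K] (hK : Fintype.card K = 4)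

/-- the vector of degree zero of a point -/
noncomputable def pv (k : ℕ) : chevE6.Idx → K := fun a => cv (omK hK) (code pvTab (693 * ix a + k))

/-- the image of a generator -/
noncomputable def gImg (p : ℕ) : U6 := if p < 21 then 1 else pgen card_F4 (p - 21)

/-- the graph of the projection -/
noncomputable def pGraph : Subgroup (↥(twistedE6 K 2) × U6) :=
  Subgroup.closure {x | ∃ p, p < 29 ∧ x = (eg hK (pIds.getD p 0), gImg p)}

/-- the invariant of the graph -/
def GraphInv (x : ↥(twistedE6 K 2) × U6) : Prop :=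
  x.1 ∈ Pp hK ∧ ∀ k, k < 693 → ∃ k', k' < 693 ∧
    (∀ a, deg (ix a) ≤ 2 → (x.1.1.val *ᵥ pv hK k) a = pv hK k' a) ∧
      x.2 * pt card_F4 k * x.2⁻¹ = pt card_F4 k'

include hK

omit hK in
theorem lev_all {p : ℕ} (hp : p < 29) : levChk p = true := by
  rcases Nat.lt_or_ge p 7 with h | h
  · exact List.all_eq_true.1 lev_ok0 p (List.mem_range.2 h)
  rcases Nat.lt_or_ge p 14 with h2 | h2
  · exact List.all_eq_true.1 lev_ok1 p (List.mem_map.2 ⟨p - 7, List.mem_range.2 (by omega), by omega⟩)
  rcases Nat.lt_or_ge p 21 with h3 | h3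
  · exact List.all_eq_true.1 lev_ok2 p (List.mem_map.2 ⟨p - 14, List.mem_range.2 (by omega), by omega⟩)
  · exact List.all_eq_true.1 lev_ok3 p (List.mem_map.2 ⟨p - 21, List.mem_range.2 (by omega), by omega⟩)

omit [Field K] [Fintype K] hK in
theorem mid_facts : (∀ n, n < 78 → (n ∈ midT ↔ deg n = 2)) ∧
    ∀ n, n < 78 → deg n ≠ 2 → ∀ k, k < 693 → code pvTab (693 * n + k) = 0 := by
  have h := pv_mid
  simp only [pvMid, Bool.and_eq_true, List.all_eq_true, List.mem_range, Bool.or_eq_true,
    decide_eq_true_eq, Nat.beq_eq] at h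
  obtain ⟨h1, h2⟩ := h
  have hiff : ∀ n, n < 78 → (n ∈ midT ↔ deg n = 2) := fun n hn => by
    have := eq_of_beq (h1 n hn)
    constructor
    · intro e; rw [decide_eq_true e] at this; exact Nat.eq_of_beq_eq_true this.symm
    · intro e; rw [e, beqT] at this; exact of_decide_eq_true this
  refine ⟨hiff, fun n hn hd k hk => ?_⟩
  obtain ⟨e1, e2⟩ := (h2 n hn).resolve_left fun e => hd ((hiff n hn).1 e)
  have key : ∀ x, (x >>> (693 * n)) % 2 ^ 693 = 0 → x >>> (693 * n + k) % 2 = 0 := by
    intro x hx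
    have := congrArg (fun y => y.testBit k) hx
    rw [Nat.testBit_mod_two_pow, Nat.testBit_shiftRight, Nat.zero_testBit, decide_eq_true hk,
      Bool.true_and, Nat.testBit_eq_decide_div_mod_eq, decide_eq_false_iff_not] at this
    rw [Nat.shiftRight_eq_div_pow]
    omega
  rw [code, key _ e1, key _ e2]

theorem graph_gen {p : ℕ} (hp : p < 29) : GraphInv hK (eg hK (pIds.getD p 0), gImg p) := by
  have := charTwo hK
  have hω := omK_spec hK
  have hmem : pIds.getD p 0 ∈ pIds := by
    have : ∀ p, p < 29 → pIds.getD p 0 ∈ pIds := by decide +kernel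
    exact this p hp
  have h := lev_all hp
  simp only [levChk, force_eq, List.all_eq_true, List.mem_range, Bool.and_eq_true, Nat.beq_eq] at h
  have hk244 : pIds.getD p 0 < 244 := by
    have : ∀ p, p < 29 → pIds.getD p 0 < 244 := by decide +kernel
    exact this p hp
  have hes := es_el hk244
  refine ⟨gen_mem hK hmem, fun k hk => ⟨pImg p k, bltT (h k hk).1, fun a ha => ?_, ?_⟩⟩
  · have e := congrFun (congrFun (matOf_step (W := 693) hω hes pvTab) a) ⟨k, hk⟩
    rw [Matrix.mulVec, dotProduct]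
    simp only [matOf, Matrix.of_apply, Matrix.mul_apply, pval_code] at e
    show ∑ b, (eg hK (pIds.getD p 0)).1.val a b * pv hK k b = _
    rw [show (eg hK (pIds.getD p 0)).1.val = elMat (omK hK) (elE (pIds.getD p 0)) from eg_val hK hk244]
    refine e.symm.trans ?_
    show cv (omK hK) _ = cv (omK hK) _
    rcases Nat.lt_or_ge (deg (ix a)) 2 with hlt | hge
    · -- both sides vanish below degree zero
      have h0 := mid_facts.2 (ix a) (ix_lt a) (by omega)
      rw [h0 _ (bltT (h k hk).1)]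
      have tri := (parInv_of_mem hK (gen_mem hK hmem)).1
      have hz : cv (omK hK) (code (stepE 693 (elE (pIds.getD p 0)) pvTab) (693 * ix a + k)) = 0 := by
        rw [e]
        refine Finset.sum_eq_zero fun b _ => ?_
        by_cases hb : deg (ix b) = 2
        · have := tri a b (by omega)
          rw [show (eg hK (pIds.getD p 0)).1.val = elMat (omK hK) (elE (pIds.getD p 0)) from
            eg_val hK hk244] at this
          rw [this, zero_mul]
        · rw [mid_facts.2 (ix b) (ix_lt b) hb k hk, cv_zero, mul_zero]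
      exact hz.trans cv_zero.symm
    · exact congrArg (cv (omK hK)) ((h k hk).2 (ix a) ((mid_facts.1 _ (ix_lt a)).2 (by omega)))
  · show gImg p * _ * (gImg p)⁻¹ = pt card_F4 (pImg p k)
    unfold gImg pImg
    by_cases h21 : p < 21
    · rw [if_pos h21, show Nat.blt p 21 = true from Nat.ble_eq_true_of_le h21]
      simp
    · rw [if_neg h21, show Nat.blt p 21 = false from Bool.eq_false_iff.2 fun e => h21 (bltT e)]
      have hj : p - 21 < 8 := by omega
      obtain ⟨-, -, e⟩ := nxt_spec card_F4 hj hk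
      rw [show (pgen card_F4 (p - 21))⁻¹ = pgen card_F4 (p - 21) from
        inv_eq_of_mul_eq_one_right (Cfsg.Agent.H93.ptv_mul_self card_F4 _)]
      exact e

theorem graph_mul {x y : ↥(twistedE6 K 2) × U6} (hx : GraphInv hK x) (hy : GraphInv hK y) :
    GraphInv hK (x * y) := by
  refine ⟨mul_mem hx.1 hy.1, fun k hk => ?_⟩
  obtain ⟨k₁, hk₁, hv₁, hp₁⟩ := hy.2 k hk
  obtain ⟨k₂, hk₂, hv₂, hp₂⟩ := hx.2 k₁ hk₁
  refine ⟨k₂, hk₂, fun a ha => ?_, ?_⟩
  · rw [Prod.fst_mul, Subgroup.coe_mul, Units.val_mul, ← Matrix.mulVec_mulVec, ← hv₂ a ha]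
    simp only [Matrix.mulVec, dotProduct]
    refine Finset.sum_congr rfl fun b _ => ?_
    by_cases hb : deg (ix b) ≤ 2
    · exact congrArg _ (hv₁ b hb)
    · show x.1.1.val a b * _ = x.1.1.val a b * _
      rw [(parInv_of_mem hK hx.1).1 a b (by omega), zero_mul, zero_mul]
  · rw [Prod.snd_mul, ← hp₂, ← hp₁]; group

theorem graph_inv {x : ↥(twistedE6 K 2) × U6} (hx : x ∈ pGraph hK) : GraphInv hK x := by
  have hone : GraphInv hK 1 := ⟨one_mem _, fun k hk => ⟨k, hk, fun a _ => by simp, by simp⟩⟩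
  induction hx using Subgroup.closure_induction with
  | mem x hx => obtain ⟨p, hp, rfl⟩ := hx; exact graph_gen hK hp
  | one => exact hone
  | mul a b _ _ ha hb => exact graph_mul hK ha hb
  | inv a _ ha =>
    have : Finite (↥(twistedE6 K 2) × U6) := inferInstance
    have e : a⁻¹ = a ^ (orderOf a - 1) := inv_eq_of_mul_eq_one_left (by
      rw [← pow_succ, Nat.sub_add_cancel (orderOf_pos a), pow_orderOf_eq_one])
    rw [e]
    induction orderOf a - 1 with
    | zero => rw [pow_zero]; exact hone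
    | succ n ihn => rw [pow_succ]; exact graph_mul hK ihn ha

theorem pv_inj {k k' : ℕ} (hk : k < 693) (hk' : k' < 693)
    (h : ∀ a, deg (ix a) ≤ 2 → pv hK k a = pv hK k' a) : k = k' := by
  have := charTwo hK
  have hd := pv_diff
  simp only [pvDiff, Bool.and_eq_true, List.all_eq_true, List.mem_range, Nat.beq_eq] at hd
  have hcode : ∀ n ∈ midT, code pvTab (693 * n + k) = code pvTab (693 * n + k') := by
    intro n hn
    have hn78 : n < 78 := by
      have : ∀ n ∈ midT, n < 78 := by decide +kernel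
      exact this n hn
    have e := h (ii n) (by rw [ix_ii hn78, (mid_facts.1 n hn78).1 hn])
    simp only [pv, ix_ii hn78] at e
    exact cv_inj (omK_spec hK) (code_lt _ _) (code_lt _ _) e
  have hkey : pvKey k = pvKey k' := by
    rw [pvKey, pvKey, List.map_congr_left hcode]
  obtain ⟨⟨r1, o1⟩, r2, o2⟩ := And.intro (hd.1 k hk) (hd.1 k' hk')
  have hmono : ∀ j, j < 693 → ∀ i, i < j → pvKey (cget pvOrd i) < pvKey (cget pvOrd j) := by
    intro j
    induction j with
    | zero => omega
    | succ j ih =>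
      intro hj i hi
      have hs := bltT (hd.2 j (by omega))
      rcases Nat.eq_or_lt_of_le (Nat.lt_succ_iff.1 hi) with rfl | hi'
      · exact hs
      · exact (ih (by omega) i hi').trans hs
  rcases lt_trichotomy (cget pvRank k) (cget pvRank k') with hlt | heq | hgt
  · have := hmono _ (bltT r2) _ hlt
    rw [o1, o2, hkey] at this; exact absurd this (lt_irrefl _)
  · rw [← o1, ← o2, heq]
  · have := hmono _ (bltT r1) _ hgt
    rw [o1, o2, hkey] at this; exact absurd this (lt_irrefl _)

theorem graph_single {x : ↥(twistedE6 K 2) × U6} (hx : x ∈ pGraph hK) (h1 : x.1 = 1) : x.2 = 1 := by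
  obtain ⟨-, hinv⟩ := graph_inv hK hx
  have hc : x.2 ∈ Subgroup.center U6 := by
    rw [Subgroup.mem_center_iff]
    intro g
    have hle : Subgroup.closure {y : U6 | ∃ v, Cfsg.Agent.H93.IsPt v ∧
        y = Cfsg.Agent.H93.ptv card_F4 v} ≤ Subgroup.centralizer {x.2} := by
      rw [Subgroup.closure_le]
      rintro _ ⟨v, hv, rfl⟩
      obtain ⟨k, hk, e⟩ := pt_all card_F4 hv
      obtain ⟨k', hk', hv', hp⟩ := hinv k hk
      obtain rfl : k = k' := pv_inj hK hk hk' fun a ha => by
        rw [← hv' a ha, h1]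
        simp
      rw [e]
      exact Subgroup.mem_centralizer_singleton_iff.mpr (mul_inv_eq_iff_eq_mul.1 hp).symm
    rw [closure_pt card_F4] at hle
    exact Subgroup.mem_centralizer_singleton_iff.mp (hle (Subgroup.mem_top g))
  rwa [(psu_six_center card_F4).2, Subgroup.mem_bot] at hc

theorem graph_fst {g : ↥(twistedE6 K 2)} (hg : g ∈ Pp hK) : ∃ u, (g, u) ∈ pGraph hK := by
  refine Pp_induction hK (p := fun g => ∃ u, (g, u) ∈ pGraph hK) (fun k hk => ?_) ⟨1, one_mem _⟩
    (fun a b ⟨u, hu⟩ ⟨w, hw⟩ => ⟨u * w, mul_mem hu hw⟩) hg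
  obtain ⟨p, hp, rfl⟩ := gen_rel hk
  exact ⟨_, Subgroup.subset_closure ⟨p, hp, rfl⟩⟩

theorem graph_unique {g : ↥(twistedE6 K 2)} {u w : U6} (hu : (g, u) ∈ pGraph hK)
    (hw : (g, w) ∈ pGraph hK) : u = w :=
  inv_mul_eq_one.mp
    (graph_single hK (x := (g, u)⁻¹ * (g, w)) (mul_mem (inv_mem hu) hw) (inv_mul_cancel g))

/-- the projection -/
noncomputable def piP : ↥(Pp hK) →* U6 :=
  MonoidHom.mk' (fun g => (graph_fst hK g.2).choose) fun a b =>
    graph_unique hK (graph_fst hK (a * b).2).choose_spec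
      (mul_mem (graph_fst hK a.2).choose_spec (graph_fst hK b.2).choose_spec)

theorem piP_eq {g : ↥(Pp hK)} {u : U6} (h : (g.1, u) ∈ pGraph hK) : piP hK g = u :=
  graph_unique hK (graph_fst hK g.2).choose_spec h

theorem piP_q {i : ℕ} (hi : i < 20) : piP hK ⟨qg hK i, q_mem hK hi⟩ = 1 :=
  piP_eq hK (Subgroup.subset_closure ⟨i, by omega, Prod.ext (by rw [id_facts.1 i hi]; rfl)
    (by rw [gImg, if_pos (show i < 21 by omega)])⟩)

theorem piP_z : piP hK ⟨zg hK, z_mem hK⟩ = 1 :=
  piP_eq hK (Subgroup.subset_closure ⟨20, by omega, Prod.ext (by rw [id_facts.2.1]; rfl)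
    (by rw [gImg, if_pos (show 20 < 21 by omega)])⟩)

theorem piP_s {j : ℕ} (hj : j < 8) : piP hK ⟨sg hK j, s_mem hK hj⟩ = pgen card_F4 j :=
  piP_eq hK (Subgroup.subset_closure ⟨21 + j, by omega, Prod.ext (by rw [id_facts.2.2.1 j hj]; rfl)
    (by rw [gImg, if_neg (show ¬ 21 + j < 21 by omega), Nat.add_sub_cancel_left])⟩)

/-- the projection is the same on the whole graph: it reads the points from the vectors -/
theorem piP_conj (g : ↥(Pp hK)) {k : ℕ} (hk : k < 693) :
    ∃ k', k' < 693 ∧ (∀ a, deg (ix a) ≤ 2 → (g.1.1.val *ᵥ pv hK k) a = pv hK k' a) ∧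
      piP hK g * pt card_F4 k * (piP hK g)⁻¹ = pt card_F4 k' :=
  (graph_inv hK (graph_fst hK g.2).choose_spec).2 k hk

end Levi

end Cfsg.Agent.H56.EMult
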