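import Cfsg.Agent.H56.EMult.QForm

/-!
Linear algebra over the field with two elements with masks: products of commuting involutions over
masks and certificates for consequences of equations.
-/

set_option autoImplicit false

namespace Cfsg.Agent.H56.EMult

/-- the sum of the masks selected by a mask -/
def xorF (g : ℕ → ℕ) (m : ℕ) : ℕ → ℕ
  | 0 => 0
  | n + 1 => xorF g m n ^^^ (bif m.testBit n then g n else 0)

/-- the sum of the members of a list selected by a mask -/
def xsel : List ℕ → ℕ → ℕ
  | [], _ => 0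
  | e :: l, c => (bif c.testBit 0 then e else 0) ^^^ xsel l (c >>> 1)

/-- equality of lists of numbers -/
def listEq : List ℕ → List ℕ → Bool
  | [], [] => true
  | a :: l, b :: l' => Nat.beq a b && listEq l l'
  | _, _ => false

theorem listEq_eq : ∀ {l l' : List ℕ}, listEq l l' = true → l = l'
  | [], [], _ => rfl
  | [], _ :: _, h => by simp [listEq] at h
  | _ :: _, [], h => by simp [listEq] at h
  | a :: l, b :: l', h => by
    simp only [listEq, Bool.and_eq_true, Nat.beq_eq] at h
    rw [h.1, listEq_eq h.2]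

theorem rapN_xorF (C : List ℕ) (m : ℕ) : ∀ n, rapN C m n = xorF (fun j => C.getD j 0) m n
  | 0 => rfl
  | n + 1 => by rw [rapN, xorF, rapN_xorF C m n]

section Sel

variable {X : Type*} [Group X] {v : ℕ → X}

theorem qsel_commute (hc : ∀ i k, Commute (v i) (v k)) (a : ℕ) : ∀ n, ∀ x, (∀ i, Commute (v i) x) →
    Commute (qsel v a n) x
  | 0, x, _ => Commute.one_left x
  | n + 1, x, hx => by
    refine (qsel_commute hc a n x hx).mul_left ?_
    cases a.testBit n
    · exact Commute.one_left x
    · exact hx n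

theorem qsel_xor (hc : ∀ i k, Commute (v i) (v k)) (h2 : ∀ i, v i * v i = 1) (a b : ℕ) :
    ∀ n, qsel v (a ^^^ b) n = qsel v a n * qsel v b n
  | 0 => (one_mul _).symm
  | n + 1 => by
    rw [qsel, qsel, qsel, qsel_xor hc h2 a b n, Nat.testBit_xor]
    have e : bp (v n) (a.testBit n ^^ b.testBit n) = bp (v n) (a.testBit n) * bp (v n) (b.testBit n) := by
      cases a.testBit n <;> cases b.testBit n <;> simp [bp, h2]
    have hcm : Commute (qsel v b n) (bp (v n) (a.testBit n)) := by
      cases a.testBit n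
      · exact Commute.one_right _
      · exact qsel_commute hc b n _ fun i => hc i n
    rw [e]
    simp only [mul_assoc]
    rw [← mul_assoc (qsel v b n), hcm.eq, mul_assoc]

theorem qsel_sq (hc : ∀ i k, Commute (v i) (v k)) (h2 : ∀ i, v i * v i = 1) (a n : ℕ) :
    qsel v a n * qsel v a n = 1 := by
  rw [← qsel_xor hc h2, Nat.xor_self, qsel_zero]

theorem qsel_one_hot (i : ℕ) : ∀ n, qsel v (2 ^ i) n = if i < n then v i else 1
  | 0 => rfl
  | n + 1 => by
    rw [qsel, qsel_one_hot i n]
    by_cases h : i = n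
    · subst h; simp [Nat.testBit_two_pow_self, bp]
    · rw [Nat.testBit_two_pow_of_ne h]
      simp [bp, show (i < n + 1) = (i < n) from propext (by omega)]

theorem qsel_comp (hc : ∀ i k, Commute (v i) (v k)) (h2 : ∀ i, v i * v i = 1) (g : ℕ → ℕ) (N m : ℕ) :
    ∀ n, qsel (fun i => qsel v (g i) N) m n = qsel v (xorF g m n) N
  | 0 => (qsel_zero v N).symm
  | n + 1 => by
    rw [qsel, xorF, qsel_xor hc h2, qsel_comp hc h2 g N m n]
    cases m.testBit n
    · simp [bp, qsel_zero]
    · simp [bp]

theorem qsel_xsel (hc : ∀ i k, Commute (v i) (v k)) (h2 : ∀ i, v i * v i = 1) (n : ℕ) :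
    ∀ (l : List ℕ) (c : ℕ), (∀ e ∈ l, qsel v e n = 1) → qsel v (xsel l c) n = 1
  | [], _, _ => qsel_zero v n
  | e :: l, c, h => by
    rw [xsel, qsel_xor hc h2, qsel_xsel hc h2 n l _ fun x hx => h x (List.mem_cons_of_mem _ hx),
      mul_one]
    cases c.testBit 0
    · exact qsel_zero v n
    · exact h e List.mem_cons_self

theorem qsel_congr_fun {f g : ℕ → X} (m : ℕ) : ∀ n, (∀ i, i < n → f i = g i) → qsel f m n = qsel g m n
  | 0, _ => rfl
  | n + 1, h => by rw [qsel, qsel, qsel_congr_fun m n (fun i hi => h i (by omega)), h n (by omega)]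

theorem qsel_ones {f : ℕ → X} (m n : ℕ) (h : ∀ i, i < n → f i = 1) : qsel f m n = 1 := by
  rw [qsel_congr_fun (g := fun _ => 1) m n h]
  induction n with
  | zero => rfl
  | succ n ih => rw [qsel, ih fun i hi => h i (by omega)]; simp [bp]

theorem qsel_closed {f : ℕ → X} (S : Subgroup X) (m : ℕ) : ∀ n, (∀ i, i < n → f i ∈ S) → qsel f m n ∈ S
  | 0, _ => one_mem S
  | n + 1, h => by
    refine mul_mem (qsel_closed S m n fun i hi => h i (by omega)) ?_
    cases m.testBit n
    · exact one_mem S
    · exact h n (by omega)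

end Sel

end Cfsg.Agent.H56.EMult
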