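import Mathlib.Data.Matrix.Mul
import Mathlib.Algebra.Field.ZMod
import Mathlib.Tactic

/-!
Twenty bits as a vector over the field with two elements: linear maps and forms on masks.
-/

set_option autoImplicit false

namespace Cfsg.Agent.H56.EMult

open scoped Matrix

/-- a mask as a vector -/
def bvz (m : ℕ) : Fin 20 → ZMod 2 := fun i => if m.testBit i.val then 1 else 0

/-- columns as a matrix -/
def bmz (C : List ℕ) : Matrix (Fin 20) (Fin 20) (ZMod 2) :=
  Matrix.of fun i j => bvz (C.getD j.val 0) i

/-- columns applied to a mask, the first bits -/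
def rapN (C : List ℕ) (m : ℕ) : ℕ → ℕ
  | 0 => 0
  | n + 1 => rapN C m n ^^^ (bif m.testBit n then C.getD n 0 else 0)

/-- columns applied to a mask -/
def rap20 (C : List ℕ) (m : ℕ) : ℕ := rapN C m 20

/-- the parity of the first bits -/
def parN (x : ℕ) : ℕ → Bool
  | 0 => false
  | n + 1 => parN x n ^^ x.testBit n

/-- the parity of the product of two masks -/
def par20 (x y : ℕ) : Bool := parN (x &&& y) 20

/-- a truth value as an element of the field -/
def bz (b : Bool) : ZMod 2 := if b then 1 else 0

theorem bz_xor (a b : Bool) : bz (a ^^ b) = bz a + bz b := by cases a <;> cases b <;> decide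

theorem bvz_apply (m : ℕ) (i : Fin 20) : bvz m i = bz (m.testBit i.val) := rfl

theorem bvz_zero : bvz 0 = 0 := by funext i; simp [bvz]

theorem bvz_xor (a b : ℕ) : bvz (a ^^^ b) = bvz a + bvz b := by
  funext i
  rw [Pi.add_apply, bvz_apply, bvz_apply, bvz_apply, Nat.testBit_xor, bz_xor]

theorem bvz_rap (C : List ℕ) (m : ℕ) : bvz (rap20 C m) = bmz C *ᵥ bvz m := by
  suffices ∀ n, n ≤ 20 → bvz (rapN C m n) =
      ∑ j ∈ Finset.univ.filter (fun j : Fin 20 => j.val < n), bvz m j • bvz (C.getD j.val 0) by
    rw [rap20, this 20 le_rfl, Finset.filter_true_of_mem fun j _ => j.isLt]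
    funext i
    simp [Matrix.mulVec, dotProduct, bmz, Finset.sum_apply, mul_comm]
  intro n hn
  induction n with
  | zero => simp [rapN, bvz_zero]
  | succ n ih =>
    have hins : Finset.univ.filter (fun j : Fin 20 => j.val < n + 1) =
        insert ⟨n, by omega⟩ (Finset.univ.filter fun j : Fin 20 => j.val < n) := by
      ext j
      simp [Fin.ext_iff]
      omega
    rw [hins, Finset.sum_insert (by simp), rapN, bvz_xor, ih (by omega), add_comm]
    congr 1
    rw [bvz_apply m ⟨n, _⟩]
    cases m.testBit n <;> simp [bz, bvz_zero]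

theorem bz_par (x y : ℕ) : bz (par20 x y) = bvz x ⬝ᵥ bvz y := by
  suffices ∀ n, n ≤ 20 → bz (parN (x &&& y) n) =
      ∑ j ∈ Finset.univ.filter (fun j : Fin 20 => j.val < n), bvz x j * bvz y j by
    rw [par20, this 20 le_rfl, Finset.filter_true_of_mem fun j _ => j.isLt]
    rfl
  intro n hn
  induction n with
  | zero => simp [parN, bz]
  | succ n ih =>
    have hins : Finset.univ.filter (fun j : Fin 20 => j.val < n + 1) =
        insert ⟨n, by omega⟩ (Finset.univ.filter fun j : Fin 20 => j.val < n) := by
      ext j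
      simp [Fin.ext_iff]
      omega
    rw [hins, Finset.sum_insert (by simp), parN, bz_xor, ih (by omega), add_comm]
    congr 1
    rw [bvz_apply, bvz_apply, Nat.testBit_and]
    cases x.testBit n <;> cases y.testBit n <;> simp [bz]

theorem bvz_inj {a b : ℕ} (ha : a < 2 ^ 20) (hb : b < 2 ^ 20) (h : bvz a = bvz b) : a = b := by
  refine Nat.eq_of_testBit_eq fun i => ?_
  rcases Nat.lt_or_ge i 20 with hi | hi
  · have := congrFun h ⟨i, hi⟩
    rw [bvz_apply, bvz_apply] at this
    revert this
    cases a.testBit i <;> cases b.testBit i <;> simp [bz]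
  · rw [Nat.testBit_lt_two_pow (ha.trans_le (Nat.pow_le_pow_right (by norm_num) hi)),
      Nat.testBit_lt_two_pow (hb.trans_le (Nat.pow_le_pow_right (by norm_num) hi))]

end Cfsg.Agent.H56.EMult
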