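import Cfsg.Agent.H56.EMult.ParCheck
import Cfsg.Agent.H56.EMult.Mask

/-!
The parabolic subgroup: filtration, the action on the block of degree minus one and the crossed
homomorphism to it.
-/

set_option autoImplicit false
set_option maxRecDepth 100000
set_option Elab.async false

namespace Cfsg.Agent.H56.EMult

open Cfsg.Lie
open scoped Matrix

theorem code_lt (P : Pl) (k : ℕ) : code P k < 4 := by
  unfold code; omega

theorem pval_code {K : Type*} [Field K] (ω : K) (P : Pl) (k : ℕ) :
    pval ω P k = cv ω (code P k) := by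
  simp only [pval, code, Nat.testBit_eq_decide_div_mod_eq, Nat.shiftRight_eq_div_pow]
  rcases Nat.mod_two_eq_zero_or_one (P.1 / 2 ^ k) with h1 | h1 <;>
    rcases Nat.mod_two_eq_zero_or_one (P.2 / 2 ^ k) with h2 | h2 <;>
    simp [h1, h2, bitV, cv_zero, cv_one, cv_two, cv_three]

theorem dotC_cv {K : Type*} [Field K] [CharP K 2] {ω : K} (h : ω ^ 2 + ω + 1 = 0) {f g : ℕ → ℕ}
    (hf : ∀ b, b < 20 → f b < 4) (hg : ∀ b, b < 20 → g b < 4) :
    cv ω (dotC f g) = ∑ b : Fin 20, cv ω (f b.val) * cv ω (g b.val) := by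
  rw [dotC, cv_foldl _ _ (fun x hx => by
    obtain ⟨b, hb, rfl⟩ := List.mem_map.1 hx
    exact (cv_cmul h (hf b (List.mem_range.1 hb)) (hg b (List.mem_range.1 hb))).1) (by norm_num),
    cv_zero, zero_add, List.map_map, Fin.sum_univ_def, ← List.map_coe_finRange_eq_range, List.map_map]
  exact congrArg List.sum (List.map_congr_left fun b _ => (cv_cmul h (hf b b.isLt) (hg b b.isLt)).2)

section Par

variable {K : Type*} [Field K] [Fintype K] (hK : Fintype.card K = 4)

/-- the place of a number -/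
def ii (n : ℕ) : chevE6.Idx := ixE.symm ⟨n % 78, Nat.mod_lt _ (by norm_num)⟩

theorem ix_ii {n : ℕ} (h : n < 78) : ix (ii n) = n := by
  rw [← ixE_val, ii, Equiv.apply_symm_apply]
  exact Nat.mod_eq_of_lt h

theorem ii_ix (a : chevE6.Idx) : ii (ix a) = a := ix_inj (ix_ii (ix_lt a))

/-- a place of degree minus one as an index -/
def lowI (i : Fin 20) : chevE6.Idx := ii (lowN i.val)

theorem base_facts :
    (∀ n, n < 78 → ∀ j, j < 20 →
      code baseP (20 * n + j) = if n ∈ lowT then baseC (lowT.idxOf n) j else 0) ∧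
    (∀ a, a < 20 → ∀ j, j < 20 → baseC a j < 4 ∧ baseIC a j < 4 ∧
      dotC (fun b => baseIC a b) (fun b => baseC b j) = if a = j then 1 else 0) ∧
    (∀ n, n < 78 → (deg n = 1 ↔ n ∈ lowT)) ∧
    (∀ n, n < 78 → (deg n = 0 ↔ n = 6)) ∧
    (∀ n, n < 78 → (deg n < 4 ∨ n = 77)) ∧
    (∀ i, i < 20 → lowN i < 78 ∧ lowT.idxOf (lowN i) = i) ∧ lowT.length = 20 := by
  have h := base_ok
  simp only [baseOK, Bool.and_eq_true, List.all_eq_true, List.mem_range, Nat.beq_eq] at h
  obtain ⟨⟨⟨⟨⟨⟨h1, h2⟩, h3⟩, h4⟩, h5⟩, h6⟩, h7⟩ := h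
  refine ⟨h1, fun a ha j hj => ⟨bltT (h2 a ha j hj).1.1, bltT (h2 a ha j hj).1.2, (h2 a ha j hj).2⟩,
    fun n hn => ?_, fun n hn => ?_, fun n hn => ?_, fun i hi => ⟨bltT (h7 i hi).1, (h7 i hi).2⟩, h3⟩
  · have := eq_of_beq (h4 n hn)
    constructor
    · intro e; rw [e] at this; exact of_decide_eq_true this.symm
    · intro e; rw [decide_eq_true e] at this; exact Nat.eq_of_beq_eq_true this
  · have := eq_of_beq (h5 n hn)
    constructor
    · intro e; rw [e] at this; exact Nat.eq_of_beq_eq_true this.symm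
    · intro e; rw [e] at this ⊢; exact Nat.eq_of_beq_eq_true (this.trans (beqT 6))
  · have := h6 n hn
    rw [Bool.or_eq_true] at this
    exact this.imp bltT Nat.eq_of_beq_eq_true

theorem ix_lowI (i : Fin 20) : ix (lowI i) = lowN i.val :=
  ix_ii (base_facts.2.2.2.2.2.1 i.val i.isLt).1

theorem lowI_inj : Function.Injective lowI := fun i j e => by
  have h := congrArg (fun a => lowT.idxOf (ix a)) e
  simp only [ix_lowI] at h
  rw [(base_facts.2.2.2.2.2.1 i.val i.isLt).2, (base_facts.2.2.2.2.2.1 j.val j.isLt).2] at h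
  exact Fin.ext h

theorem deg_lowI (i : Fin 20) : deg (ix (lowI i)) = 1 := by
  have h := base_facts.2.2.2.2.2.1 i.val i.isLt
  rw [ix_lowI]
  refine (base_facts.2.2.1 _ h.1).2 (List.idxOf_lt_length_iff.1 ?_)
  rw [h.2, base_facts.2.2.2.2.2.2]
  exact i.isLt

theorem low_surj {a : chevE6.Idx} (h : deg (ix a) = 1) : ∃ i, lowI i = a := by
  have hm := (base_facts.2.2.1 _ (ix_lt a)).1 h
  have hl : lowT.idxOf (ix a) < 20 := by
    rw [← base_facts.2.2.2.2.2.2]; exact List.idxOf_lt_length_iff.2 hm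
  refine ⟨⟨_, hl⟩, ix_inj ?_⟩
  rw [ix_lowI, lowN, List.getD_eq_getElem _ _ (List.idxOf_lt_length_iff.2 hm), List.getElem_idxOf]

include hK

/-- the basis of the block -/
noncomputable def baseM : Matrix (Fin 20) (Fin 20) K :=
  Matrix.of fun a j => cv (omK hK) (baseC a.val j.val)

/-- its inverse -/
noncomputable def baseI : Matrix (Fin 20) (Fin 20) K :=
  Matrix.of fun i a => cv (omK hK) (baseIC i.val a.val)

theorem baseI_mul : baseI hK * baseM hK = 1 := by
  have := charTwo hK
  funext a j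
  obtain ⟨h1, h2, h3⟩ := base_facts.2.1 a.val a.isLt j.val j.isLt
  rw [Matrix.mul_apply]
  simp only [baseI, baseM, Matrix.of_apply]
  rw [← dotC_cv (omK_spec hK) (f := fun b => baseIC a.val b) (g := fun b => baseC b j.val)
    (fun b hb => (base_facts.2.1 a.val a.isLt b hb).2.1)
    (fun b hb => (base_facts.2.1 b hb j.val j.isLt).1), h3]
  by_cases h : a = j
  · rw [if_pos (congrArg Fin.val h), h, Matrix.one_apply_eq, cv_one]
  · rw [if_neg fun e => h (Fin.ext e), Matrix.one_apply_ne h, cv_zero]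

theorem baseM_mul : baseM hK * baseI hK = 1 := mul_eq_one_comm.1 (baseI_mul hK)

/-- the inclusion of the field with two elements -/
noncomputable def cst : ZMod 2 →+* K :=
  have := charTwo hK
  ZMod.castHom (dvd_refl 2) K

theorem cst_inj : Function.Injective (cst hK) := (cst hK).injective

theorem cst_bvz (m : ℕ) (i : Fin 20) : cst hK (bvz m i) = cv (omK hK) (bitC m i.val) := by
  unfold bvz bitC
  cases m.testBit i.val <;> simp [cv_zero, cv_one]

/-- the filtration is kept -/
def Tri (g : ↥(twistedE6 K 2)) : Prop := ∀ a b, deg (ix a) < deg (ix b) → g.1.val a b = 0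

/-- the block of degree minus one -/
def blk20 (g : ↥(twistedE6 K 2)) : Matrix (Fin 20) (Fin 20) K :=
  Matrix.of fun i j => g.1.val (lowI i) (lowI j)

/-- the component of degree minus one of the image of the lowest vector -/
def col20 (g : ↥(twistedE6 K 2)) : Fin 20 → K := fun i => g.1.val (lowI i) (ii 6)

/-- the action on the block in the basis -/
def RelR (g : ↥(twistedE6 K 2)) (M : Matrix (Fin 20) (Fin 20) (ZMod 2)) (v : Fin 20 → ZMod 2) : Prop :=
  blk20 g * baseM hK = baseM hK * M.map (cst hK) ∧ col20 g = baseM hK *ᵥ (cst hK ∘ v)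

/-- the invariant of the parabolic subgroup -/
def ParInv (g : ↥(twistedE6 K 2)) : Prop :=
  Tri g ∧ (∀ a, g.1.val a (ii 77) = if a = ii 77 then 1 else 0) ∧ g.1.val (ii 6) (ii 6) = 1 ∧
    ∃ M v, RelR hK g M v

theorem parInv_one : ParInv hK 1 := by
  refine ⟨fun a b h => ?_, fun a => ?_, ?_, 1, 0, ?_, ?_⟩
  · exact Matrix.one_apply_ne fun e => by rw [e] at h; exact lt_irrefl _ h
  · exact Matrix.one_apply
  · exact Matrix.one_apply_eq _
  · rw [Matrix.map_one _ (map_zero _) (map_one _), Matrix.mul_one]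
    convert Matrix.one_mul _
    funext i j
    show (1 : Matrix chevE6.Idx chevE6.Idx K) (lowI i) (lowI j) = _
    by_cases h : i = j
    · rw [h, Matrix.one_apply_eq, Matrix.one_apply_eq]
    · rw [Matrix.one_apply_ne h, Matrix.one_apply_ne fun e => h (lowI_inj e)]
  · funext i
    simp only [col20, Pi.zero_def, Function.comp_def, map_zero]
    refine (Matrix.one_apply_ne fun e => ?_).trans (by simp [Matrix.mulVec, dotProduct])
    have := deg_lowI i
    rw [e, ix_ii (show 6 < 78 by norm_num), (base_facts.2.2.2.1 6 (by norm_num)).2 rfl] at this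
    omega

omit [Fintype K] hK in
theorem mul_apply_sum (g h : ↥(twistedE6 K 2)) (a b : chevE6.Idx) :
    (g * h).1.val a b = ∑ c, g.1.val a c * h.1.val c b := by
  rw [Subgroup.coe_mul, Units.val_mul, Matrix.mul_apply]

omit [Fintype K] hK in
theorem sum_low {g h : ↥(twistedE6 K 2)} (hg : Tri g) (hh : Tri h) {a b : chevE6.Idx}
    (ha : deg (ix a) = 1) (hb : deg (ix b) = 1) :
    (g * h).1.val a b = ∑ c : Fin 20, g.1.val a (lowI c) * h.1.val (lowI c) b := by
  rw [mul_apply_sum]
  refine (Finset.sum_of_injOn lowI (lowI_inj.injOn) (fun _ _ => Finset.mem_univ _) ?_ fun c _ => rfl).symm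
  intro c _ hc
  by_cases h1 : deg (ix a) < deg (ix c)
  · rw [hg a c h1, zero_mul]
  by_cases h2 : deg (ix c) < deg (ix b)
  · rw [hh c b h2, mul_zero]
  obtain ⟨i, hi⟩ := low_surj (a := c) (by omega)
  exact absurd ⟨i, Finset.mem_univ i, hi⟩ hc

theorem rel_mul {g h : ↥(twistedE6 K 2)} (tg : Tri g) (tT : Tri h)
    (mh : h.1.val (ii 6) (ii 6) = 1) {M N : Matrix (Fin 20) (Fin 20) (ZMod 2)}
    {v w : Fin 20 → ZMod 2} (hM : blk20 g * baseM hK = baseM hK * M.map (cst hK))
    (hv : col20 g = baseM hK *ᵥ (cst hK ∘ v)) (hN : blk20 h * baseM hK = baseM hK * N.map (cst hK))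
    (hw : col20 h = baseM hK *ᵥ (cst hK ∘ w)) : RelR hK (g * h) (M * N) (v + M *ᵥ w) := by
  refine ⟨?_, ?_⟩
  · have e : blk20 (g * h) = blk20 g * blk20 h := by
      funext i j
      rw [Matrix.mul_apply]
      exact sum_low tg tT (deg_lowI i) (deg_lowI j)
    rw [e, Matrix.map_mul, Matrix.mul_assoc, hN, ← Matrix.mul_assoc, hM, Matrix.mul_assoc]
  · have e : col20 (g * h) = col20 g + blk20 g *ᵥ col20 h := by
      funext i
      show (g * h).1.val (lowI i) (ii 6) = _
      rw [mul_apply_sum]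
      let emb : Option (Fin 20) → chevE6.Idx := fun o => o.elim (ii 6) lowI
      have hinj : Function.Injective emb := by
        have h6 : ∀ i, lowI i ≠ ii 6 := fun i e => by
          have := deg_lowI i
          rw [e, ix_ii (show 6 < 78 by norm_num), (base_facts.2.2.2.1 6 (by norm_num)).2 rfl] at this
          omega
        rintro (_ | a) (_ | b) e
        · rfl
        · exact absurd e.symm (h6 b)
        · exact absurd e (h6 a)
        · exact congrArg some (lowI_inj e)
      rw [← Finset.sum_of_injOn emb hinj.injOn (fun _ _ => Finset.mem_univ _) (fun c _ hc => ?_)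
        fun _ _ => rfl, Fintype.sum_option]
      · simp only [emb, Option.elim, mh, mul_one]
        rfl
      · by_cases h1 : deg (ix (lowI i)) < deg (ix c)
        · rw [tg _ c h1, zero_mul]
        rw [deg_lowI] at h1
        rcases (show deg (ix c) = 0 ∨ deg (ix c) = 1 by omega) with h0 | h0
        · refine absurd ⟨none, Finset.mem_univ _, ?_⟩ hc
          show ii 6 = c
          rw [← (base_facts.2.2.2.1 _ (ix_lt c)).1 h0, ii_ix]
        · obtain ⟨j, hj⟩ := low_surj h0
          exact absurd ⟨some j, Finset.mem_univ _, hj⟩ hc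
    rw [e, hv, hw, Matrix.mulVec_mulVec, hM, ← Matrix.mulVec_mulVec, ← Matrix.mulVec_add]
    congr 1
    funext i
    simp only [Pi.add_apply, Function.comp_apply, map_add, RingHom.map_mulVec]

theorem parInv_mul {g h : ↥(twistedE6 K 2)} (hg : ParInv hK g) (hh : ParInv hK h) :
    ParInv hK (g * h) := by
  obtain ⟨tg, thg, mg, M, v, hM, hv⟩ := hg
  obtain ⟨tT, thh, mh, N, w, hN, hw⟩ := hh
  refine ⟨fun a b hab => ?_, fun a => ?_, ?_, M * N, v + M *ᵥ w, ?_, ?_⟩
  · rw [mul_apply_sum]
    refine Finset.sum_eq_zero fun c _ => ?_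
    by_cases h1 : deg (ix a) < deg (ix c)
    · rw [tg a c h1, zero_mul]
    · rw [tT c b (by omega), mul_zero]
  · rw [mul_apply_sum, Finset.sum_eq_single (ii 77)]
    · rw [thh, if_pos rfl, mul_one, thg]
    · intro c _ hc; rw [thh, if_neg hc, mul_zero]
    · exact fun h => absurd (Finset.mem_univ _) h
  · rw [mul_apply_sum, Finset.sum_eq_single (ii 6)]
    · rw [mg, mh, mul_one]
    · intro c _ hc
      refine mul_eq_zero_of_left (tg _ _ ?_) _
      rw [ix_ii (show 6 < 78 by norm_num), (base_facts.2.2.2.1 6 (by norm_num)).2 rfl]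
      refine Nat.pos_of_ne_zero fun e => hc ?_
      have := (base_facts.2.2.2.1 _ (ix_lt c)).1 e
      rw [← this, ii_ix]
    · exact fun h => absurd (Finset.mem_univ _) h
  · exact (rel_mul hK tg tT mh hM hv hN hw).1
  · exact (rel_mul hK tg tT mh hM hv hN hw).2

/-- the parabolic subgroup -/
noncomputable def Pp : Subgroup ↥(twistedE6 K 2) :=
  Subgroup.closure {g | ∃ k ∈ pIds, g = eg hK k}

theorem gen_mem {k : ℕ} (h : k ∈ pIds) : eg hK k ∈ Pp hK := Subgroup.subset_closure ⟨k, h, rfl⟩

theorem Pp_induction {p : ↥(twistedE6 K 2) → Prop} (hgen : ∀ k ∈ pIds, p (eg hK k)) (hone : p 1)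
    (hmul : ∀ a b, p a → p b → p (a * b)) {g : ↥(twistedE6 K 2)} (hg : g ∈ Pp hK) : p g := by
  induction hg using Subgroup.closure_induction with
  | mem x hx => obtain ⟨k, hk, rfl⟩ := hx; exact hgen k hk
  | one => exact hone
  | mul a b _ _ ha hb => exact hmul a b ha hb
  | inv a _ ha =>
    have : Finite ↥(twistedE6 K 2) := inferInstance
    have e : a⁻¹ = a ^ (orderOf a - 1) := inv_eq_of_mul_eq_one_left (by
      rw [← pow_succ, Nat.sub_add_cancel (orderOf_pos a), pow_orderOf_eq_one])
    rw [e]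
    have hp : ∀ n : ℕ, p (a ^ n) := fun n => by
      induction n with
      | zero => rw [pow_zero]; exact hone
      | succ n ihn => rw [pow_succ]; exact hmul _ _ ihn ha
    exact hp _

omit [Fintype K] hK in
theorem elMat_zero {ω : K} [CharP K 2] {es : List (ℕ × ℕ × ℕ)} (hes : esOK es = true)
    {a b : chevE6.Idx} (hab : a ≠ b) (h : ∀ e ∈ es, e.1 ≠ ix a ∨ e.2.1 ≠ ix b) :
    elMat ω es a b = 0 := by
  rw [elMat_eq hes, Matrix.add_apply, Matrix.one_apply_ne hab, zero_add, spMat, Matrix.of_apply]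
  refine List.sum_eq_zero fun x hx => ?_
  obtain ⟨e, he, rfl⟩ := List.mem_map.1 hx
  exact if_neg fun h' => (h e he).elim (· h'.1) (· h'.2)

omit [Fintype K] hK in
theorem elMat_diag {ω : K} [CharP K 2] {es : List (ℕ × ℕ × ℕ)} (hes : esOK es = true)
    {a : chevE6.Idx} (h : ∀ e ∈ es, e.1 ≠ ix a ∨ e.2.1 ≠ ix a) : elMat ω es a a = 1 := by
  rw [elMat_eq hes, Matrix.add_apply, Matrix.one_apply_eq, add_eq_left, spMat, Matrix.of_apply]
  refine List.sum_eq_zero fun x hx => ?_
  obtain ⟨e, he, rfl⟩ := List.mem_map.1 hx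
  exact if_neg fun h' => (h e he).elim (· h'.1) (· h'.2)

theorem rel_gen {p : ℕ} (hp : p < 29) :
    ParInv hK (eg hK (pIds.getD p 0)) ∧
      RelR hK (eg hK (pIds.getD p 0)) (bmz (rCols p)) (bvz (rVal p)) := by
  have := charTwo hK
  have hω := omK_spec hK
  have h := List.all_eq_true.1 par_ok p (List.mem_range.2 hp)
  simp only [parChk, Bool.and_eq_true, List.all_eq_true, List.mem_range, Nat.beq_eq,
    Bool.not_eq_true'] at h
  obtain ⟨⟨⟨hk, hent⟩, hblk⟩, hcol⟩ := h
  have hk' : pIds.getD p 0 < 244 := bltT hk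
  have hes := es_el hk'
  have hval : (eg hK (pIds.getD p 0)).1.val = elMat (omK hK) (elE (pIds.getD p 0)) := eg_val hK hk'
  set es := elE (pIds.getD p 0)
  have h6 : deg 6 = 0 := (base_facts.2.2.2.1 6 (by norm_num)).2 rfl
  have tri : Tri (eg hK (pIds.getD p 0)) := fun a b hab => by
    rw [hval]
    refine elMat_zero hes (fun e => by rw [e] at hab; exact lt_irrefl _ hab) fun e he => ?_
    by_contra hc
    push Not at hc
    have := Nat.le_of_ble_eq_true (hent e he).1.1
    rw [hc.1, hc.2] at this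
    omega
  have hneq : ∀ {a b : ℕ}, Nat.beq a b = false → a ≠ b := fun h e => by
    rw [e, beqT] at h; exact Bool.noConfusion h
  have rel : RelR hK (eg hK (pIds.getD p 0)) (bmz (rCols p)) (bvz (rVal p)) := by
    constructor
    · funext a j
      have h1 := congrFun (congrFun (matOf_step (W := 20) hω hes baseP) (lowI a)) j
      simp only [matOf, Matrix.of_apply, Matrix.mul_apply, ix_lowI, pval_code] at h1
      rw [hblk a.val a.isLt j.val j.isLt, dotC_cv hω
        (fun b hb => (base_facts.2.1 a.val a.isLt b hb).1)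
        (fun b _ => by show bitC _ _ < 4; unfold bitC; cases Nat.testBit _ b <;> decide)] at h1
      rw [← Finset.sum_of_injOn lowI lowI_inj.injOn (fun _ _ => Finset.mem_univ _) (fun c _ hc => ?_)
        fun _ _ => rfl] at h1
      · rw [Matrix.mul_apply, Matrix.mul_apply]
        refine Eq.trans (Finset.sum_congr rfl fun c _ => ?_) (h1.symm.trans
          (Finset.sum_congr rfl fun i _ => ?_))
        · simp only [blk20, baseM, Matrix.of_apply, hval, ix_lowI]
          have hc := base_facts.2.2.2.2.2.1 c.val c.isLt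
          rw [base_facts.1 _ hc.1 j.val j.isLt, hc.2, if_pos]
          exact List.idxOf_lt_length_iff.1 (by rw [hc.2, base_facts.2.2.2.2.2.2]; exact c.isLt)
        · simp only [baseM, Matrix.map_apply, bmz, Matrix.of_apply, cst_bvz]
      · rw [base_facts.1 _ (ix_lt c) j.val j.isLt, if_neg, cv_zero, mul_zero]
        intro hm
        obtain ⟨i, hi⟩ := low_surj ((base_facts.2.2.1 _ (ix_lt c)).2 hm)
        exact hc ⟨i, Finset.mem_univ i, hi⟩
    · funext a
      have h1 := congrFun (congrFun (matOf_step (W := 1) hω hes mthP) (lowI a)) (0 : Fin 1)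
      simp only [matOf, Matrix.of_apply, Matrix.mul_apply, ix_lowI, pval_code, Fin.val_zero] at h1
      rw [hcol a.val a.isLt, dotC_cv hω
        (fun b hb => (base_facts.2.1 a.val a.isLt b hb).1)
        (fun b _ => by show bitC _ _ < 4; unfold bitC; cases Nat.testBit _ b <;> decide)] at h1
      rw [Finset.sum_eq_single (ii 6)] at h1
      · show (eg hK _).1.val (lowI a) (ii 6) = _
        rw [hval, Matrix.mulVec, dotProduct]
        rw [ix_ii (show 6 < 78 by norm_num), show code mthP (1 * 6 + 0) = 1 from rfl, cv_one,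
          mul_one] at h1
        rw [← h1]
        simp only [baseM, Matrix.of_apply, Function.comp_apply, cst_bvz]
      · intro c _ hc
        refine mul_eq_zero_of_right _ ?_
        have hne : (6 : ℕ) ≠ ix c := fun e => hc (by rw [e, ii_ix])
        rw [← pval_code]
        simp [pval, mthP, Nat.one_shiftLeft, bitV,
          Nat.testBit_two_pow_of_ne hne]
      · exact fun h => absurd (Finset.mem_univ _) h
  refine ⟨⟨tri, fun a => ?_, ?_, _, _, rel⟩, rel⟩
  · rw [hval]
    by_cases ha : a = ii 77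
    · rw [if_pos ha, ha]
      exact elMat_diag hes fun e he => Or.inr (by
        rw [ix_ii (show 77 < 78 by norm_num)]; exact hneq (hent e he).1.2)
    · rw [if_neg ha]
      exact elMat_zero hes ha fun e he => Or.inr (by
        rw [ix_ii (show 77 < 78 by norm_num)]; exact hneq (hent e he).1.2)
  · rw [hval]
    refine elMat_diag hes fun e he => ?_
    rw [ix_ii (show 6 < 78 by norm_num)]
    have := (hent e he).2
    by_contra hc
    push Not at hc
    rw [hc.1, hc.2, beqT] at this
    simp at this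

omit [Field K] [Fintype K] hK in
theorem gen_rel {k : ℕ} (hk : k ∈ pIds) :
    ∃ p, p < 29 ∧ k = pIds.getD p 0 := by
  have hl : pIds.length = 29 := by decide +kernel
  refine ⟨pIds.idxOf k, hl ▸ List.idxOf_lt_length_iff.2 hk, ?_⟩
  rw [List.getD_eq_getElem _ _ (List.idxOf_lt_length_iff.2 hk), List.getElem_idxOf]

theorem parInv_of_mem {g : ↥(twistedE6 K 2)} (hg : g ∈ Pp hK) : ParInv hK g :=
  Pp_induction hK (fun k hk => by
    obtain ⟨p, hp, rfl⟩ := gen_rel hk
    exact (rel_gen hK hp).1) (parInv_one hK) (fun _ _ => parInv_mul hK) hg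

open Classical in
/-- the action on the block -/
noncomputable def rM (g : ↥(twistedE6 K 2)) : Matrix (Fin 20) (Fin 20) (ZMod 2) :=
  if h : ∃ M v, RelR hK g M v then h.choose else 1

open Classical in
/-- the crossed homomorphism -/
noncomputable def rV (g : ↥(twistedE6 K 2)) : Fin 20 → ZMod 2 :=
  if h : ∃ M v, RelR hK g M v then h.choose_spec.choose else 0

theorem relR_unique {g : ↥(twistedE6 K 2)} {M M' : Matrix (Fin 20) (Fin 20) (ZMod 2)}
    {v v' : Fin 20 → ZMod 2} (h : RelR hK g M v) (h' : RelR hK g M' v') : M = M' ∧ v = v' := by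
  constructor
  · have e := congrArg (baseI hK * ·) (h.1.symm.trans h'.1)
    simp only [← Matrix.mul_assoc, baseI_mul, Matrix.one_mul] at e
    exact Matrix.map_injective (cst_inj hK) e
  · have e := congrArg (baseI hK *ᵥ ·) (h.2.symm.trans h'.2)
    simp only [Matrix.mulVec_mulVec, baseI_mul, Matrix.one_mulVec] at e
    exact funext fun i => cst_inj hK (congrFun e i)

theorem rel_eq {g : ↥(twistedE6 K 2)} {M : Matrix (Fin 20) (Fin 20) (ZMod 2)}
    {v : Fin 20 → ZMod 2} (h : RelR hK g M v) : rM hK g = M ∧ rV hK g = v := by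
  have he : ∃ M v, RelR hK g M v := ⟨M, v, h⟩
  rw [rM, rV, dif_pos he, dif_pos he]
  exact relR_unique hK he.choose_spec.choose_spec h

theorem rel_mem {g : ↥(twistedE6 K 2)} (hg : g ∈ Pp hK) : RelR hK g (rM hK g) (rV hK g) := by
  obtain ⟨-, -, -, M, v, h⟩ := parInv_of_mem hK hg
  obtain ⟨e1, e2⟩ := rel_eq hK h
  rwa [e1, e2]

theorem rMV_one : rM hK 1 = 1 ∧ rV hK 1 = 0 := by
  obtain ⟨-, -, -, M, v, h⟩ := parInv_one hK
  have h1 : RelR hK 1 1 0 := by
    refine ⟨?_, ?_⟩
    · rw [h.1]
      have e : blk20 (1 : ↥(twistedE6 K 2)) = 1 := funext fun i => funext fun j => by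
        show (1 : Matrix chevE6.Idx chevE6.Idx K) (lowI i) (lowI j) = _
        by_cases hij : i = j
        · rw [hij, Matrix.one_apply_eq, Matrix.one_apply_eq]
        · rw [Matrix.one_apply_ne hij, Matrix.one_apply_ne fun e => hij (lowI_inj e)]
      have h2 := h.1
      rw [e, Matrix.one_mul] at h2
      rw [← h2, Matrix.map_one _ (map_zero _) (map_one _), Matrix.mul_one]
    · funext i
      have h6 : lowI i ≠ ii 6 := fun e => by
        have := deg_lowI i
        rw [e, ix_ii (show 6 < 78 by norm_num), (base_facts.2.2.2.1 6 (by norm_num)).2 rfl] at this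
        omega
      show (1 : Matrix chevE6.Idx chevE6.Idx K) (lowI i) (ii 6) = _
      rw [Matrix.one_apply_ne h6]
      simp [Matrix.mulVec, dotProduct]
  exact rel_eq hK h1

theorem rMV_mul {g h : ↥(twistedE6 K 2)} (hg : g ∈ Pp hK) (hh : h ∈ Pp hK) :
    rM hK (g * h) = rM hK g * rM hK h ∧ rV hK (g * h) = rV hK g + rM hK g *ᵥ rV hK h := by
  obtain ⟨hM, hv⟩ := rel_mem hK hg
  obtain ⟨hN, hw⟩ := rel_mem hK hh
  obtain ⟨tg, -, -, -⟩ := parInv_of_mem hK hg
  obtain ⟨tT, -, mh, -⟩ := parInv_of_mem hK hh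
  exact rel_eq hK (rel_mul hK tg tT mh hM hv hN hw)

theorem rMV_gen {p : ℕ} (hp : p < 29) :
    rM hK (eg hK (pIds.getD p 0)) = bmz (rCols p) ∧ rV hK (eg hK (pIds.getD p 0)) = bvz (rVal p) :=
  rel_eq hK (rel_gen hK hp).2

end Par

end Cfsg.Agent.H56.EMult
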