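import Mathlib.Init

/-!
Tables for the parabolic subgroup that fixes the highest root vector.
-/

set_option autoImplicit false

namespace Cfsg.Agent.H56.EMult

/-- the generators of the radical -/
def qIds : List Nat := [0, 20, 44, 50, 56, 64, 36, 70, 74, 52, 78, 82, 86, 90, 53, 68, 94, 98, 76, 84]

/-- the central generator -/
def zId : Nat := 92

/-- the generators of the Levi complement -/
def sIds : List Nat := [3, 100, 23, 101, 102, 39, 103, 104]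

/-- the degree of each place, shifted by two -/
def degT : List Nat := [2, 2, 2, 2, 2, 2, 0, 1, 1, 1, 1, 1, 1, 1, 1, 1, 1, 2, 2, 2, 2, 2, 1, 1, 1, 1, 1, 1, 1, 1, 1, 1, 2, 2, 2, 2, 2, 2, 2, 2, 2, 2, 2, 2, 2, 2, 2, 2, 2, 2, 2, 2, 3, 3, 3, 3, 3, 3, 3, 3, 3, 3, 2, 2, 2, 2, 2, 3, 3, 3, 3, 3, 3, 3, 3, 3, 3, 4]

/-- the places of degree minus one -/
def lowT : List Nat := [7, 8, 9, 10, 11, 12, 13, 14, 15, 16, 22, 23, 24, 25, 26, 27, 28, 29, 30, 31]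

/-- the basis, by columns, in codes -/
def baseT : List (List Nat) := [[1, 0, 0, 0, 0, 0, 0, 0, 0, 0, 0, 0, 0, 0, 0, 0, 0, 0, 0, 0],
  [0, 1, 0, 0, 0, 0, 0, 0, 0, 0, 0, 0, 0, 0, 0, 0, 0, 0, 0, 0],
  [0, 0, 1, 0, 1, 0, 0, 0, 0, 0, 0, 0, 0, 0, 0, 0, 0, 0, 0, 0],
  [0, 0, 2, 0, 3, 0, 0, 0, 0, 0, 0, 0, 0, 0, 0, 0, 0, 0, 0, 0],
  [0, 0, 0, 1, 0, 0, 0, 0, 0, 0, 1, 0, 0, 0, 0, 0, 0, 0, 0, 0],
  [0, 0, 0, 2, 0, 0, 0, 0, 0, 0, 3, 0, 0, 0, 0, 0, 0, 0, 0, 0],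
  [0, 0, 0, 0, 0, 1, 0, 0, 0, 0, 0, 0, 0, 0, 0, 0, 0, 0, 0, 0],
  [0, 0, 0, 0, 0, 0, 1, 0, 0, 0, 0, 1, 0, 0, 0, 0, 0, 0, 0, 0],
  [0, 0, 0, 0, 0, 0, 2, 0, 0, 0, 0, 3, 0, 0, 0, 0, 0, 0, 0, 0],
  [0, 0, 0, 0, 0, 0, 0, 1, 0, 0, 0, 0, 0, 0, 0, 0, 0, 0, 0, 0],
  [0, 0, 0, 0, 0, 0, 0, 0, 1, 0, 0, 0, 0, 1, 0, 0, 0, 0, 0, 0],
  [0, 0, 0, 0, 0, 0, 0, 0, 2, 0, 0, 0, 0, 3, 0, 0, 0, 0, 0, 0],
  [0, 0, 0, 0, 0, 0, 0, 0, 0, 1, 0, 0, 0, 0, 0, 0, 1, 0, 0, 0],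
  [0, 0, 0, 0, 0, 0, 0, 0, 0, 2, 0, 0, 0, 0, 0, 0, 3, 0, 0, 0],
  [0, 0, 0, 0, 0, 0, 0, 0, 0, 0, 0, 0, 1, 0, 0, 0, 0, 0, 0, 0],
  [0, 0, 0, 0, 0, 0, 0, 0, 0, 0, 0, 0, 0, 0, 1, 0, 0, 0, 0, 0],
  [0, 0, 0, 0, 0, 0, 0, 0, 0, 0, 0, 0, 0, 0, 0, 1, 0, 1, 0, 0],
  [0, 0, 0, 0, 0, 0, 0, 0, 0, 0, 0, 0, 0, 0, 0, 2, 0, 3, 0, 0],
  [0, 0, 0, 0, 0, 0, 0, 0, 0, 0, 0, 0, 0, 0, 0, 0, 0, 0, 1, 0],
  [0, 0, 0, 0, 0, 0, 0, 0, 0, 0, 0, 0, 0, 0, 0, 0, 0, 0, 0, 1]]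

/-- the inverse of the basis, by rows, in codes -/
def baseInvT : List (List Nat) := [[1, 0, 0, 0, 0, 0, 0, 0, 0, 0, 0, 0, 0, 0, 0, 0, 0, 0, 0, 0],
  [0, 1, 0, 0, 0, 0, 0, 0, 0, 0, 0, 0, 0, 0, 0, 0, 0, 0, 0, 0],
  [0, 0, 3, 0, 2, 0, 0, 0, 0, 0, 0, 0, 0, 0, 0, 0, 0, 0, 0, 0],
  [0, 0, 1, 0, 1, 0, 0, 0, 0, 0, 0, 0, 0, 0, 0, 0, 0, 0, 0, 0],
  [0, 0, 0, 3, 0, 0, 0, 0, 0, 0, 2, 0, 0, 0, 0, 0, 0, 0, 0, 0],
  [0, 0, 0, 1, 0, 0, 0, 0, 0, 0, 1, 0, 0, 0, 0, 0, 0, 0, 0, 0],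
  [0, 0, 0, 0, 0, 1, 0, 0, 0, 0, 0, 0, 0, 0, 0, 0, 0, 0, 0, 0],
  [0, 0, 0, 0, 0, 0, 3, 0, 0, 0, 0, 2, 0, 0, 0, 0, 0, 0, 0, 0],
  [0, 0, 0, 0, 0, 0, 1, 0, 0, 0, 0, 1, 0, 0, 0, 0, 0, 0, 0, 0],
  [0, 0, 0, 0, 0, 0, 0, 1, 0, 0, 0, 0, 0, 0, 0, 0, 0, 0, 0, 0],
  [0, 0, 0, 0, 0, 0, 0, 0, 3, 0, 0, 0, 0, 2, 0, 0, 0, 0, 0, 0],
  [0, 0, 0, 0, 0, 0, 0, 0, 1, 0, 0, 0, 0, 1, 0, 0, 0, 0, 0, 0],
  [0, 0, 0, 0, 0, 0, 0, 0, 0, 3, 0, 0, 0, 0, 0, 0, 2, 0, 0, 0],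
  [0, 0, 0, 0, 0, 0, 0, 0, 0, 1, 0, 0, 0, 0, 0, 0, 1, 0, 0, 0],
  [0, 0, 0, 0, 0, 0, 0, 0, 0, 0, 0, 0, 1, 0, 0, 0, 0, 0, 0, 0],
  [0, 0, 0, 0, 0, 0, 0, 0, 0, 0, 0, 0, 0, 0, 1, 0, 0, 0, 0, 0],
  [0, 0, 0, 0, 0, 0, 0, 0, 0, 0, 0, 0, 0, 0, 0, 3, 0, 2, 0, 0],
  [0, 0, 0, 0, 0, 0, 0, 0, 0, 0, 0, 0, 0, 0, 0, 1, 0, 1, 0, 0],
  [0, 0, 0, 0, 0, 0, 0, 0, 0, 0, 0, 0, 0, 0, 0, 0, 0, 0, 1, 0],
  [0, 0, 0, 0, 0, 0, 0, 0, 0, 0, 0, 0, 0, 0, 0, 0, 0, 0, 0, 1]]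

/-- the action of the generators of the complement, columns as masks -/
def rTab : List (List Nat) := [[1, 3, 4, 8, 16, 32, 64, 128, 256, 576, 1152, 2304, 4096, 8192, 16384, 49152, 65536, 131072, 262144, 786432],
  [16599, 34306, 70714, 142876, 70702, 174132, 267145, 87144, 485429, 527362, 33280, 557058, 146964, 726056, 360737, 526338, 239636, 603176, 942272, 558592],
  [1, 2, 4, 8, 16, 32, 65, 128, 256, 514, 1024, 2048, 4112, 8224, 16384, 32768, 65536, 131072, 278528, 557056],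
  [65, 523, 68, 8, 4496, 8352, 64, 128, 256, 576, 9344, 14592, 4096, 8192, 278528, 704512, 327680, 131072, 262144, 786432],
  [1, 3, 4, 9, 16, 32, 65, 128, 256, 582, 1168, 2336, 4240, 8480, 16384, 49152, 65536, 147456, 278528, 884736],
  [1, 2, 4, 8, 16, 32, 64, 128, 256, 512, 1024, 2048, 4096, 8192, 16385, 32770, 65540, 131080, 262208, 524800],
  [16384, 32817, 65920, 131328, 16401, 16417, 262144, 128, 256, 536640, 197772, 133384, 266304, 270400, 1, 16434, 388, 264, 64, 274944],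
  [1, 3, 5, 9, 17, 32, 65, 129, 257, 590, 1210, 2326, 4440, 8620, 16385, 49186, 82228, 147608, 278976, 1027584]]

/-- the commutator form, rows as masks -/
def bTab : List Nat := [524288, 262144, 131072, 65536, 8192, 4096, 32768, 2048, 1024, 16384, 256, 128, 32, 16, 512, 64, 8, 4, 2, 1]

/-- the central parts of the conjugates -/
def cjTab : List (List Nat) := [[0, 0, 0, 0, 0, 0, 0, 0, 0, 0, 1, 1, 0, 0, 0, 0, 0, 0, 0, 0],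
  [0, 0, 1, 1, 1, 1, 0, 1, 1, 0, 0, 0, 1, 1, 0, 0, 1, 1, 0, 0],
  [0, 0, 0, 0, 0, 0, 0, 0, 0, 0, 0, 0, 1, 1, 0, 0, 0, 0, 0, 0],
  [0, 0, 0, 0, 1, 1, 0, 0, 0, 0, 1, 1, 0, 0, 0, 0, 0, 0, 0, 0],
  [0, 0, 0, 0, 0, 0, 0, 0, 0, 0, 1, 1, 1, 1, 0, 0, 0, 0, 0, 0],
  [0, 0, 0, 0, 0, 0, 0, 0, 0, 0, 0, 0, 0, 0, 0, 0, 1, 1, 0, 0],
  [0, 0, 0, 0, 0, 0, 0, 0, 0, 0, 0, 0, 0, 0, 0, 0, 0, 0, 0, 0],
  [0, 0, 0, 0, 0, 0, 0, 0, 0, 0, 1, 1, 1, 1, 0, 0, 1, 1, 0, 0]]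

/-- further elements of the subgroup -/
def pSteps : List (Nat × List Nat) := [(105, [100, 3, 100]),
  (110, [23, 105, 23]),
  (115, [101, 110, 101]),
  (121, [102, 115, 102]),
  (129, [104, 121, 104]),
  (140, [101, 129, 101]),
  (152, [23, 140, 23]),
  (166, [100, 152, 100]),
  (178, [103, 166, 103]),
  (189, [39, 178, 39]),
  (199, [104, 189, 104]),
  (209, [103, 199, 103]),
  (128, [39, 121, 39]),
  (137, [100, 128, 100]),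
  (148, [23, 137, 23]),
  (161, [101, 148, 101]),
  (172, [103, 161, 103]),
  (182, [39, 172, 39]),
  (193, [104, 182, 104]),
  (204, [101, 193, 101]),
  (215, [23, 204, 23]),
  (228, [102, 215, 102]),
  (237, [101, 228, 101]),
  (243, [103, 237, 103]),
  (61, [209, 243]),
  (63, [161, 209]),
  (67, [161, 243]),
  (106, [23, 100, 23]),
  (111, [101, 106, 101]),
  (117, [102, 111, 102]),
  (125, [39, 117, 39]),
  (135, [104, 125, 104]),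
  (146, [101, 135, 101]),
  (160, [23, 146, 23]),
  (171, [100, 160, 100]),
  (42, [166, 171]),
  (192, [100, 182, 100]),
  (202, [3, 192, 3]),
  (212, [23, 202, 23]),
  (225, [100, 212, 100]),
  (233, [39, 225, 39]),
  (240, [103, 233, 103]),
  (43, [171, 240]),
  (49, [166, 240]),
  (116, [39, 110, 39]),
  (124, [103, 116, 103]),
  (133, [104, 124, 104]),
  (144, [101, 133, 101]),
  (158, [23, 144, 23]),
  (169, [102, 158, 102]),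
  (180, [101, 169, 101]),
  (153, [103, 140, 103]),
  (167, [39, 153, 39]),
  (179, [100, 167, 100]),
  (190, [23, 179, 23]),
  (200, [101, 190, 101]),
  (210, [104, 200, 104]),
  (223, [101, 210, 101]),
  (26, [180, 223]),
  (162, [103, 148, 103]),
  (173, [39, 162, 39]),
  (183, [100, 173, 100]),
  (194, [104, 183, 104]),
  (27, [180, 194]),
  (33, [194, 223]),
  (108, [102, 101, 102]),
  (114, [104, 108, 104]),
  (122, [39, 115, 39]),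
  (130, [100, 122, 100]),
  (142, [104, 130, 104]),
  (6, [114, 142]),
  (217, [103, 204, 103]),
  (229, [104, 217, 104]),
  (7, [114, 229]),
  (17, [142, 229]),
  (213, [104, 202, 104]),
  (226, [103, 213, 103]),
  (235, [39, 226, 39]),
  (241, [100, 235, 100]),
  (203, [23, 192, 23]),
  (214, [104, 203, 104]),
  (227, [103, 214, 103]),
  (236, [39, 227, 39]),
  (242, [100, 236, 100]),
  (30, [241, 242]),
  (31, [102, 242]),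
  (35, [102, 241]),
  (139, [104, 128, 104]),
  (151, [101, 139, 101]),
  (165, [23, 151, 23]),
  (177, [103, 165, 103]),
  (188, [39, 177, 39]),
  (198, [100, 188, 100]),
  (207, [23, 198, 23]),
  (221, [101, 207, 101]),
  (201, [104, 190, 104]),
  (211, [101, 201, 101]),
  (224, [102, 211, 102]),
  (10, [221, 224]),
  (138, [103, 128, 103]),
  (150, [104, 138, 104]),
  (11, [150, 221]),
  (19, [150, 224]),
  (123, [100, 116, 100]),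
  (132, [103, 123, 103]),
  (143, [39, 132, 39]),
  (157, [104, 143, 104]),
  (234, [104, 225, 104]),
  (4, [157, 234]),
  (149, [104, 137, 104]),
  (163, [101, 149, 101]),
  (175, [103, 163, 103]),
  (185, [39, 175, 39]),
  (196, [104, 185, 104]),
  (16, [196, 234]),
  (5, [157, 196]),
  (107, [101, 23, 101]),
  (112, [102, 107, 102]),
  (8, [101, 112]),
  (208, [101, 199, 101]),
  (222, [103, 208, 103]),
  (232, [104, 222, 104]),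
  (18, [112, 232]),
  (9, [101, 232]),
  (109, [103, 39, 103]),
  (24, [109, 233]),
  (32, [109, 178]),
  (25, [178, 233]),
  (118, [39, 111, 39]),
  (126, [103, 118, 103]),
  (2, [104, 126, 104]),
  (131, [103, 122, 103]),
  (13, [104, 131, 104]),
  (155, [101, 13, 101]),
  (164, [101, 150, 101]),
  (176, [23, 164, 23]),
  (187, [102, 176, 102]),
  (28, [155, 187]),
  (134, [103, 125, 103]),
  (145, [104, 134, 104]),
  (159, [101, 145, 101]),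
  (170, [23, 159, 23]),
  (181, [102, 170, 102]),
  (191, [101, 181, 101]),
  (34, [187, 191]),
  (29, [155, 191]),
  (156, [103, 13, 103]),
  (168, [39, 156, 39]),
  (174, [104, 162, 104]),
  (184, [101, 174, 101]),
  (195, [23, 184, 23]),
  (205, [100, 195, 100]),
  (219, [103, 205, 103]),
  (40, [168, 219]),
  (218, [3, 205, 3]),
  (230, [39, 218, 39]),
  (238, [103, 230, 103]),
  (48, [168, 238]),
  (41, [219, 238]),
  (186, [100, 176, 100]),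
  (197, [3, 186, 3]),
  (206, [39, 197, 39]),
  (220, [100, 206, 100]),
  (231, [23, 220, 23]),
  (239, [103, 231, 103]),
  (22, [104, 239, 104]),
  (113, [104, 107, 104]),
  (120, [103, 113, 103]),
  (216, [102, 204, 102]),
  (57, [120, 216]),
  (141, [23, 130, 23]),
  (154, [103, 141, 103]),
  (65, [120, 154]),
  (59, [154, 216]),
  (119, [104, 112, 104]),
  (127, [101, 119, 101]),
  (136, [103, 127, 103]),
  (147, [39, 136, 39]),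
  (38, [104, 147, 104]),
  (45, [44, 50]),
  (58, [56, 64]),
  (71, [70, 74]),
  (79, [78, 82]),
  (87, [86, 90]),
  (95, [94, 98])]

/-- the elements of the orbits of positive roots -/
def uRows : List (Nat × Nat × List Nat) := [(0, 0, []),
  (0, 1, [4]),
  (0, 2, [16]),
  (0, 3, [5]),
  (1, 0, []),
  (1, 1, [8]),
  (1, 2, [18]),
  (1, 3, [9]),
  (2, 0, []),
  (2, 1, [2]),
  (3, 0, []),
  (3, 1, [0]),
  (4, 0, []),
  (4, 1, [24]),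
  (4, 2, [32]),
  (4, 3, [25]),
  (5, 0, []),
  (5, 1, [28]),
  (5, 2, [34]),
  (5, 3, [29]),
  (6, 0, []),
  (6, 1, [20]),
  (7, 0, []),
  (7, 1, [40]),
  (7, 2, [48]),
  (7, 3, [41]),
  (8, 0, []),
  (8, 1, [22]),
  (9, 0, []),
  (9, 1, [44]),
  (9, 2, [50]),
  (9, 3, [45]),
  (10, 0, []),
  (10, 1, [57]),
  (10, 2, [65]),
  (10, 3, [59]),
  (11, 0, []),
  (11, 1, [56]),
  (11, 2, [64]),
  (11, 3, [58]),
  (12, 0, []),
  (12, 1, [36]),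
  (13, 0, []),
  (13, 1, [70]),
  (13, 2, [74]),
  (13, 3, [71]),
  (14, 0, []),
  (14, 1, [52]),
  (15, 0, []),
  (15, 1, [38]),
  (16, 0, []),
  (16, 1, [78]),
  (16, 2, [82]),
  (16, 3, [79]),
  (17, 0, []),
  (17, 1, [53]),
  (18, 0, []),
  (18, 1, [86]),
  (18, 2, [90]),
  (18, 3, [87]),
  (19, 0, []),
  (19, 1, [68]),
  (20, 0, []),
  (20, 1, [94]),
  (20, 2, [98]),
  (20, 3, [95]),
  (21, 0, []),
  (21, 1, [76]),
  (22, 0, []),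
  (22, 1, [84]),
  (23, 0, []),
  (23, 1, [92])]

end Cfsg.Agent.H56.EMult
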