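import Cfsg.Agent.H56.EMult.Group
import Cfsg.Agent.H56.EMult.ParData

/-!
The tables of the parabolic subgroup checked by evaluation.
-/

set_option autoImplicit false
set_option maxRecDepth 100000
set_option Elab.async false

namespace Cfsg.Agent.H56.EMult

/-- the degree of a place -/
def deg (n : ℕ) : ℕ := degT.getD n 2

/-- the generators of the parabolic subgroup -/
def pIds : List ℕ := qIds ++ zId :: sIds

/-- a place of degree minus one -/
def lowN (i : ℕ) : ℕ := lowT.getD i 0

/-- an entry of the basis -/
def baseC (a j : ℕ) : ℕ := (baseT.getD j []).getD a 0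

/-- an entry of the inverse basis -/
def baseIC (i a : ℕ) : ℕ := (baseInvT.getD i []).getD a 0

/-- the columns of the action of a generator -/
def rCols (p : ℕ) : List ℕ :=
  if p < 21 then (List.range 20).map (2 ^ ·) else rTab.getD (p - 21) []

/-- the value of the crossed homomorphism at a generator -/
def rVal (p : ℕ) : ℕ := if p < 20 then 2 ^ p else 0

/-- a dot product of twenty codes -/
def dotC (f g : ℕ → ℕ) : ℕ := ((List.range 20).map fun b => cmulC (f b) (g b)).foldl Nat.xor 0

/-- one bit as a code -/
def bitC (m i : ℕ) : ℕ := bif m.testBit i then 1 else 0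

/-- the packed basis -/
def baseP : Pl :=
  (List.range 20).foldl (fun P a => (List.range 20).foldl (fun P j =>
    (P.1 ||| (baseC a j % 2) <<< (20 * lowN a + j), P.2 ||| (baseC a j / 2) <<< (20 * lowN a + j))) P)
    (0, 0)

/-- the packed lowest vector -/
def mthP : Pl := (1 <<< 6, 0)

/-- the check of the packed basis and the inverse -/
def baseOK : Bool :=
  ((List.range 78).all fun n => (List.range 20).all fun j =>
    Nat.beq (code baseP (20 * n + j))
      (if n ∈ lowT then baseC (lowT.idxOf n) j else 0)) &&
  ((List.range 20).all fun a => (List.range 20).all fun j =>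
    Nat.blt (baseC a j) 4 && Nat.blt (baseIC a j) 4 &&
      Nat.beq (dotC (fun b => baseIC a b) fun b => baseC b j) (if a = j then 1 else 0)) &&
  Nat.beq lowT.length 20 &&
  ((List.range 78).all fun n => Nat.beq (deg n) 1 == decide (n ∈ lowT)) &&
  ((List.range 78).all fun n => Nat.beq (deg n) 0 == Nat.beq n 6) &&
  ((List.range 78).all fun n => Nat.blt (deg n) 4 || Nat.beq n 77) &&
  ((List.range 20).all fun i => Nat.blt (lowN i) 78 && Nat.beq (lowT.idxOf (lowN i)) i)

theorem base_ok : baseOK = true := by decide +kernel

/-- the check of one generator -/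
noncomputable def parChk (p : ℕ) : Bool :=
  let es := elE (pIds.getD p 0)
  Nat.blt (pIds.getD p 0) 244 &&
  es.all (fun e => Nat.ble (deg e.2.1) (deg e.1) && Bool.not (Nat.beq e.2.1 77) &&
    Bool.not (Nat.beq e.2.1 6 && Nat.beq e.1 6)) &&
  ((List.range 20).all fun a => (List.range 20).all fun j =>
    Nat.beq (code (stepE 20 es baseP) (20 * lowN a + j))
      (dotC (fun i => baseC a i) fun i => bitC ((rCols p).getD j 0) i)) &&
  ((List.range 20).all fun a =>
    Nat.beq (code (stepE 1 es mthP) (1 * lowN a + 0))
      (dotC (fun i => baseC a i) fun i => bitC (rVal p) i))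

theorem par_ok : (List.range 29).all parChk = true := by decide +kernel

end Cfsg.Agent.H56.EMult
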