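import Cfsg.Agent.H56.EMult.Mask
import Mathlib.GroupTheory.Commutator.Basic

/-!
Twenty involutions that commute up to a central involution: products over masks.
-/

set_option autoImplicit false

namespace Cfsg.Agent.H56.EMult

variable {X : Type*} [Group X]

/-- a power with exponent zero or one -/
def bp (w : X) (b : Bool) : X := bif b then w else 1

/-- the product of the members selected by a mask -/
def qsel (f : ℕ → X) (m : ℕ) : ℕ → X
  | 0 => 1
  | n + 1 => qsel f m n * bp (f n) (m.testBit n)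

/-- the relations of the system -/
structure QSys (f : ℕ → X) (w : X) (B : List ℕ) : Prop where
  w_sq : w * w = 1
  w_comm : ∀ i, i < 20 → w * f i = f i * w
  f_sq : ∀ i, i < 20 → f i * f i = 1
  f_comm : ∀ i, i < 20 → ∀ j, j < 20 → f i * f j = f j * f i * bp w ((B.getD i 0).testBit j)

theorem map_bp {Y : Type*} [Group Y] (φ : X →* Y) (w : X) (b : Bool) : φ (bp w b) = bp (φ w) b := by
  cases b <;> simp [bp]

theorem map_qsel {Y : Type*} [Group Y] (φ : X →* Y) (f : ℕ → X) (m : ℕ) :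
    ∀ n, φ (qsel f m n) = qsel (fun i => φ (f i)) m n
  | 0 => map_one φ
  | n + 1 => by rw [qsel, qsel, map_mul, map_bp, map_qsel φ f m n]

theorem qsel_congr (f : ℕ → X) {m m' : ℕ} : ∀ n, (∀ j, j < n → m.testBit j = m'.testBit j) →
    qsel f m n = qsel f m' n
  | 0, _ => rfl
  | n + 1, h => by rw [qsel, qsel, qsel_congr f n (fun j hj => h j (by omega)), h n (by omega)]

theorem qsel_zero (f : ℕ → X) : ∀ n, qsel f 0 n = 1
  | 0 => rfl
  | n + 1 => by rw [qsel, qsel_zero f n, Nat.zero_testBit]; simp [bp]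

namespace QSys

variable {f : ℕ → X} {w : X} {B : List ℕ} (h : QSys f w B)
include h

theorem qsel_w : ∀ (m n : ℕ), n ≤ 20 → w * qsel f m n = qsel f m n * w
  | m, 0, _ => by simp [qsel]
  | m, n + 1, hn => by
    rw [qsel, ← mul_assoc, qsel_w m n (by omega), mul_assoc, mul_assoc]
    congr 1
    cases m.testBit n
    · simp [bp]
    · exact h.w_comm n (by omega)

theorem bp_mul (a b : Bool) : bp w a * bp w b = bp w (a ^^ b) := by
  cases a <;> cases b <;> simp [bp, h.w_sq]

theorem w_bp_comm {i : ℕ} (hi : i < 20) (b : Bool) : bp w b * f i = f i * bp w b := by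
  cases b
  · simp [bp]
  · exact h.w_comm i hi

theorem qsel_gen (m i : ℕ) (hi : i < 20) : ∀ n, n ≤ 20 → i < n →
    ∃ b, qsel f m n * f i = qsel f (m ^^^ 2 ^ i) n * bp w b
  | 0, _, hin => absurd hin (Nat.not_lt_zero _)
  | n + 1, hn, hin => by
    have hm : ∀ j, j ≠ i → (m ^^^ 2 ^ i).testBit j = m.testBit j := fun j hj => by
      rw [Nat.testBit_xor, Nat.testBit_two_pow_of_ne (Ne.symm hj), Bool.xor_false]
    rcases Nat.eq_or_lt_of_le (Nat.lt_succ_iff.1 hin) with rfl | hlt
    · refine ⟨false, ?_⟩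
      rw [qsel, qsel, qsel_congr f i (fun j hj => (hm j (by omega)).symm), Nat.testBit_xor,
        Nat.testBit_two_pow_self]
      cases m.testBit i <;> simp [bp, mul_assoc, h.f_sq i hi]
    · obtain ⟨b, hb⟩ := qsel_gen m i hi n (by omega) hlt
      rw [qsel, qsel, hm n (by omega)]
      cases m.testBit n
      · exact ⟨b, by simp only [bp, cond_false, mul_one]; exact hb⟩
      · refine ⟨b ^^ (B.getD n 0).testBit i, ?_⟩
        show qsel f m n * f n * f i = qsel f (m ^^^ 2 ^ i) n * f n * bp w _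
        rw [mul_assoc, h.f_comm n (by omega) i hi, ← mul_assoc, ← mul_assoc, hb, ← h.bp_mul,
          ← mul_assoc]
        rw [mul_assoc (qsel f (m ^^^ 2 ^ i) n) (bp w b), h.w_bp_comm (by omega), ← mul_assoc]

theorem bp_qsel (b : Bool) (m : ℕ) : bp w b * qsel f m 20 = qsel f m 20 * bp w b := by
  cases b
  · simp [bp]
  · exact h.qsel_w m 20 le_rfl

theorem qsel_mul (m m' : ℕ) : ∀ n, n ≤ 20 →
    ∃ (k : ℕ) (b : Bool), qsel f m 20 * qsel f m' n = qsel f k 20 * bp w b ∧
      ∀ j, j < 20 → k.testBit j = (m.testBit j ^^ (decide (j < n) && m'.testBit j))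
  | 0, _ => ⟨m, false, by simp [qsel, bp], fun j _ => by simp⟩
  | n + 1, hn => by
    obtain ⟨k, b, e, hk⟩ := qsel_mul m m' n (by omega)
    by_cases hb : m'.testBit n = true
    · obtain ⟨b', e'⟩ := h.qsel_gen k n (by omega) 20 le_rfl (by omega)
      refine ⟨k ^^^ 2 ^ n, b' ^^ b, ?_, fun j hj => ?_⟩
      · show qsel f m 20 * (qsel f m' n * bp (f n) (m'.testBit n)) = _
        rw [hb, ← mul_assoc, e]
        show qsel f k 20 * bp w b * f n = _
        rw [mul_assoc, h.w_bp_comm (by omega), ← mul_assoc, e', mul_assoc, h.bp_mul]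
      · rw [Nat.testBit_xor, hk j hj]
        by_cases hjn : j = n
        · subst hjn; simp [Nat.testBit_two_pow_self, hb]
        · simp [Nat.testBit_two_pow_of_ne (Ne.symm hjn),
            show (j < n + 1) = (j < n) from propext (by omega)]
    · rw [Bool.not_eq_true] at hb
      refine ⟨k, b, ?_, fun j hj => ?_⟩
      · show qsel f m 20 * (qsel f m' n * bp (f n) (m'.testBit n)) = _
        rw [hb]; simp [bp, e]
      · rw [hk j hj]
        by_cases hjn : j = n
        · subst hjn; simp [hb]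
        · simp [show (j < n + 1) = (j < n) from propext (by omega)]

/-- the product of two normal forms -/
theorem mul_eq (m m' : ℕ) :
    ∃ b, qsel f m 20 * qsel f m' 20 = qsel f (m ^^^ m') 20 * bp w b := by
  obtain ⟨k, b, e, hk⟩ := h.qsel_mul m m' 20 le_rfl
  refine ⟨b, e.trans (congrArg (· * bp w b) (qsel_congr f 20 fun j hj => ?_))⟩
  rw [hk j hj, Nat.testBit_xor]
  simp [hj]

/-- every element of the closure has the normal form -/
theorem exists_form {g : X} (hg : g ∈ Subgroup.closure (insert w {x | ∃ i, i < 20 ∧ x = f i})) :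
    ∃ m, m < 2 ^ 20 ∧ ∃ b, g = qsel f m 20 * bp w b := by
  have hgen : ∀ x, (∃ i, i < 20 ∧ x = f i) ∨ x = w → ∀ a, (∃ m, m < 2 ^ 20 ∧ ∃ b, a = qsel f m 20 * bp w b) →
      ∃ m, m < 2 ^ 20 ∧ ∃ b, a * x = qsel f m 20 * bp w b := by
    rintro x (⟨i, hi, rfl⟩ | rfl) a ⟨m, hm, b, rfl⟩
    · obtain ⟨b', e⟩ := h.qsel_gen m i hi 20 le_rfl (by omega)
      refine ⟨m ^^^ 2 ^ i, Nat.xor_lt_two_pow hm (Nat.pow_lt_pow_right (by norm_num) hi), b' ^^ b, ?_⟩
      rw [mul_assoc, h.w_bp_comm hi, ← mul_assoc, e, mul_assoc, h.bp_mul]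
    · exact ⟨m, hm, b ^^ true, by rw [mul_assoc, ← h.bp_mul]; rfl⟩
  have hinv : ∀ x, (∃ i, i < 20 ∧ x = f i) ∨ x = w → x⁻¹ = x := by
    rintro x (⟨i, hi, rfl⟩ | rfl)
    · exact inv_eq_of_mul_eq_one_right (h.f_sq i hi)
    · exact inv_eq_of_mul_eq_one_right h.w_sq
  induction hg using Subgroup.closure_induction_right with
  | one => exact ⟨0, Nat.two_pow_pos 20, false, by simp [qsel_zero, bp]⟩
  | mul_right a _ x hx ih => exact hgen x (hx.symm.imp id id) a ih
  | mul_inv_cancel a _ x hx ih => rw [hinv x (hx.symm.imp id id)]; exact hgen x (hx.symm.imp id id) a ih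

end QSys

end Cfsg.Agent.H56.EMult
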