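import Cfsg.Agent.H56.EMult.ParCheck
import Cfsg.Agent.H56.EMult.Mask

/-!
The relations of the radical and the invariance of its form checked by evaluation.
-/

set_option autoImplicit false
set_option maxRecDepth 100000
set_option Elab.async false

namespace Cfsg.Agent.H56.EMult

/-- a radical generator -/
def qId (i : ℕ) : ℕ := qIds.getD i 0

/-- a generator of the complement -/
def sId (j : ℕ) : ℕ := sIds.getD j 0

/-- the central generator if wanted -/
def zIf (b : Bool) : List ℕ := bif b then [zId] else []

/-- the word of a mask -/
def qW (m : ℕ) : List ℕ := ((List.range 20).filter fun i => m.testBit i).map qId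

/-- equality of two words -/
noncomputable def wEq (w w' : List ℕ) : Bool :=
  (w.all fun k => Nat.blt k 244) && (w'.all fun k => Nat.blt k 244) &&
    peq (runT 78 (w.map elE) idP) (runT 78 (w'.map elE) idP)

/-- one commutator of the radical -/
noncomputable def qcChk (i : ℕ) : Bool :=
  wEq [qId i, qId i] [] && wEq [zId, qId i] [qId i, zId] &&
    (List.range 20).all fun k =>
      wEq [qId i, qId k] ([qId k, qId i] ++ zIf ((bTab.getD i 0).testBit k))

/-- one generator of the complement on the radical -/
noncomputable def cjChk (j : ℕ) : Bool :=
  wEq [sId j, sId j] [] && wEq [zId, sId j] [sId j, zId] &&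
    (List.range 20).all fun i =>
      wEq [sId j, qId i, sId j]
        (qW ((rTab.getD j []).getD i 0) ++ zIf (Nat.beq ((cjTab.getD j []).getD i 0) 1))

/-- the invariance of the form under one generator -/
def invChkB (p : ℕ) : Bool :=
  (List.range 20).all fun i => (List.range 20).all fun k =>
    par20 ((rCols p).getD i 0) (rap20 bTab ((rCols p).getD k 0)) == (bTab.getD k 0).testBit i

theorem zsq_ok : wEq [zId, zId] [] = true := by decide +kernel

theorem qc_ok0 : (List.range 10).all qcChk = true := by decide +kernel

theorem qc_ok1 : ((List.range 10).map (10 + ·)).all qcChk = true := by decide +kernel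

theorem cj_ok0 : (List.range 4).all cjChk = true := by decide +kernel

theorem cj_ok1 : ((List.range 4).map (4 + ·)).all cjChk = true := by decide +kernel

theorem form_ok : (List.range 29).all invChkB = true := by decide +kernel

end Cfsg.Agent.H56.EMult
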