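import Cfsg.Agent.H56.EMult.Par
import Cfsg.Agent.H56.EMult.RadCheck
import Cfsg.Agent.H56.EMult.QForm

/-!
The radical of the parabolic subgroup, its normal form, and the invariant form.
-/

set_option autoImplicit false
set_option maxRecDepth 100000

namespace Cfsg.Agent.H56.EMult

open Cfsg.Lie
open scoped Matrix

section Rad

variable {K : Type*} [Field K] [Fintype K] (hK : Fintype.card K = 4)

/-- a radical generator of the group -/
noncomputable def qg (i : ℕ) : ↥(twistedE6 K 2) := eg hK (qId i)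

/-- a generator of the complement -/
noncomputable def sg (j : ℕ) : ↥(twistedE6 K 2) := eg hK (sId j)

/-- the central generator -/
noncomputable def zg : ↥(twistedE6 K 2) := eg hK zId

/-- the form -/
def bet (v w : Fin 20 → ZMod 2) : ZMod 2 := v ⬝ᵥ (bmz bTab *ᵥ w)

include hK

theorem wg_wEq {w w' : List ℕ} (h : wEq w w' = true) : wg hK w = wg hK w' := by
  simp only [wEq, Bool.and_eq_true, List.all_eq_true] at h
  exact wg_eq hK (fun k hk => bltT (h.1.1 k hk)) (fun k hk => bltT (h.1.2 k hk)) h.2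

theorem qsel_wg (m : ℕ) : ∀ n, qsel (qg hK) m n =
    wg hK (((List.range n).filter fun i => m.testBit i).map qId)
  | 0 => by simp [qsel, wg]
  | n + 1 => by
    rw [qsel, qsel_wg m n, List.range_succ, List.filter_append, List.map_append, wg_append]
    congr 1
    cases hb : m.testBit n <;> simp [bp, wg, hb, qg]

theorem wg_zIf (b : Bool) : wg hK (zIf b) = bp (zg hK) b := by
  cases b <;> simp [zIf, wg, bp, zg]

omit [Field K] [Fintype K] hK in
theorem qc_all {i : ℕ} (hi : i < 20) : qcChk i = true := by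
  rcases Nat.lt_or_ge i 10 with h | h
  · exact List.all_eq_true.1 qc_ok0 i (List.mem_range.2 h)
  · exact List.all_eq_true.1 qc_ok1 i (List.mem_map.2 ⟨i - 10, List.mem_range.2 (by omega), by omega⟩)

omit [Field K] [Fintype K] hK in
theorem cj_all {j : ℕ} (hj : j < 8) : cjChk j = true := by
  rcases Nat.lt_or_ge j 4 with h | h
  · exact List.all_eq_true.1 cj_ok0 j (List.mem_range.2 h)
  · exact List.all_eq_true.1 cj_ok1 j (List.mem_map.2 ⟨j - 4, List.mem_range.2 (by omega), by omega⟩)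

theorem qsys : QSys (qg hK) (zg hK) bTab where
  w_sq := by simpa [wg, zg] using wg_wEq hK zsq_ok
  w_comm i hi := by
    have h := qc_all hi
    simp only [qcChk, Bool.and_eq_true] at h
    simpa [wg, zg, qg] using wg_wEq hK h.1.2
  f_sq i hi := by
    have h := qc_all hi
    simp only [qcChk, Bool.and_eq_true] at h
    simpa [wg, qg] using wg_wEq hK h.1.1
  f_comm i hi j hj := by
    have h := qc_all hi
    simp only [qcChk, Bool.and_eq_true, List.all_eq_true, List.mem_range] at h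
    have e := wg_wEq hK (h.2 j hj)
    rw [wg_append, wg_zIf] at e
    simpa [wg, qg, mul_assoc] using e

theorem s_conj {j : ℕ} (hj : j < 8) {i : ℕ} (hi : i < 20) :
    sg hK j * qg hK i * sg hK j =
      qsel (qg hK) ((rTab.getD j []).getD i 0) 20 *
        bp (zg hK) (Nat.beq ((cjTab.getD j []).getD i 0) 1) := by
  have h := cj_all hj
  simp only [cjChk, Bool.and_eq_true, List.all_eq_true, List.mem_range] at h
  have e := wg_wEq hK (h.2 i hi)
  rw [wg_append, wg_zIf, qW, ← qsel_wg] at e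
  simpa [wg, sg, qg, mul_assoc] using e

theorem s_sq {j : ℕ} (hj : j < 8) :
    sg hK j * sg hK j = 1 ∧ zg hK * sg hK j = sg hK j * zg hK := by
  have h := cj_all hj
  simp only [cjChk, Bool.and_eq_true] at h
  exact ⟨by simpa [wg, sg] using wg_wEq hK h.1.1, by simpa [wg, sg, zg] using wg_wEq hK h.1.2⟩

omit [Field K] [Fintype K] hK in
theorem id_facts : (∀ i, i < 20 → pIds.getD i 0 = qId i) ∧ pIds.getD 20 0 = zId ∧
    (∀ j, j < 8 → pIds.getD (21 + j) 0 = sId j) ∧ ∀ k ∈ pIds,
      (∃ i, i < 20 ∧ k = qId i) ∨ k = zId ∨ ∃ j, j < 8 ∧ k = sId j := by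
  refine ⟨?_, ?_, ?_, ?_⟩ <;> decide +kernel

theorem q_mem {i : ℕ} (hi : i < 20) : qg hK i ∈ Pp hK := by
  rw [qg, ← id_facts.1 i hi]
  refine gen_mem hK ?_
  have : ∀ p, p < 20 → pIds.getD p 0 ∈ pIds := by decide +kernel
  exact this i hi

theorem z_mem : zg hK ∈ Pp hK := gen_mem hK (by decide +kernel)

theorem s_mem {j : ℕ} (hj : j < 8) : sg hK j ∈ Pp hK := by
  have : ∀ j, j < 8 → sId j ∈ pIds := by decide +kernel
  exact gen_mem hK (this j hj)

omit [Field K] [Fintype K] hK in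
theorem bmz_id : bmz ((List.range 20).map (2 ^ ·)) = 1 := by
  funext i j
  rw [bmz, Matrix.of_apply, bvz_apply, List.getD_eq_getElem _ _ (by simp), List.getElem_map,
    List.getElem_range, Nat.testBit_two_pow, Matrix.one_apply]
  by_cases h : i = j <;> simp [h, bz, Fin.val_inj, eq_comm]

theorem rMV_q {i : ℕ} (hi : i < 20) :
    rM hK (qg hK i) = 1 ∧ rV hK (qg hK i) = bvz (2 ^ i) := by
  have h := rMV_gen hK (p := i) (by omega)
  rw [id_facts.1 i hi, rCols, if_pos (by omega), rVal, if_pos hi] at h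
  refine ⟨h.1.trans ?_, h.2⟩
  exact bmz_id

theorem rMV_z : rM hK (zg hK) = 1 ∧ rV hK (zg hK) = 0 := by
  have h := rMV_gen hK (p := 20) (by omega)
  rw [id_facts.2.1, rCols, if_pos (by omega), rVal, if_neg (lt_irrefl 20), bvz_zero] at h
  refine ⟨h.1.trans ?_, h.2⟩
  exact bmz_id

theorem rMV_s {j : ℕ} (hj : j < 8) :
    rM hK (sg hK j) = bmz (rTab.getD j []) ∧ rV hK (sg hK j) = 0 := by
  have h := rMV_gen hK (p := 21 + j) (by omega)
  rw [id_facts.2.2.1 j hj, rCols, if_neg (by omega), rVal, if_neg (by omega), bvz_zero,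
    Nat.add_sub_cancel_left] at h
  exact h

theorem qsel_mem (m : ℕ) : ∀ n, n ≤ 20 → qsel (qg hK) m n ∈ Pp hK
  | 0, _ => one_mem _
  | n + 1, hn => by
    rw [qsel]
    refine mul_mem (qsel_mem m n (by omega)) ?_
    cases m.testBit n
    · exact one_mem _
    · exact q_mem hK (by omega)

theorem rMV_qsel (m : ℕ) : ∀ n, n ≤ 20 → rM hK (qsel (qg hK) m n) = 1 ∧
    rV hK (qsel (qg hK) m n) =
      fun i => if i.val < n then bvz m i else 0
  | 0, _ => ⟨(rMV_one hK).1, (rMV_one hK).2.trans (by funext i; simp)⟩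
  | n + 1, hn => by
    obtain ⟨h1, h2⟩ := rMV_qsel m n (by omega)
    have hm := qsel_mem hK m n (by omega)
    rw [qsel]
    cases hb : m.testBit n
    · simp only [bp, cond_false, mul_one]
      refine ⟨h1, h2.trans (funext fun i => ?_)⟩
      by_cases hi : i.val = n
      · simp [hi, bvz, hb]
      · simp [show (i.val < n + 1) = (i.val < n) from propext (by omega)]
    · simp only [bp, cond_true]
      obtain ⟨e1, e2⟩ := rMV_mul hK hm (q_mem hK (i := n) (by omega))
      obtain ⟨q1, q2⟩ := rMV_q hK (i := n) (by omega)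
      refine ⟨by rw [e1, h1, q1, one_mul], ?_⟩
      rw [e2, h1, q2, Matrix.one_mulVec, h2]
      funext i
      by_cases hi : i.val = n
      · simp [hi, bvz, hb, Nat.testBit_two_pow_self]
      · simp [bvz, Nat.testBit_two_pow_of_ne (Ne.symm hi),
          show (i.val < n + 1) = (i.val < n) from propext (by omega)]

theorem rMV_form (m : ℕ) (b : Bool) :
    rM hK (qsel (qg hK) m 20 * bp (zg hK) b) = 1 ∧
      rV hK (qsel (qg hK) m 20 * bp (zg hK) b) = bvz m := by
  obtain ⟨h1, h2⟩ := rMV_qsel hK m 20 le_rfl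
  have h2' : rV hK (qsel (qg hK) m 20) = bvz m := h2.trans (funext fun i => if_pos i.isLt)
  cases b
  · simpa [bp] using ⟨h1, h2'⟩
  · obtain ⟨e1, e2⟩ := rMV_mul hK (qsel_mem hK m 20 le_rfl) (z_mem hK)
    obtain ⟨z1, z2⟩ := rMV_z hK
    exact ⟨by simp [bp, e1, h1, z1], by simp [bp, e2, h1, z2, h2']⟩

/-- the form is invariant -/
theorem form_inv {g : ↥(twistedE6 K 2)} (hg : g ∈ Pp hK) :
    (rM hK g)ᵀ * bmz bTab * rM hK g = bmz bTab := by
  refine (Pp_induction hK (p := fun g => g ∈ Pp hK ∧ (rM hK g)ᵀ * bmz bTab * rM hK g = bmz bTab)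
    (fun k hk => ⟨gen_mem hK hk, ?_⟩) ⟨one_mem _, ?_⟩ (fun a b ha hb => ⟨mul_mem ha.1 hb.1, ?_⟩) hg).2
  · obtain ⟨p, hp, rfl⟩ := gen_rel hk
    rw [(rMV_gen hK hp).1]
    have h := List.all_eq_true.1 form_ok p (List.mem_range.2 hp)
    simp only [invChkB, List.all_eq_true, List.mem_range, beq_iff_eq] at h
    funext i k
    have e := congrArg bz (h i.val i.isLt k.val k.isLt)
    rw [bz_par, bvz_rap] at e
    rw [Matrix.mul_assoc]
    exact e
  · rw [(rMV_one hK).1, Matrix.transpose_one, Matrix.one_mul, Matrix.mul_one]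
  · rw [(rMV_mul hK ha.1 hb.1).1, Matrix.transpose_mul]
    have e : (rM hK b)ᵀ * (rM hK a)ᵀ * bmz bTab * (rM hK a * rM hK b) =
        (rM hK b)ᵀ * ((rM hK a)ᵀ * bmz bTab * rM hK a) * rM hK b := by
      simp only [Matrix.mul_assoc]
    rw [e, ha.2, hb.2]

theorem bet_inv {g : ↥(twistedE6 K 2)} (hg : g ∈ Pp hK) (v w : Fin 20 → ZMod 2) :
    bet (rM hK g *ᵥ v) (rM hK g *ᵥ w) = bet v w := by
  show (rM hK g *ᵥ v) ⬝ᵥ (bmz bTab *ᵥ (rM hK g *ᵥ w)) = v ⬝ᵥ (bmz bTab *ᵥ w)
  conv_rhs => rw [← form_inv hK hg]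
  rw [← Matrix.vecMul_transpose, ← Matrix.dotProduct_mulVec, Matrix.mulVec_mulVec,
    Matrix.mulVec_mulVec]

end Rad

end Cfsg.Agent.H56.EMult
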