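import Cfsg.Agent.H56.EMult.ElCheck

/-!
The tables of root elements checked by evaluation.
-/

set_option autoImplicit false
set_option maxRecDepth 100000
set_option Elab.async false

namespace Cfsg.Agent.H56.EMult

theorem root_ok0 : (List.range 8).all rootChk = true := by decide +kernel

theorem root_ok1 : ((List.range 8).map (8 + ·)).all rootChk = true := by decide +kernel

theorem root_ok2 : ((List.range 8).map (16 + ·)).all rootChk = true := by decide +kernel

theorem root_ok3 : ((List.range 8).map (24 + ·)).all rootChk = true := by decide +kernel

theorem root_ok4 : ((List.range 8).map (32 + ·)).all rootChk = true := by decide +kernel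

end Cfsg.Agent.H56.EMult
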