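import Mathlib.Init

/-!
Certificates for the stabiliser of the highest root vector: representatives of the cosets of the
orbit as words of letters, and the moves of the representatives by the simple monomial elements.
-/

set_option autoImplicit false

namespace Cfsg.Agent.H56.EMult

/-- the monomial elements of the nodes -/
def monW : List (List Nat) := [[4, 6, 4], [8, 10, 8], [2, 3, 2], [0, 1, 0]]

/-- the representatives, as sequences of nodes -/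
def repN : List (List Nat) := [
  [],
  [3],
  [2, 3],
  [1, 2, 3],
  [0, 1, 2, 3],
  [2, 1, 2, 3],
  [2, 0, 1, 2, 3],
  [3, 2, 1, 2, 3],
  [1, 2, 0, 1, 2, 3],
  [3, 2, 0, 1, 2, 3],
  [2, 1, 2, 0, 1, 2, 3],
  [3, 1, 2, 0, 1, 2, 3],
  [3, 2, 1, 2, 0, 1, 2, 3],
  [2, 3, 1, 2, 0, 1, 2, 3],
  [2, 3, 2, 1, 2, 0, 1, 2, 3],
  [1, 2, 3, 1, 2, 0, 1, 2, 3],
  [1, 2, 3, 2, 1, 2, 0, 1, 2, 3],
  [0, 1, 2, 3, 1, 2, 0, 1, 2, 3],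
  [0, 1, 2, 3, 2, 1, 2, 0, 1, 2, 3],
  [2, 1, 2, 3, 2, 1, 2, 0, 1, 2, 3],
  [2, 0, 1, 2, 3, 2, 1, 2, 0, 1, 2, 3],
  [1, 2, 0, 1, 2, 3, 2, 1, 2, 0, 1, 2, 3],
  [2, 1, 2, 0, 1, 2, 3, 2, 1, 2, 0, 1, 2, 3],
  [3, 2, 1, 2, 0, 1, 2, 3, 2, 1, 2, 0, 1, 2, 3]]

/-- node, representative, representative after the move, the factor in the stabiliser -/
def movT : List (Nat × Nat × Nat × List Nat) := [
  (0, 0, 0, [4, 6, 4]),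
  (1, 0, 0, [8, 10, 8]),
  (2, 0, 0, [2, 3, 2]),
  (3, 0, 1, []),
  (0, 1, 1, [4, 6, 4]),
  (1, 1, 1, [8, 10, 8]),
  (2, 1, 2, []),
  (3, 1, 0, []),
  (0, 2, 2, [4, 6, 4]),
  (1, 2, 3, []),
  (2, 2, 1, []),
  (3, 2, 2, [2, 3, 2]),
  (0, 3, 4, []),
  (1, 3, 2, []),
  (2, 3, 5, []),
  (3, 3, 3, [2, 3, 2]),
  (0, 4, 3, []),
  (1, 4, 4, [4, 6, 4]),
  (2, 4, 6, []),
  (3, 4, 4, [2, 3, 2]),
  (0, 5, 6, []),
  (1, 5, 5, [8, 10, 8]),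
  (2, 5, 3, []),
  (3, 5, 7, []),
  (0, 6, 5, []),
  (1, 6, 8, []),
  (2, 6, 4, []),
  (3, 6, 9, []),
  (0, 7, 9, []),
  (1, 7, 7, [8, 10, 8]),
  (2, 7, 7, [2, 3, 2]),
  (3, 7, 5, []),
  (0, 8, 8, [8, 10, 8]),
  (1, 8, 6, []),
  (2, 8, 10, []),
  (3, 8, 11, []),
  (0, 9, 7, []),
  (1, 9, 11, []),
  (2, 9, 9, [2, 3, 2]),
  (3, 9, 6, []),
  (0, 10, 10, [8, 10, 8]),
  (1, 10, 10, [4, 6, 4]),
  (2, 10, 8, []),
  (3, 10, 12, []),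
  (0, 11, 11, [8, 10, 8]),
  (1, 11, 9, []),
  (2, 11, 13, []),
  (3, 11, 8, []),
  (0, 12, 12, [8, 10, 8]),
  (1, 12, 12, [4, 6, 4]),
  (2, 12, 14, []),
  (3, 12, 10, []),
  (0, 13, 13, [8, 10, 8]),
  (1, 13, 15, []),
  (2, 13, 11, []),
  (3, 13, 14, []),
  (0, 14, 14, [8, 10, 8]),
  (1, 14, 16, []),
  (2, 14, 12, []),
  (3, 14, 13, []),
  (0, 15, 17, []),
  (1, 15, 13, []),
  (2, 15, 15, [2, 3, 2]),
  (3, 15, 16, []),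
  (0, 16, 18, []),
  (1, 16, 14, []),
  (2, 16, 19, []),
  (3, 16, 15, []),
  (0, 17, 15, []),
  (1, 17, 17, [8, 10, 8]),
  (2, 17, 17, [2, 3, 2]),
  (3, 17, 18, []),
  (0, 18, 16, []),
  (1, 18, 18, [8, 10, 8]),
  (2, 18, 20, []),
  (3, 18, 17, []),
  (0, 19, 20, []),
  (1, 19, 19, [4, 6, 4]),
  (2, 19, 16, []),
  (3, 19, 19, [2, 3, 2]),
  (0, 20, 19, []),
  (1, 20, 21, []),
  (2, 20, 18, []),
  (3, 20, 20, [2, 3, 2]),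
  (0, 21, 21, [4, 6, 4]),
  (1, 21, 20, []),
  (2, 21, 22, []),
  (3, 21, 21, [2, 3, 2]),
  (0, 22, 22, [4, 6, 4]),
  (1, 22, 22, [8, 10, 8]),
  (2, 22, 21, []),
  (3, 22, 23, []),
  (0, 23, 23, [4, 6, 4]),
  (1, 23, 23, [8, 10, 8]),
  (2, 23, 23, [2, 3, 2]),
  (3, 23, 22, [])]

end Cfsg.Agent.H56.EMult
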