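import Cfsg.Agent.H56.EMult.StabRoot
import Cfsg.Agent.H56.EMult.StabData

/-!
The stabiliser of the highest root vector is the parabolic subgroup; its index is odd.
-/

set_option autoImplicit false
set_option maxRecDepth 100000
set_option Elab.async false

namespace Cfsg.Agent.H56.EMult

open Cfsg.Lie
open Cfsg.Agent.H37 Cfsg.Agent.H37.RootSys Cfsg.Agent.H37.Twist
open Cfsg.Agent.H37.Twist.E6 (QE xe)

/-- the word of a sequence of nodes -/
def monP (l : List ℕ) : List ℕ := l.flatMap fun j => monW.getD j []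

/-- the packed unit column at the last place -/
def colP : Pl := (1 <<< 77, 0)

/-- the check of the representatives: the sequences are short words and move the last place -/
noncomputable def repChk : Bool :=
  (List.range 24).all fun k =>
    (repN.getD k []).all (fun j => Nat.blt j 4) && (monP (repN.getD k [])).all (fun x => Nat.blt x 244) &&
      (Nat.beq k 0 || Nat.beq (code (runT 1 ((monP (repN.getD k [])).map elE) colP) 77) 0)

theorem rep_ok : repChk = true := by decide +kernel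

theorem rep_zero : repN.getD 0 [] = [] := by decide +kernel

/-- the check of a move -/
noncomputable def moveChk (j k : ℕ) : Bool :=
  match movT.find? (fun x => Nat.beq x.1 j && Nat.beq x.2.1 k) with
  | none => false
  | some x => Nat.blt x.2.2.1 24 && okW x.2.2.2 &&
      peq (runT 78 ((monP (j :: repN.getD k [])).map elE) idP)
        (runT 78 ((monP (repN.getD x.2.2.1 []) ++ x.2.2.2).map elE) idP)

theorem move_ok0 : ((List.range 24).all fun k => moveChk 0 k) = true := by decide +kernel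

theorem move_ok1 : ((List.range 24).all fun k => moveChk 1 k) = true := by decide +kernel

theorem move_ok2 : ((List.range 24).all fun k => moveChk 2 k) = true := by decide +kernel

theorem move_ok3 : ((List.range 24).all fun k => moveChk 3 k) = true := by decide +kernel

theorem move_all {j k : ℕ} (hj : j < 4) (hk : k < 24) : moveChk j k = true := by
  interval_cases j
  · exact List.all_eq_true.1 move_ok0 k (List.mem_range.2 hk)
  · exact List.all_eq_true.1 move_ok1 k (List.mem_range.2 hk)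
  · exact List.all_eq_true.1 move_ok2 k (List.mem_range.2 hk)
  · exact List.all_eq_true.1 move_ok3 k (List.mem_range.2 hk)

theorem mon_lt : ∀ j, j < 4 → ∀ k ∈ monW.getD j [], k < 244 := by decide

theorem pair_rows : ([(56, 36), (15, 35), (42, 37), (29, 34)].all fun rs : ℕ × ℕ =>
    [0, 1, 2, 3].all fun c =>
      genRows.any fun p => (p.1 == [(rs.1, c), (rs.2, cmulC c c)]) && okW p.2) = true := by
  decide +kernel

section

variable {K : Type*} [Field K] [Fintype K] (hK : Fintype.card K = 4)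

include hK

/-- an element of the group given by a word -/
def Val (g : ↥(chevE6.group K)) (w : List ℕ) : Prop :=
  (g : GL chevE6.Idx K).val = (w.map (eM hK)).prod

theorem val_mul {g h : ↥(chevE6.group K)} {w w' : List ℕ} (hg : Val hK g w) (hh : Val hK h w') :
    Val hK (g * h) (w ++ w') := by
  rw [Val, Subgroup.coe_mul, Units.val_mul, hg, hh, List.map_append, List.prod_append]

/-- given by a word with known letters -/
def Known (g : ↥(chevE6.group K)) : Prop := ∃ w, okW w = true ∧ Val hK g w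

theorem known_mul {g h : ↥(chevE6.group K)} : Known hK g → Known hK h → Known hK (g * h) := by
  rintro ⟨w, hw, hg⟩ ⟨w', hw', hh⟩
  refine ⟨w ++ w', ?_, val_mul hK hg hh⟩
  simp only [okW] at hw hw' ⊢
  rw [List.all_append, hw, hw', Bool.and_self]

theorem row_val {p : List (ℕ × ℕ) × List ℕ} (hp : p ∈ genRows) :
    Val hK ((p.1.map fun x => xe x.1 (cv (omK hK) x.2)).prod) p.2 := by
  rw [Val, ← wordMat_row hK hp, ChevalleyDatum.wordMat, Subgroup.val_list_prod, List.map_map,
    List.map_map]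
  induction p.1 with
  | nil => simp
  | cons a l ih =>
    simp only [List.map_cons, List.prod_cons, Units.val_mul, ih]
    rfl

theorem pair_known (rs : ℕ × ℕ) (hrs : rs ∈ [(56, 36), (15, 35), (42, 37), (29, 34)]) (t : K) :
    Known hK (xe rs.1 t * xe rs.2 (t ^ 2)) := by
  have := charTwo hK
  obtain ⟨c, hc, rfl⟩ := cv_surj hK t
  have h := List.all_eq_true.1 (List.all_eq_true.1 pair_rows rs hrs) c (by
    simp only [List.mem_cons, List.not_mem_nil, or_false]; omega)
  obtain ⟨p, hp, e⟩ := List.any_eq_true.1 h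
  simp only [Bool.and_eq_true, beq_iff_eq] at e
  refine ⟨p.2, e.2, ?_⟩
  have hv := row_val hK hp
  rw [e.1] at hv
  simp only [List.map_cons, List.map_nil, List.prod_cons, List.prod_nil, mul_one,
    (cv_cmul (omK_spec hK) hc hc).2, ← sq] at hv
  exact hv

theorem npair_known {a b : ℕ} (h : orthB chevE6 a b = true)
    (h1 : (a, b) ∈ [(56, 36), (15, 35), (42, 37), (29, 34)])
    (h2 : (chevE6.neg a, chevE6.neg b) ∈ [(56, 36), (15, 35), (42, 37), (29, 34)]) (t : K) :
    Known hK (nUG (QE K) a t * nUG (QE K) b (t ^ 2)) := by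
  have := charTwo hK
  rw [nUG_mul_pair (QE K) h, show -(t ^ 2)⁻¹ = (-t⁻¹) ^ 2 by
    rw [neg_sq, CharTwo.neg_eq, inv_pow]]
  exact known_mul hK (known_mul hK (pair_known hK _ h1 t) (pair_known hK _ h2 _))
    (pair_known hK _ h1 t)

theorem hpair_known {a b : ℕ} (h : orthB chevE6 a b = true)
    (h1 : (a, b) ∈ [(56, 36), (15, 35), (42, 37), (29, 34)])
    (h2 : (chevE6.neg a, chevE6.neg b) ∈ [(56, 36), (15, 35), (42, 37), (29, 34)]) (t : K) :
    Known hK (hUG (QE K) a t * hUG (QE K) b (t ^ 2)) := by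
  have hswap := (commute_nUG (QE K) h (-1 : K) (t ^ 2)).eq
  have h5 := npair_known hK h h1 h2 (-1)
  rw [show ((-1 : K)) ^ 2 = -1 by have := charTwo hK; rw [neg_sq, one_pow, CharTwo.neg_eq]] at h5
  rw [hUG_eq, hUG_eq, show nUG (QE K) a t * nUG (QE K) a (-1) *
      (nUG (QE K) b (t ^ 2) * nUG (QE K) b (-1))
    = nUG (QE K) a t * (nUG (QE K) a (-1) * nUG (QE K) b (t ^ 2)) * nUG (QE K) b (-1) by group,
    hswap, show nUG (QE K) a t * (nUG (QE K) b (t ^ 2) * nUG (QE K) a (-1)) * nUG (QE K) b (-1)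
    = (nUG (QE K) a t * nUG (QE K) b (t ^ 2)) * (nUG (QE K) a (-1) * nUG (QE K) b (-1)) by group]
  exact known_mul hK (npair_known hK h h1 h2 t) h5

theorem row_one (r k : ℕ) (hp : ([(r, 1)], [k]) ∈ genRows) :
    Val hK (xe r (1 : K)) [k] := by
  have := charTwo hK
  have h := row_val hK hp
  simpa [cv_one] using h

theorem row_pair (r s k : ℕ) (hp : ([(r, 1), (s, 1)], [k]) ∈ genRows) :
    Val hK (xe r (1 : K) * xe s (1 : K)) [k] := by
  have := charTwo hK
  have h := row_val hK hp
  simpa [cv_one] using h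

theorem neg_inv_one : -(1 : K)⁻¹ = 1 := by
  have := charTwo hK
  rw [inv_one, CharTwo.neg_eq]

/-- The monomial elements are the products of the fundamental representatives of the nodes. -/
theorem mon_val : ∀ j : Fin 4, Val hK
    (((H37.Fold.dataE6.word j.val).map fun i => nUG (QE K) (chevE6.simple i) 1).prod)
    (monW.getD j.val []) := by
  obtain ⟨n1, n2, n3, n4, n5, n6⟩ := E6.neg_ok
  obtain ⟨s0, s1, s2, s3, s4, s5⟩ := E6.simple_ok
  have hm := neg_inv_one hK
  intro j
  fin_cases j <;>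
    simp only [H37.Fold.Data.word, H37.Fold.dataE6, List.getD_cons_zero, List.getD_cons_succ,
      List.map_cons, List.map_nil, List.prod_cons, List.prod_nil, mul_one, monW, s0, s1, s2, s3, s4,
      s5]
  · rw [nUG_mul_pair (QE K) E6.orth_ok.1, n1, n2, hm]
    exact val_mul hK (val_mul hK (row_pair hK 56 36 4 (by decide)) (row_pair hK 15 35 6 (by decide)))
      (row_pair hK 56 36 4 (by decide))
  · rw [nUG_mul_pair (QE K) E6.orth_ok.2, n3, n4, hm]
    exact val_mul hK (val_mul hK (row_pair hK 42 37 8 (by decide)) (row_pair hK 29 34 10 (by decide)))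
      (row_pair hK 42 37 8 (by decide))
  · rw [nUG_eq, n5, hm]
    exact val_mul hK (val_mul hK (row_one hK 39 2 (by decide)) (row_one hK 32 3 (by decide)))
      (row_one hK 39 2 (by decide))
  · rw [nUG_eq, n6, hm]
    exact val_mul hK (val_mul hK (row_one hK 46 0 (by decide)) (row_one hK 25 1 (by decide)))
      (row_one hK 46 0 (by decide))

variable {φ : K →+* K} (hφ : ∀ t, φ t = t ^ 2) (hK' : Fintype.card K = 2 ^ 2)

/-- the split Tits system of the group -/
noncomputable def twA : Tits.Ambient ↥(twistedE6 K 2) CoxeterMatrix.F₄.Group :=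
  (E6.model hφ hK').tw

theorem eq_wg {x : ↥(twistedE6 K 2)} {w : List ℕ} (hw : ∀ k ∈ w, k < 244)
    (h : Val hK (H56.TwAut.lift (E6.model hφ hK') x) w) : x = wg hK w :=
  Subtype.ext (Units.ext (h.trans (wg_val hK hw).symm))

/-- The torus lies in the parabolic subgroup. -/
theorem H_le : (twA hφ hK').H ≤ Pp hK := by
  set Md := E6.model hφ hK'
  intro x hx
  obtain ⟨c, hc, e⟩ := E6.exists_fixed hφ hK' (h := H56.TwAut.lift Md x)
    ((H56.TwAut.mem_H Md).1 hx) (H74.RootExt.Tw.fixed_lift Md x)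
  obtain ⟨a5, a0, a4, a2, a1, a3⟩ := E6.hat_six (φ := φ) (q := 2) c
  obtain ⟨n1, n2, n3, n4, n5, n6⟩ := E6.neg_ok
  obtain ⟨s0, s1, s2, s3, s4, s5⟩ := E6.simple_ok
  have one_of : ∀ u : Kˣ, u ^ 2 = u → u = 1 := fun u hu => by
    rw [sq] at hu; exact mul_eq_left.1 hu
  have e5 : ((c (5 : Fin 6) : Kˣ) : K) = ((c (0 : Fin 6) : Kˣ) : K) ^ 2 := by
    rw [← Units.val_pow_eq_pow_val, ← a5, hc]
  have e4 : ((c (4 : Fin 6) : Kˣ) : K) = ((c (2 : Fin 6) : Kˣ) : K) ^ 2 := by
    rw [← Units.val_pow_eq_pow_val, ← a4, hc]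
  have e3 : c (3 : Fin 6) = 1 := one_of _ (by rw [← a3, hc])
  have e1 : c (1 : Fin 6) = 1 := one_of _ (by rw [← a1, hc])
  rw [E6.single_prod c, e1, e3, Pi.mulSingle_one, Pi.mulSingle_one, mul_one, mul_one, map_mul,
    map_mul, map_mul, tG_single, tG_single, tG_single, tG_single, e5, e4] at e
  have hk : Known hK (H56.TwAut.lift Md x) := by
    rw [← e]
    refine known_mul hK ?_ ?_
    · show Known hK (hUG (QE K) (chevE6.simple 0) _ * hUG (QE K) (chevE6.simple 5) _)
      rw [s0, s5]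
      exact hpair_known hK E6.orth_ok.1 (by decide) (by rw [n1, n2]; decide) _
    · show Known hK (hUG (QE K) (chevE6.simple 2) _ * hUG (QE K) (chevE6.simple 4) _)
      rw [s2, s4]
      exact hpair_known hK E6.orth_ok.2 (by decide) (by rw [n3, n4]; decide) _
  obtain ⟨w, hw, hv⟩ := hk
  rw [eq_wg hK hφ hK' (okW_lt hw) hv]
  exact okW_mem hK hw

/-- The monomial elements represent the nodes. -/
theorem mon_eq (j : Fin 4) : ∃ η ∈ (twA hφ hK').H,
    wg hK (monW.getD j.val []) = η * (twA hφ hK').n ((E6.fold φ).gens j) := by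
  set Md := E6.model hφ hK'
  obtain ⟨h, hh, e⟩ := rep_word (QE K) (H37.Fold.dataE6.word j.val) (E6.word_ok j)
  obtain ⟨k, hk, e'⟩ := H56.TwAut.lift_n Md ((E6.fold φ).gens j)
  set x := wg hK (monW.getD j.val []) with hx
  have hl : H56.TwAut.lift Md x =
      ((H37.Fold.dataE6.word j.val).map fun i => nUG (QE K) (chevE6.simple i) 1).prod :=
    Subtype.ext (Units.ext ((wg_val hK (mon_lt j.val j.isLt)).trans (mon_val hK j).symm))
  have hn : H56.TwAut.lift Md (Md.tw.n ((E6.fold φ).gens j)) =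
      k * (QE K).sys.rep (Weyl.wOf (QE K).X.M (H37.Fold.dataE6.word j.val)) := by
    rw [e', E6.ι_gen]
    rfl
  refine ⟨x * ((twA hφ hK').n ((E6.fold φ).gens j))⁻¹, (H56.TwAut.mem_H Md).2 ?_, by group⟩
  have hm : H56.TwAut.lift Md (x * ((twA hφ hK').n ((E6.fold φ).gens j))⁻¹) =
      H56.TwAut.lift Md x * (H56.TwAut.lift Md (Md.tw.n ((E6.fold φ).gens j)))⁻¹ := rfl
  rw [hm, hl, hn, e]
  show h * _ * (k * _)⁻¹ ∈ (QE K).sys.H
  rw [mul_inv_rev, ← mul_assoc, mul_inv_cancel_right]
  exact mul_mem hh (inv_mem hk)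

theorem monP_conj : ∀ (l : List ℕ), (∀ j ∈ l, j < 4) → ∀ η ∈ (twA hφ hK').H,
    (wg hK (monP l))⁻¹ * η * wg hK (monP l) ∈ (twA hφ hK').H
  | [], _, η, hη => by simpa [monP, wg] using hη
  | j :: l, hl, η, hη => by
    obtain ⟨k, hk, e⟩ := mon_eq hK hφ hK' ⟨j, hl j List.mem_cons_self⟩
    have h1 := (twA hφ hK').n_conj_H' ((E6.fold φ).gens ⟨j, hl j List.mem_cons_self⟩)
      (mul_mem (mul_mem (inv_mem hk) hη) hk)
    have h2 := monP_conj l (fun i hi => hl i (List.mem_cons_of_mem _ hi)) _ h1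
    rw [show monP (j :: l) = monW.getD j [] ++ monP l from rfl, wg_append, e]
    rw [mul_inv_rev, mul_inv_rev]
    simp only [mul_assoc] at h2 ⊢
    exact h2

/-- the translates of the parabolic subgroup by the representatives -/
def Cells : Set ↥(twistedE6 K 2) :=
  {g | ∃ k, k < 24 ∧ ∃ p ∈ Pp hK, g = wg hK (monP (repN.getD k [])) * p}

omit [Field K] [Fintype K] hK hφ hK' in
theorem rep_nodes {k : ℕ} (hk : k < 24) : ∀ j ∈ repN.getD k [], j < 4 := by
  intro j hj
  have := List.all_eq_true.1 rep_ok k (List.mem_range.2 hk)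
  simp only [Bool.and_eq_true, List.all_eq_true] at this
  exact bltT (this.1.1 j hj)

theorem cells_H {g : ↥(twistedE6 K 2)} (hg : g ∈ Cells hK) {η : ↥(twistedE6 K 2)}
    (hη : η ∈ (twA hφ hK').H) : η * g ∈ Cells hK := by
  obtain ⟨k, hk, p, hp, rfl⟩ := hg
  refine ⟨k, hk, _, mul_mem (H_le hK hφ hK' (monP_conj hK hφ hK' _ (rep_nodes hk) η hη)) hp, ?_⟩
  group

theorem cells_node (j : Fin 4) {g : ↥(twistedE6 K 2)} (hg : g ∈ Cells hK) :
    (twA hφ hK').n ((E6.fold φ).gens j) * g ∈ Cells hK := by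
  obtain ⟨k, hk, p, hp, rfl⟩ := hg
  obtain ⟨η, hη, e⟩ := mon_eq hK hφ hK' j
  have hn : (twA hφ hK').n ((E6.fold φ).gens j) = η⁻¹ * wg hK (monW.getD j.val []) := by
    rw [e]; group
  rw [hn, mul_assoc]
  refine cells_H hK hφ hK' ?_ (inv_mem hη)
  have hc := move_all j.isLt hk
  unfold moveChk at hc
  revert hc
  cases movT.find? (fun x => Nat.beq x.1 j.val && Nat.beq x.2.1 k) with
  | none => simp
  | some x =>
    intro hc
    simp only [Bool.and_eq_true] at hc
    obtain ⟨⟨h1, h2⟩, h3⟩ := hc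
    have hlt : ∀ l : List ℕ, (∀ i ∈ l, i < 4) → ∀ y ∈ monP l, y < 244 := fun l hl y hy => by
      obtain ⟨i, hi, hy'⟩ := List.mem_flatMap.1 hy
      exact mon_lt i (hl i hi) y hy'
    have e2 := wg_eq hK (w := monP (j.val :: repN.getD k []))
      (hlt _ fun i hi => (List.mem_cons.1 hi).elim (fun e => e ▸ j.isLt) (rep_nodes hk i))
      (fun y hy => (List.mem_append.1 hy).elim (hlt _ (rep_nodes (bltT h1)) y) (okW_lt h2 y)) h3
    refine ⟨x.2.2.1, bltT h1, wg hK x.2.2.2 * p, mul_mem (okW_mem hK h2) hp, ?_⟩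
    rw [← mul_assoc, ← mul_assoc, ← wg_append, ← wg_append]
    exact congrArg (· * p) e2

theorem cells_n (a : CoxeterMatrix.F₄.Group) {g : ↥(twistedE6 K 2)} (hg : g ∈ Cells hK) :
    (twA hφ hK').n a * g ∈ Cells hK := by
  set A := twA hφ hK'
  have ha : a ∈ Subgroup.closure (Set.range (E6.fold φ).gens) := by
    rw [(E6.fold φ).closure_gens]; trivial
  induction ha using Subgroup.closure_induction_left generalizing g with
  | one => rw [A.n_one, one_mul]; exact hg
  | mul_left x hx y _ ih =>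
    obtain ⟨j, rfl⟩ := hx
    obtain ⟨h, hh, e⟩ := A.n_mul ((E6.fold φ).gens j) y
    rw [show A.n ((E6.fold φ).gens j * y) = h⁻¹ * (A.n ((E6.fold φ).gens j) * A.n y)
      by rw [e]; group, mul_assoc, mul_assoc]
    exact cells_H hK hφ hK' (cells_node hK hφ hK' j (ih hg)) (inv_mem hh)
  | inv_mul_cancel x hx y _ ih =>
    obtain ⟨j, rfl⟩ := hx
    obtain ⟨h, hh, e⟩ := A.n_mul ((E6.fold φ).gens j) y
    rw [inv_eq_of_mul_eq_one_right ((E6.fold φ).sq_gens j),
      show A.n ((E6.fold φ).gens j * y) = h⁻¹ * (A.n ((E6.fold φ).gens j) * A.n y)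
        by rw [e]; group, mul_assoc, mul_assoc]
    exact cells_H hK hφ hK' (cells_node hK hφ hK' j (ih hg)) (inv_mem hh)

omit hφ hK'

/-- the element fixes the highest root vector -/
def Fix77 (g : ↥(twistedE6 K 2)) : Prop := ∀ a, g.1.val a (ii 77) = if a = ii 77 then 1 else 0

omit [Fintype K] hK in
theorem fix77_mul {g h : ↥(twistedE6 K 2)} (hg : Fix77 g) (hh : Fix77 h) :
    Fix77 (g * h) := fun a => by
  rw [mul_apply_sum, Finset.sum_eq_single (ii 77)]
  · rw [hh, if_pos rfl, mul_one, hg]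
  · intro c _ hc; rw [hh, if_neg hc, mul_zero]
  · exact fun h => absurd (Finset.mem_univ _) h

theorem fix77_of_mem {g : ↥(twistedE6 K 2)} (hg : g ∈ Pp hK) : Fix77 g :=
  (parInv_of_mem hK hg).2.1

theorem matOf_colP (a : chevE6.Idx) :
    matOf (omK hK) 1 colP a (0 : Fin 1) = if a = ii 77 then 1 else 0 := by
  simp only [matOf, Matrix.of_apply, pval, colP, Nat.zero_testBit, Nat.one_shiftLeft,
    Fin.val_zero, Nat.add_zero, Nat.one_mul]
  by_cases ha : a = ii 77
  · rw [if_pos ha, ha, ix_ii (show 77 < 78 by norm_num), Nat.testBit_two_pow_self]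
    simp [bitV]
  · rw [if_neg ha, Nat.testBit_two_pow_of_ne fun e => ha (by rw [e, ii_ix])]
    simp [bitV]

theorem rep_move {k : ℕ} (hk : k < 24) (hf : Fix77 (wg hK (monP (repN.getD k [])))) : k = 0 := by
  have := charTwo hK
  have h := List.all_eq_true.1 rep_ok k (List.mem_range.2 hk)
  simp only [Bool.and_eq_true, Bool.or_eq_true, List.all_eq_true] at h
  obtain ⟨⟨-, hlt⟩, h0 | h0⟩ := h
  · exact Nat.eq_of_beq_eq_true h0
  exfalso
  generalize monP (repN.getD k []) = w at hlt h0 hf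
  have hw : ∀ x ∈ w, x < 244 := fun x hx => bltT (hlt x hx)
  have h1 := congrFun (congrFun (matOf_run (omK_spec hK) (W := 1) (l := w.map elE)
    (fun es hes => by obtain ⟨x, hx, rfl⟩ := List.mem_map.1 hes; exact es_el (hw x hx)) colP)
    (ii 77)) (0 : Fin 1)
  rw [Matrix.mul_apply, Finset.sum_eq_single (ii 77)] at h1
  · have hv : ((w.map elE).map (elMat (omK hK))).prod = (wg hK w).1.val := by
      rw [wg_val hK hw, List.map_map]; rfl
    rw [hv, hf, if_pos rfl, matOf_colP, if_pos rfl, one_mul] at h1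
    simp only [matOf, Matrix.of_apply, pval_code, ix_ii (show 77 < 78 by norm_num), Fin.val_zero,
      Nat.add_zero, Nat.one_mul, Nat.eq_of_beq_eq_true h0, cv_zero] at h1
    exact zero_ne_one h1
  · intro c _ hc; rw [matOf_colP, if_neg hc, mul_zero]
  · exact fun h => absurd (Finset.mem_univ _) h

/-- An element that fixes the highest root vector lies in the parabolic subgroup. -/
theorem stab_eq (g : ↥(twistedE6 K 2))
    (hg : ∀ a, g.1.val a (ii 77) = if a = ii 77 then 1 else 0) : g ∈ Pp hK := by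
  have := charTwo hK
  have hK' : Fintype.card K = 2 ^ 2 := hK
  have hφ : ∀ t, frobenius K 2 t = t ^ 2 := frobenius_def 2
  set A := twA hφ hK'
  have hU : A.U ≤ Pp hK := U_le hK hφ hK'
  obtain ⟨u, hu, h, hh, a, v, hv, e⟩ := A.exists_eq g
  have h1 : (1 : ↥(twistedE6 K 2)) ∈ Cells hK :=
    ⟨0, by norm_num, 1, one_mem _, by rw [rep_zero]; simp [monP, wg]⟩
  obtain ⟨k, hk, p, hp, e'⟩ := cells_H hK hφ hK' (cells_n hK hφ hK' a h1) hh
  rw [mul_one] at e'
  have eu : g = u * wg hK (monP (repN.getD k [])) * (p * v) := by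
    rw [e, mul_assoc u h, e']; group
  have hv' : v ∈ Pp hK := hU (A.Uw_le a hv)
  have hr : Fix77 (wg hK (monP (repN.getD k []))) := by
    rw [show wg hK (monP (repN.getD k [])) = u⁻¹ * g * (p * v)⁻¹ by rw [eu]; group]
    exact fix77_mul (fix77_mul (fix77_of_mem hK (inv_mem (hU hu))) hg)
      (fix77_of_mem hK (inv_mem (mul_mem hp hv')))
  obtain rfl := rep_move hK hk hr
  rw [eu, rep_zero]
  exact mul_mem (mul_mem (hU hu) (one_mem _)) (mul_mem hp hv')

/-- The index of the parabolic subgroup is odd. -/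
theorem index_odd : ¬ 2 ∣ (Pp hK).index := by
  have := charTwo hK
  have hK' : Fintype.card K = 2 ^ 2 := hK
  have hφ : ∀ t, frobenius K 2 t = t ^ 2 := frobenius_def 2
  set Md := E6.model hφ hK'
  have hd : (Pp hK).index ∣ Md.tw.U.index := Subgroup.index_dvd_of_le (U_le hK hφ hK')
  have hU : Nat.card Md.tw.U = 2 ^ 36 := by
    rw [Md.tw_U, ← Md.card_inf_eq]
    exact E6.card_U hφ hK'
  have hm := Subgroup.card_mul_index Md.tw.U
  rw [hU] at hm
  have hG := E6.card_group hφ hK'
  rw [show Nat.card ↥(twistedE6 K 2) = Nat.card ↥Md.T from rfl, ← hm] at hG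
  intro h2
  obtain ⟨m, hm2⟩ := h2.trans hd
  rw [hm2] at hG
  norm_num at hG
  omega

end

end Cfsg.Agent.H56.EMult
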