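import Cfsg.Agent.H56.EMult.Par
import Cfsg.Agent.H56.EMult.Group
import Cfsg.Agent.H37.Twist.E6
import Cfsg.Agent.H74.RootExt.E6Killed

/-!
The tabled elements of the parabolic subgroup, and the fixed part of the positive unipotent
subgroup inside it.
-/

set_option autoImplicit false
set_option maxRecDepth 100000
set_option Elab.async false

namespace Cfsg.Agent.H56.EMult

open Cfsg.Lie
open Cfsg.Agent.H37 Cfsg.Agent.H37.RootSys Cfsg.Agent.H37.Twist
open Cfsg.Agent.H37.Twist.E6 (QE xe)

/-- membership in a list of numbers -/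
def memN (l : List ℕ) (k : ℕ) : Bool := l.any fun x => Nat.beq x k

theorem memN_mem {l : List ℕ} {k : ℕ} (h : memN l k = true) : k ∈ l := by
  obtain ⟨x, hx, e⟩ := List.any_eq_true.1 h
  rwa [← Nat.eq_of_beq_eq_true e]

/-- the check of the steps, the known indices first -/
noncomputable def stepsOK : List (ℕ × List ℕ) → List ℕ → Bool
  | [], _ => true
  | s :: l, acc => Nat.blt s.1 244 && s.2.all (fun x => Nat.blt x 244 && memN acc x) &&
      peq (runT 78 [elE s.1] idP) (runT 78 (s.2.map elE) idP) && stepsOK l (s.1 :: acc)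

theorem steps_ok : stepsOK pSteps pIds = true := by decide +kernel

/-- the indices known to lie in the parabolic subgroup -/
def okIds : List ℕ := pIds ++ pSteps.map Prod.fst

/-- a word with known letters -/
def okW (w : List ℕ) : Bool := w.all fun k => Nat.blt k 244 && memN okIds k

/-- the table of a root element, column by column -/
def rootSparse (r t : ℕ) : List (ℕ × ℕ × ℕ) :=
  (List.range 78).flatMap fun c => (colT r t c).map fun p => (p.1, c, p.2)

/-- the parameters along an orbit -/
def uPts (L : List ℕ) (t : ℕ) : List (ℕ × ℕ) := L.zip [t, cmulC t t]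

/-- the word of a fixed element of an orbit -/
def uWord (i t : ℕ) : List ℕ :=
  ((uRows.find? fun x => Nat.beq x.1 i && Nat.beq x.2.1 t).map fun x => x.2.2).getD []

/-- the check of the fixed element of an orbit -/
noncomputable def uChk (L : List ℕ) (i t : ℕ) : Bool :=
  (uPts L t).all (fun p => entOK p.1 p.2 (rootSparse p.1 p.2)) && okW (uWord i t) &&
    peq (runT 78 ((uPts L t).map fun p => rootSparse p.1 p.2) idP)
      (runT 78 ((uWord i t).map elE) idP)

/-- the check of an orbit with all its parameters -/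
noncomputable def orbitChk (L : List ℕ) (i : ℕ) : Bool :=
  match L with
  | [a] => (E6.tables.rh a == a) && decide (Sym.dataE6.sg a % 2 = 1) &&
      [0, 1].all fun t => uChk L i t
  | [a, b] => (E6.tables.rh a == b) && decide (Sym.dataE6.sg a % 2 = 1) &&
      [0, 1, 2, 3].all fun t => uChk L i t
  | _ => false

theorem orbit_okA : ((List.finRange 24).filter fun i => decide (i.val < 8)).all
    (fun i => orbitChk (H74.RootExt.E6.O i) i.val) = true := by decide +kernel

theorem orbit_okB : ((List.finRange 24).filter fun i => decide (8 ≤ i.val ∧ i.val < 16)).all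
    (fun i => orbitChk (H74.RootExt.E6.O i) i.val) = true := by decide +kernel

theorem orbit_okC : ((List.finRange 24).filter fun i => decide (16 ≤ i.val)).all
    (fun i => orbitChk (H74.RootExt.E6.O i) i.val) = true := by decide +kernel

theorem orbit_all (i : Fin 24) : orbitChk (H74.RootExt.E6.O i) i.val = true := by
  rcases Nat.lt_or_ge i.val 8 with h | h
  · exact List.all_eq_true.1 orbit_okA i (by simp [h])
  rcases Nat.lt_or_ge i.val 16 with h' | h'
  · exact List.all_eq_true.1 orbit_okB i (by simp [h, h'])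
  · exact List.all_eq_true.1 orbit_okC i (by simp [h'])

theorem intCast_odd {K : Type*} [Field K] [CharP K 2] {z : ℤ} (h : z % 2 = 1) : (z : K) = 1 := by
  rw [← Int.emod_add_mul_ediv z 2, h]
  push_cast
  rw [show (2 : K) = 0 from CharP.cast_eq_zero K 2]
  ring

section

variable {K : Type*} [Field K] [Fintype K] (hK : Fintype.card K = 4)

include hK

theorem wg_mem {w : List ℕ} (h : ∀ k ∈ w, eg hK k ∈ Pp hK) : wg hK w ∈ Pp hK :=
  list_prod_mem fun x hx => by
    obtain ⟨k, hk, rfl⟩ := List.mem_map.1 hx
    exact h k hk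

theorem steps_mem : ∀ (l : List (ℕ × List ℕ)) (acc : List ℕ), stepsOK l acc = true →
    (∀ k ∈ acc, eg hK k ∈ Pp hK) → ∀ s ∈ l, eg hK s.1 ∈ Pp hK
  | [], _, _, _, s, hs => absurd hs List.not_mem_nil
  | a :: l, acc, h, hacc, s, hs => by
    simp only [stepsOK, Bool.and_eq_true, List.all_eq_true] at h
    obtain ⟨⟨⟨h1, h2⟩, h3⟩, h4⟩ := h
    have ha : eg hK a.1 ∈ Pp hK := by
      have e := wg_eq hK (w := [a.1]) (w' := a.2) (fun k hk => by
        rw [List.mem_singleton] at hk; rw [hk]; exact bltT h1) (fun k hk => bltT (h2 k hk).1) h3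
      rw [show eg hK a.1 = wg hK [a.1] by simp [wg], e]
      exact wg_mem hK fun k hk => hacc k (memN_mem (h2 k hk).2)
    rcases List.mem_cons.1 hs with e | e
    · rw [e]; exact ha
    · refine steps_mem l _ h4 (fun k hk => ?_) s e
      rcases List.mem_cons.1 hk with e' | e'
      · rw [e']; exact ha
      · exact hacc k e'

/-- The steps stay in the parabolic subgroup. -/
theorem step_mem : ∀ s ∈ pSteps, eg hK s.1 ∈ Pp hK :=
  steps_mem hK pSteps pIds steps_ok fun _ hk => gen_mem hK hk

theorem okIds_mem {k : ℕ} (hk : k ∈ okIds) : eg hK k ∈ Pp hK := by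
  rcases List.mem_append.1 hk with h | h
  · exact gen_mem hK h
  · obtain ⟨s, hs, rfl⟩ := List.mem_map.1 h
    exact step_mem hK s hs

omit [Field K] [Fintype K] hK in
theorem okW_lt {w : List ℕ} (h : okW w = true) : ∀ k ∈ w, k < 244 := fun k hk => by
  have := List.all_eq_true.1 h k hk
  simp only [Bool.and_eq_true] at this
  exact bltT this.1

theorem okW_mem {w : List ℕ} (h : okW w = true) : wg hK w ∈ Pp hK :=
  wg_mem hK fun k hk => by
    have := List.all_eq_true.1 h k hk
    simp only [Bool.and_eq_true] at this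
    exact okIds_mem hK (memN_mem this.2)

/-- A root element with a checked table. -/
theorem xe_val {r t : ℕ} {es : List (ℕ × ℕ × ℕ)} (h : entOK r t es = true) :
    ((xe r (cv (omK hK) t) : ↥(chevE6.group K)) : GL chevE6.Idx K).val = elMat (omK hK) es := by
  have := charTwo hK
  obtain ⟨hr', ht, -, hent⟩ := entOK_spec h
  have hr : r < chevE6.nroots := hr'
  show chevE6.x K r (cv (omK hK) t) = _
  rw [ChevalleyDatum.x, dif_pos hr]
  funext a b
  rw [xMat_entC (omK_spec hK) ht]
  exact congrArg (cv (omK hK)) (hent (ix a) (ix b) (ix_lt b))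

omit [Field K] [Fintype K] hK in
theorem esOK_of_ent {r t : ℕ} {es : List (ℕ × ℕ × ℕ)} (h : entOK r t es = true) :
    esOK es = true := by
  simp only [entOK, Bool.and_eq_true] at h
  exact h.1.2

theorem xList_val (pts : List (ℕ × ℕ)) (h : ∀ p ∈ pts, entOK p.1 p.2 (rootSparse p.1 p.2) = true) :
    (((pts.map fun p => xe p.1 (cv (omK hK) p.2)).prod : ↥(chevE6.group K)) :
      GL chevE6.Idx K).val = ((pts.map fun p => rootSparse p.1 p.2).map (elMat (omK hK))).prod := by
  induction pts with
  | nil => simp
  | cons p l ih =>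
    simp only [List.map_cons, List.prod_cons, Subgroup.coe_mul, Units.val_mul]
    rw [ih fun q hq => h q (List.mem_cons_of_mem _ hq), xe_val hK (h p List.mem_cons_self)]

/-- An orbit element with parameters from the tables lies in the parabolic subgroup. -/
theorem mem_of_uChk {L : List ℕ} {i t : ℕ} (h : uChk L i t = true) (x : ↥(twistedE6 K 2))
    (e : (x : GL chevE6.Idx K) =
      (((uPts L t).map fun p => xe p.1 (cv (omK hK) p.2)).prod : ↥(chevE6.group K))) :
    x ∈ Pp hK := by
  have := charTwo hK
  simp only [uChk, Bool.and_eq_true, List.all_eq_true] at h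
  obtain ⟨⟨h1, h2⟩, h3⟩ := h
  have e1 := prod_eq_of_run (omK_spec hK) (l := (uPts L t).map fun p => rootSparse p.1 p.2)
    (l' := (uWord i t).map elE)
    (fun es hes => by
      obtain ⟨p, hp, rfl⟩ := List.mem_map.1 hes
      exact esOK_of_ent (h1 p hp))
    (fun es hes => by
      obtain ⟨k, hk, rfl⟩ := List.mem_map.1 hes
      exact es_el (okW_lt h2 k hk)) (peq_eq h3)
  have hx : x = wg hK (uWord i t) := by
    refine Subtype.ext (Units.ext ?_)
    rw [wg_val hK (okW_lt h2), e, xList_val hK _ h1, e1, List.map_map]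
    rfl
  rw [hx]
  exact okW_mem hK h2

variable {φ : K →+* K} (hφ : ∀ t, φ t = t ^ 2) (hK' : Fintype.card K = 2 ^ 2)

/-- The fixed unipotent subgroup lies in the parabolic subgroup. -/
theorem U_le : (E6.model hφ hK').tw.U ≤ Pp hK := by
  have hchar := charTwo hK
  set Md := E6.model hφ hK'
  rw [← H74.RootExt.Tw.iSup_Y Md (H74.RootExt.E6.orbits K)]
  refine iSup_le fun i x hx => ?_
  obtain ⟨t, ht⟩ := H74.RootExt.Tw.exists_coord Md (H74.RootExt.E6.orbits K) hx
  have hO := H74.RootExt.E6.orbits K
  have hfix : ∀ r ∈ H74.RootExt.E6.O i, Sym.dataE6.sg r % 2 = 1 →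
      t ((E6.endo φ).s.T.rh r) = t r ^ 2 := by
    intro r hr hs
    have h1 := ((E6.endo φ).xprod_fixed_iff (hO.sorted i) (hO.closed_O i) (hO.comm i)
      (hO.stable i) t).1 (by rw [← ht]; exact H74.RootExt.Tw.fixed_lift Md x) r hr
    rw [h1]
    show (E6.endo φ).f r (t r) = _
    rw [show (E6.endo φ).f r (t r) = (Sym.dataE6.sg r : K) * φ (t r) from graphEndo_f r (t r),
      intCast_odd hs, one_mul, hφ]
  have hchk := orbit_all i
  have key : ∀ c, uChk (H74.RootExt.E6.O i) i.val c = true →
      (∀ p ∈ uPts (H74.RootExt.E6.O i) c, t p.1 = cv (omK hK) p.2) →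
      (uPts (H74.RootExt.E6.O i) c).map Prod.fst = H74.RootExt.E6.O i → x ∈ Pp hK := by
    intro c hc hv hl
    refine mem_of_uChk hK hc x ?_
    show ((H56.TwAut.lift Md x : ↥(chevE6.group K)) : GL chevE6.Idx K) = _
    rw [ht, xprod]
    conv_lhs => rw [← hl, List.map_map]
    refine congrArg (fun l : List ↥(chevE6.group K) => (l.prod : GL chevE6.Idx K))
      (List.map_congr_left fun p hp => ?_)
    show xe p.1 (t p.1) = _
    rw [hv p hp]
  generalize H74.RootExt.E6.O i = L at hchk key hfix
  match L, hchk, key, hfix with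
  | [], h, _, _ => simp [orbitChk] at h
  | [a], h, key, hfix =>
    simp only [orbitChk, Bool.and_eq_true, beq_iff_eq, decide_eq_true_eq, List.all_eq_true] at h
    obtain ⟨⟨hrh, hsg⟩, hu⟩ := h
    have hfa := hfix a List.mem_cons_self hsg
    rw [show (E6.endo φ).s.T.rh a = a from hrh] at hfa
    have h01 : ∃ c ∈ [0, 1], t a = cv (omK hK) c := by
      rcases eq_or_ne (t a) 0 with h0 | h0
      · exact ⟨0, by simp, by rw [h0, cv_zero]⟩
      · exact ⟨1, by simp, by
          rw [cv_one]; exact mul_left_cancel₀ h0 (by rw [← sq, ← hfa, mul_one])⟩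
    obtain ⟨c, hc, e⟩ := h01
    exact key c (hu c hc) (fun p hp => by
      simp only [uPts, List.zip_cons_cons, List.zip_nil_left, List.mem_singleton] at hp
      rw [hp]; exact e) rfl
  | [a, b], h, key, hfix =>
    simp only [orbitChk, Bool.and_eq_true, beq_iff_eq, decide_eq_true_eq, List.all_eq_true] at h
    obtain ⟨⟨hrh, hsg⟩, hu⟩ := h
    have hfa := hfix a List.mem_cons_self hsg
    rw [show (E6.endo φ).s.T.rh a = b from hrh] at hfa
    obtain ⟨c, hc, e⟩ := cv_surj hK (t a)
    exact key c (hu c (by simp only [List.mem_cons, List.not_mem_nil, or_false]; omega))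
      (fun p hp => by
        simp only [uPts, List.zip_cons_cons, List.zip_nil_left, List.mem_cons, List.not_mem_nil,
          or_false] at hp
        rcases hp with hp | hp <;> rw [hp]
        · exact e.symm
        · show t b = _
          rw [hfa, ← e, (cv_cmul (omK_spec hK) hc hc).2, sq]) rfl
  | _ :: _ :: _ :: _, h, _, _ => simp [orbitChk] at h

end

end Cfsg.Agent.H56.EMult
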