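import Cfsg.Agent.H56.EMult.RadCheck
import Cfsg.Agent.H56.EMult.Lin
import Cfsg.Agent.H56.EMult.UpData
import Cfsg.Agent.H27.U6Mult.Data

/-!
The linear certificates for a cover over the parabolic subgroup checked by evaluation.
-/

set_option autoImplicit false
set_option maxRecDepth 100000
set_option Elab.async false

namespace Cfsg.Agent.H56.EMult

open Cfsg.Agent.H27.U6Mult (relList)

/-- a column of the action of a generator of the complement -/
def rC (j i : ℕ) : ℕ := (rTab.getD j []).getD i 0

/-- the mask of the commutator of two generators -/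
def pm (i k : ℕ) : ℕ :=
  bif Nat.beq i k then 0 else bif Nat.blt i k then 2 ^ (20 * i + k) else 2 ^ (20 * k + i)

/-- the mask of the commutator of two products -/
def pmask (a b : ℕ) : ℕ := xorF (fun i => xorF (pm i) b 20) a 20

/-- the pairs of generators -/
def qPairs : List (ℕ × ℕ) :=
  (List.range 20).flatMap fun i => (List.range (19 - i)).map fun k => (i, i + 1 + k)

/-- the equations of a functional -/
def iEq (j : ℕ) : List ℕ := (List.range 20).map fun i => 2 ^ i ^^^ rC j i

/-- the equations of a form -/
def fEq (j : ℕ) : List ℕ :=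
  qPairs.map fun p => pm p.1 p.2 ^^^ pmask (rC j p.1) (rC j p.2)

/-- a value of a crossed function under the first generators -/
def dm0 (j i : ℕ) : ℕ := 2 ^ (20 * j + i)

/-- a value of a crossed function as classes -/
def dm2 (j i : ℕ) : ℕ := (extT.getD j []).getD i 0

/-- the effect of a word of the complement on a mask and the value of a crossed function -/
def run (dm : ℕ → ℕ → ℕ) (w : List ℕ) (m : ℕ) : ℕ × ℕ :=
  w.foldr (fun j p => (rap20 (rTab.getD j []) p.1, p.2 ^^^ xorF (dm j) p.1 20)) (m, 0)

/-- the equations of a crossed function -/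
def dEq (w : List ℕ) : List ℕ := (List.range 20).map fun i => (run dm0 w (2 ^ i)).2

/-- the target of one value of a crossed function -/
def dTgt (j i : ℕ) : ℕ :=
  2 ^ (20 * j + i) ^^^ alTab.getD i 0 ^^^ xorF (fun k => alTab.getD k 0) (rC j i) 20 ^^^
    xorF (fun k => amTab.getD k 0) (dm2 j i) 2

/-- the words of the complement as elements -/
def sW (w : List ℕ) : List ℕ := w.map sId

/-- the check of the equations of a functional -/
def iChk : Bool :=
  Nat.beq iEqT.length 8 && (List.range 8).all (fun j => listEq (iEqT.getD j []) (iEq j)) &&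
    (List.range 20).all fun i => Nat.beq (xsel iEqT.flatten (invCert.getD i 0)) (2 ^ i)

/-- the check of the equations of one generator -/
def fEqChk (j : ℕ) : Bool := listEq (fEqT.getD j []) (fEq j)

/-- the check of one pair -/
def fPairChk (t : ℕ) : Bool :=
  Nat.beq (xsel fEqT.flatten (fCert.getD t 0))
    (pm (qPairs.getD t (0, 0)).1 (qPairs.getD t (0, 0)).2 ^^^
      bif (bTab.getD (qPairs.getD t (0, 0)).1 0).testBit (qPairs.getD t (0, 0)).2 then pm 0 19 else 0)

/-- the form is symmetric and the pairs exhaust it -/
def fSymChk : Bool :=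
  (bTab.getD 0 0).testBit 19 &&
    (List.range 20).all fun i => !(bTab.getD i 0).testBit i &&
      (List.range 20).all fun k => ((bTab.getD i 0).testBit k == (bTab.getD k 0).testBit i) &&
        (!Nat.blt i k || (qPairs.getD (qPairs.idxOf (i, k)) (0, 0) == (i, k) &&
          Nat.blt (qPairs.idxOf (i, k)) 190))

/-- the check of the equations of one relation -/
noncomputable def dEqChk (r : ℕ) : Bool :=
  (relList.getD r []).all (fun j => Nat.blt j 8) && wEq (sW (relList.getD r [])) [] &&
    (List.range 20).all (fun i => Nat.beq (run dm0 (relList.getD r []) (2 ^ i)).1 (2 ^ i)) &&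
    listEq (dEqT.getD r []) (dEq (relList.getD r []))

/-- the check of one value -/
def dTgtChk (j : ℕ) : Bool :=
  (List.range 20).all fun i => Nat.beq (xsel dEqT.flatten (dCert.getD (20 * j + i) 0)) (dTgt j i)

/-- the check of one element moved into the parabolic subgroup -/
noncomputable def movChk (nw : List ℕ) (X : List ℕ × ℕ × Bool × List ℕ) : Bool :=
  X.1.all (fun j => Nat.blt j 8) && X.2.2.2.all (fun j => Nat.blt j 8) &&
    Nat.blt X.2.1 (2 ^ 20) &&
    wEq (nw ++ sW X.1 ++ nw.reverse) (qW X.2.1 ++ zIf X.2.2.1 ++ sW X.2.2.2)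

/-- the check of one pair -/
noncomputable def witChk (k : ℕ) : Bool :=
  let W := upWit.getD k ([], ([], 0, false, []), ([], 0, false, []))
  wEq (W.1 ++ W.1.reverse) [] && movChk W.1 W.2.1 && movChk W.1 W.2.2 &&
    wEq (sW W.2.1.1 ++ sW W.2.2.1) (sW W.2.2.1 ++ sW W.2.1.1) &&
    wEq (sW W.2.1.2.2.2 ++ sW W.2.2.2.2.2) (sW W.2.2.2.2.2 ++ sW W.2.1.2.2.2) &&
    Nat.beq ((run dm2 W.2.1.2.2.2 W.2.2.2.1).2 ^^^ (run dm2 W.2.2.2.2.2 W.2.1.2.1).2) (2 ^ k)

theorem i_ok : iChk = true := by decide +kernel

theorem fEq_ok0 : (List.range 4).all fEqChk = true := by decide +kernel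

theorem fEq_ok1 : ((List.range 4).map (4 + ·)).all fEqChk = true := by decide +kernel

theorem fPair_ok0 : (List.range 95).all fPairChk = true := by decide +kernel

theorem fPair_ok1 : ((List.range 95).map (95 + ·)).all fPairChk = true := by decide +kernel

theorem fSym_ok : fSymChk = true := by decide +kernel

theorem dLen_ok : (Nat.beq dEqT.length relList.length && Nat.beq fEqT.length 8 &&
    Nat.beq relList.length 37) = true := by decide +kernel

theorem dEq_ok0 : (List.range 19).all dEqChk = true := by decide +kernel

theorem dEq_ok1 : ((List.range 18).map (19 + ·)).all dEqChk = true := by decide +kernel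

theorem dTgt_ok : (List.range 8).all dTgtChk = true := by decide +kernel

theorem wit_ok : (List.range 2).all witChk = true := by decide +kernel

end Cfsg.Agent.H56.EMult
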