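import Cfsg.Agent.H56.EMult.Faith
import Cfsg.Agent.H56.EMult.UpCheck

/-!
A cover in which the complement lifts: the parabolic subgroup lifts to a subgroup that meets the
kernel trivially.
-/

set_option autoImplicit false
set_option maxRecDepth 100000

namespace Cfsg.Agent.H56.EMult

open Cfsg.Lie
open Cfsg.Agent.H27.U6Mult (relList)
open scoped commutatorElement

section Helpers

variable {X : Type*} [Group X]

theorem comm_mul_left_of {a x y : X} (ha : Commute a y) : ⁅x * a, y⁆ = ⁅x, y⁆ := by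
  rw [commutatorElement_def, commutatorElement_def, mul_inv_rev, mul_assoc x a y, ha.eq]
  group

theorem comm_mul_right_of {a x y : X} (ha : Commute a x) : ⁅x, y * a⁆ = ⁅x, y⁆ := by
  rw [← commutatorElement_inv, comm_mul_left_of ha, commutatorElement_inv]

theorem comm_self_one {a : X} (ha : a * a = 1) : a⁻¹ = a := inv_eq_of_mul_eq_one_right ha

theorem commute_of_comm_one {x y : X} (h : ⁅x, y⁆ = 1) : Commute x y :=
  commutatorElement_eq_one_iff_commute.1 h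

theorem testBit_of_bvz {a b : ℕ} (h : bvz a = bvz b) {j : ℕ} (hj : j < 20) :
    a.testBit j = b.testBit j := by
  have := congrFun h ⟨j, hj⟩
  rw [bvz_apply, bvz_apply] at this
  revert this
  cases a.testBit j <;> cases b.testBit j <;> simp [bz]

theorem listEq_getD {T : List (List ℕ)} {n : ℕ} (hl : T.length = n) {g : ℕ → List ℕ}
    (h : ∀ j, j < n → T.getD j [] = g j) {e : ℕ} (he : e ∈ T.flatten) : ∃ j, j < n ∧ e ∈ g j := by
  obtain ⟨l, hlT, hel⟩ := List.mem_flatten.1 he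
  obtain ⟨j, hj, rfl⟩ := List.mem_iff_getElem.1 hlT
  refine ⟨j, hl ▸ hj, ?_⟩
  rw [← h j (hl ▸ hj), List.getD_eq_getElem _ _ hj]
  exact hel

end Helpers

section Upper

variable {K : Type*} [Field K] [Fintype K] (hK : Fintype.card K = 4)

theorem zg_ne_one : zg hK ≠ 1 := by
  have := charTwo hK
  intro e
  have hv := congrArg (fun g : ↥(twistedE6 K 2) => g.1.val (ii 0) (ii 6)) e
  have hval : (zg hK).1.val = elMat (omK hK) (elE zId) := eg_val hK (k := zId) (by decide)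
  have hent : entL (elE zId) 0 6 = 1 := by decide +kernel
  have hne : ii 0 ≠ ii 6 := fun h => by
    have := congrArg ix h
    rw [ix_ii (by norm_num), ix_ii (by norm_num)] at this
    exact absurd this (by norm_num)
  simp only [hval, elMat, Matrix.of_apply, ix_ii (show 0 < 78 by norm_num),
    ix_ii (show 6 < 78 by norm_num), hent, cv_one] at hv
  exact one_ne_zero (hv.trans (Matrix.one_apply_ne hne))

theorem bp_zg_eq {b b' : Bool} (h : bp (zg hK) b = bp (zg hK) b') : b = b' := by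
  cases b <;> cases b' <;> first | rfl | exact absurd h (zg_ne_one hK) | exact absurd h.symm (zg_ne_one hK)

theorem zg_comm {g : ↥(twistedE6 K 2)} (hg : g ∈ Pp hK) : Commute (zg hK) g := by
  refine Pp_induction hK (p := fun g => Commute (zg hK) g) (fun k hk => ?_) (Commute.one_right _)
    (fun a b ha hb => ha.mul_right hb) hg
  rcases id_facts.2.2.2 k hk with ⟨i, hi, rfl⟩ | rfl | ⟨j, hj, rfl⟩
  · exact (qsys hK).w_comm i hi
  · exact Commute.refl _
  · exact (s_sq hK hj).2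

theorem q_mem_Qr {i : ℕ} (hi : i < 20) : qg hK i ∈ Qr hK :=
  Subgroup.subset_closure (Set.mem_insert_of_mem _ ⟨i, hi, rfl⟩)

theorem z_mem_Qr : zg hK ∈ Qr hK := Subgroup.subset_closure (Set.mem_insert _ _)

theorem Qr_le_Pp : Qr hK ≤ Pp hK := by
  rw [Qr, Subgroup.closure_le]
  rintro x (rfl | ⟨i, hi, rfl⟩)
  exacts [z_mem hK, q_mem hK hi]

theorem bp_mem_Pp (b : Bool) : bp (zg hK) b ∈ Pp hK := by
  cases b
  exacts [one_mem _, z_mem hK]

theorem Qr_comm {x y : ↥(twistedE6 K 2)} (hx : x ∈ Qr hK) (hy : y ∈ Qr hK) :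
    ∃ b, ⁅x, y⁆ = bp (zg hK) b := by
  have hQ := qsys hK
  obtain ⟨m, -, c, rfl⟩ := hQ.exists_form hx
  obtain ⟨m', -, c', rfl⟩ := hQ.exists_form hy
  obtain ⟨b, e⟩ := hQ.mul_eq m m'
  obtain ⟨b', e'⟩ := hQ.mul_eq m' m
  have hz : ∀ (d : Bool) (n : ℕ), Commute (bp (zg hK) d) (qsel (qg hK) n 20) := fun d n =>
    hQ.bp_qsel d n
  have hzz : ∀ d d' : Bool, Commute (bp (zg hK) d) (bp (zg hK) d') := fun d d' => by
    show _ = _
    rw [hQ.bp_mul, hQ.bp_mul, Bool.xor_comm]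
  rw [comm_mul_left_of ((hz c m').mul_right (hzz c c')), comm_mul_right_of (hz c' m)]
  refine ⟨b ^^ b', ?_⟩
  rw [commutatorElement_def, mul_inv_eq_iff_eq_mul, mul_inv_eq_iff_eq_mul, e, mul_assoc (bp _ _),
    e', Nat.xor_comm m', ← mul_assoc, hQ.bp_qsel, mul_assoc, hQ.bp_mul, Bool.xor_assoc, Bool.xor_self,
    Bool.xor_false]

theorem Qr_sq {x : ↥(twistedE6 K 2)} (hx : x ∈ Qr hK) : ∃ b, x * x = bp (zg hK) b := by
  have hQ := qsys hK
  obtain ⟨m, -, c, rfl⟩ := hQ.exists_form hx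
  obtain ⟨b, e⟩ := hQ.mul_eq m m
  rw [Nat.xor_self, qsel_zero, one_mul] at e
  refine ⟨b, ?_⟩
  rw [mul_assoc, ← mul_assoc (bp _ _), hQ.bp_qsel, mul_assoc, hQ.bp_mul, Bool.xor_self]
  show qsel (qg hK) m 20 * (qsel (qg hK) m 20 * 1) = _
  rw [mul_one, e]

variable {Γ : Type*} [Group Γ]

/-- a cover with a lifted complement -/
structure Cov (σ : Γ →* ↥(twistedE6 K 2)) (D : Subgroup Γ) : Prop where
  surj : Function.Surjective σ
  cen : σ.ker ≤ Subgroup.center Γ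
  sq : ∀ a ∈ σ.ker, a * a = 1
  map_D : D.map σ = Lg hK
  inj_D : ∀ x ∈ D, σ x = 1 → x = 1

namespace Cov

variable {hK} {σ : Γ →* ↥(twistedE6 K 2)} {D : Subgroup Γ} (h : Cov hK σ D)

include h in
theorem ker_comm {a : Γ} (ha : a ∈ σ.ker) (x : Γ) : Commute a x :=
  (Subgroup.mem_center_iff.1 (h.cen ha) x).symm

include h in
theorem eq_mul {x y : Γ} (e : σ x = σ y) : ∃ a ∈ σ.ker, y = x * a :=
  ⟨x⁻¹ * y, by rw [MonoidHom.mem_ker, map_mul, map_inv, e, inv_mul_cancel],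
    (mul_inv_cancel_left x y).symm⟩

/-- a lift -/
noncomputable def lf (g : ↥(twistedE6 K 2)) : Γ := (h.surj g).choose

theorem σ_lf (g : ↥(twistedE6 K 2)) : σ (h.lf g) = g := (h.surj g).choose_spec

/-- the lifts of the generators of the radical -/
noncomputable def Qt (i : ℕ) : Γ := if i < 20 then h.lf (qg hK i) else 1

/-- the lift of the central generator -/
noncomputable def Zt : Γ := h.lf (zg hK)

theorem σ_Qt {i : ℕ} (hi : i < 20) : σ (h.Qt i) = qg hK i := by rw [Qt, if_pos hi, σ_lf]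

theorem σ_Zt : σ h.Zt = zg hK := h.σ_lf _

theorem σ_Qt_mem (i : ℕ) : σ (h.Qt i) ∈ Qr hK := by
  by_cases hi : i < 20
  · rw [h.σ_Qt hi]; exact q_mem_Qr hK hi
  · rw [Qt, if_neg hi, map_one]; exact one_mem _

include h in
theorem exists_lift_D {j : ℕ} (hj : j < 8) : ∃ x ∈ D, σ x = sg hK j := by
  have : sg hK j ∈ D.map σ := h.map_D ▸ Subgroup.subset_closure ⟨j, hj, rfl⟩
  exact Subgroup.mem_map.1 this

/-- the lifts of the generators of the complement -/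
noncomputable def St (j : ℕ) : Γ := if hj : j < 8 then (h.exists_lift_D hj).choose else 1

theorem St_mem (j : ℕ) : h.St j ∈ D := by
  unfold St
  split_ifs with hj
  · exact (h.exists_lift_D hj).choose_spec.1
  · exact one_mem _

theorem σ_St {j : ℕ} (hj : j < 8) : σ (h.St j) = sg hK j := by
  rw [St, dif_pos hj]; exact (h.exists_lift_D hj).choose_spec.2

include h in
theorem eq_of_σ {x y : Γ} (hx : x ∈ D) (hy : y ∈ D) (e : σ x = σ y) : x = y :=
  inv_mul_eq_one.1 (h.inj_D _ (mul_mem (inv_mem hx) hy)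
    (by rw [map_mul, map_inv, e, inv_mul_cancel]))

theorem St_sq {j : ℕ} (hj : j < 8) : h.St j * h.St j = 1 :=
  h.inj_D _ (mul_mem (h.St_mem j) (h.St_mem j))
    (by rw [map_mul, h.σ_St hj, (s_sq hK hj).1])

theorem St_inv {j : ℕ} (hj : j < 8) : (h.St j)⁻¹ = h.St j := comm_self_one (h.St_sq hj)

theorem σ_St_mem {j : ℕ} (hj : j < 8) : σ (h.St j) ∈ Pp hK := by
  rw [h.σ_St hj]; exact s_mem hK hj

/-- the lift of a word of the complement -/
noncomputable def pS (w : List ℕ) : Γ := (w.map h.St).prod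

theorem pS_mem : ∀ w : List ℕ, h.pS w ∈ D
  | [] => one_mem _
  | j :: w => by
    rw [pS, List.map_cons, List.prod_cons]
    exact mul_mem (h.St_mem j) (pS_mem w)

theorem pS_append (w w' : List ℕ) : h.pS (w ++ w') = h.pS w * h.pS w' := by simp [pS]

theorem σ_pS : ∀ {w : List ℕ}, (∀ j ∈ w, j < 8) → σ (h.pS w) = wg hK (sW w)
  | [], _ => map_one σ
  | j :: w, hw => by
    rw [pS, List.map_cons, List.prod_cons, map_mul, h.σ_St (hw j List.mem_cons_self), ← pS,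
      σ_pS fun k hk => hw k (List.mem_cons_of_mem _ hk)]
    simp [wg, sW, sg]

theorem σ_pS_mem {w : List ℕ} (hw : ∀ j ∈ w, j < 8) : σ (h.pS w) ∈ Pp hK := by
  induction w with
  | nil => rw [show h.pS [] = 1 from rfl, map_one]; exact one_mem _
  | cons j w ih =>
    rw [pS, List.map_cons, List.prod_cons, map_mul]
    exact mul_mem (h.σ_St_mem (hw j List.mem_cons_self)) (ih fun k hk => hw k (List.mem_cons_of_mem _ hk))

theorem pS_eq {w w' : List ℕ} (hw : ∀ j ∈ w, j < 8) (hw' : ∀ j ∈ w', j < 8)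
    (e : wEq (sW w) (sW w') = true) : h.pS w = h.pS w' :=
  h.eq_of_σ (h.pS_mem w) (h.pS_mem w') (by rw [h.σ_pS hw, h.σ_pS hw', wg_wEq hK e])

/-! ### the lift of the central generator is central over the parabolic subgroup -/

theorem cz_ker {x : Γ} (hx : σ x ∈ Pp hK) : ⁅h.Zt, x⁆ ∈ σ.ker := by
  rw [MonoidHom.mem_ker, map_commutatorElement, h.σ_Zt, commutatorElement_eq_one_iff_commute]
  exact zg_comm hK hx

theorem cz_mul {x y : Γ} (hy : σ y ∈ Pp hK) : ⁅h.Zt, x * y⁆ = ⁅h.Zt, x⁆ * ⁅h.Zt, y⁆ := by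
  have hc := (h.ker_comm (h.cz_ker hy) x).eq
  calc ⁅h.Zt, x * y⁆ = ⁅h.Zt, x⁆ * (x * ⁅h.Zt, y⁆ * x⁻¹) := by
        simp only [commutatorElement_def]; group
    _ = ⁅h.Zt, x⁆ * ⁅h.Zt, y⁆ := by rw [← hc, mul_inv_cancel_right]

theorem cz_Lg {x : Γ} (hx : σ x ∈ Lg hK) : Commute h.Zt x := by
  let W : Subgroup ↥(twistedE6 K 2) := (Subgroup.centralizer {h.Zt}).map σ
  have hle : Lg hK ≤ W := by
    rw [← lg_perfect hK, Subgroup.commutator_le]
    intro a ha b hb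
    refine Subgroup.mem_map.2 ⟨⁅h.lf a, h.lf b⁆, ?_, by rw [map_commutatorElement, σ_lf, σ_lf]⟩
    refine Subgroup.mem_centralizer_singleton_iff.2 ?_
    have key : ∀ g, g ∈ Lg hK → ∃ c ∈ σ.ker, h.Zt * h.lf g * h.Zt⁻¹ = c * h.lf g := by
      intro g hg
      refine ⟨⁅h.Zt, h.lf g⁆, h.cz_ker (by rw [σ_lf]; exact Lg_le hK hg), ?_⟩
      rw [commutatorElement_def, inv_mul_cancel_right]
    obtain ⟨c, hc, ec⟩ := key a ha
    obtain ⟨d, hd, ed⟩ := key b hb
    have e : h.Zt * ⁅h.lf a, h.lf b⁆ * h.Zt⁻¹ = ⁅h.lf a, h.lf b⁆ := by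
      rw [conjugate_commutatorElement, ec, ed, (h.ker_comm hc _).eq, (h.ker_comm hd _).eq,
        comm_mul_left_of (h.ker_comm hc _), comm_mul_right_of (h.ker_comm hd _)]
    exact (mul_inv_eq_iff_eq_mul.1 e).symm
  obtain ⟨y, hy, e⟩ := Subgroup.mem_map.1 (hle hx)
  obtain ⟨a, ha, rfl⟩ := h.eq_mul e
  exact Commute.mul_right (Subgroup.mem_centralizer_singleton_iff.1 hy).symm (h.ker_comm ha _).symm

theorem cz_St {j : ℕ} (hj : j < 8) : Commute h.Zt (h.St j) :=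
  h.cz_Lg (by rw [h.σ_St hj]; exact Subgroup.subset_closure ⟨j, hj, rfl⟩)

include h in
theorem inv_zero {v : ℕ → Γ} (hc : ∀ i k, Commute (v i) (v k)) (hv : ∀ i, v i * v i = 1)
    (heq : ∀ j, j < 8 → ∀ i, i < 20 → v i = qsel v (rC j i) 20) {i : ℕ} (hi : i < 20) : v i = 1 := by
  have hok := i_ok
  simp only [iChk, Bool.and_eq_true, Nat.beq_eq, List.all_eq_true, List.mem_range] at hok
  obtain ⟨⟨hl, heqs⟩, hcert⟩ := hok
  have hall : ∀ e ∈ iEqT.flatten, qsel v e 20 = 1 := by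
    intro e he
    obtain ⟨j, hj, hej⟩ := listEq_getD hl (g := iEq) (fun j hj => listEq_eq (heqs j hj)) he
    obtain ⟨i, hi, rfl⟩ := List.mem_map.1 hej
    rw [List.mem_range] at hi
    rw [qsel_xor hc hv, qsel_one_hot, if_pos hi, ← heq j hj i hi, hv]
  have e := qsel_xsel hc hv 20 _ (invCert.getD i 0) hall
  rwa [hcert i hi, qsel_one_hot, if_pos hi] at e

theorem conj_Qt_zt {j : ℕ} (hj : j < 8) {i : ℕ} (hi : i < 20) : ∃ c, ∃ a ∈ σ.ker,
    h.St j * h.Qt i * (h.St j)⁻¹ = qsel h.Qt (rC j i) 20 * bp h.Zt c * a := by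
  refine ⟨Nat.beq ((cjTab.getD j []).getD i 0) 1, ?_⟩
  apply h.eq_mul
  rw [map_mul, map_mul, map_mul, map_inv, h.σ_St hj, h.σ_Qt hi, map_qsel, map_bp, h.σ_Zt,
    comm_self_one (s_sq hK hj).1, s_conj hK hj hi]
  exact congrArg (· * _) (qsel_congr_fun _ _ fun k hk => h.σ_Qt hk)

theorem σ_qsel_Qt (m : ℕ) : σ (qsel h.Qt m 20) = qsel (qg hK) m 20 := by
  rw [map_qsel]
  exact qsel_congr_fun _ _ fun k hk => h.σ_Qt hk

theorem σ_qsel_Qt_mem (m n : ℕ) : σ (qsel h.Qt m n) ∈ Qr hK :=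
  Subgroup.mem_comap.1 (qsel_closed ((Qr hK).comap σ) m n fun i _ => h.σ_Qt_mem i)

theorem cz_Qt (i : ℕ) : ⁅h.Zt, h.Qt i⁆ = 1 := by
  by_cases hi : i < 20
  swap
  · rw [Qt, if_neg hi, commutatorElement_one_right]
  set v : ℕ → Γ := fun i => ⁅h.Zt, h.Qt i⁆ with hvdef
  have hk : ∀ i, v i ∈ σ.ker := fun i => h.cz_ker (Qr_le_Pp hK (h.σ_Qt_mem i))
  have hsel : ∀ m n, ⁅h.Zt, qsel h.Qt m n⁆ = qsel v m n := by
    intro m n
    induction n with
    | zero => exact commutatorElement_one_right _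
    | succ n ih =>
      rw [qsel, qsel, h.cz_mul (by
        cases m.testBit n
        · exact (map_one σ).symm ▸ one_mem _
        · exact Qr_le_Pp hK (h.σ_Qt_mem n)), ih]
      cases m.testBit n
      · exact congrArg _ (commutatorElement_one_right _)
      · rfl
  refine h.inv_zero (v := v) (fun i k => h.ker_comm (hk i) _) (fun i => h.sq _ (hk i))
    (fun j hj i hi => ?_) hi
  obtain ⟨c, a, ha, e⟩ := h.conj_Qt_zt hj hi
  have hcomm := (h.cz_St hj).eq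
  have e1 : h.St j * v i * (h.St j)⁻¹ = v i := by
    rw [← (h.ker_comm (hk i) _).eq, mul_inv_cancel_right]
  have e2 : h.St j * h.Zt * (h.St j)⁻¹ = h.Zt := by rw [← hcomm, mul_inv_cancel_right]
  rw [← e1]
  show h.St j * ⁅h.Zt, h.Qt i⁆ * (h.St j)⁻¹ = _
  rw [conjugate_commutatorElement, e2, e, comm_mul_right_of (h.ker_comm ha _), comm_mul_right_of, hsel]
  cases c
  · exact Commute.one_left _
  · exact Commute.refl _

theorem z_comm {x : Γ} (hx : σ x ∈ Pp hK) : Commute h.Zt x := by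
  refine Pp_induction hK (p := fun g => ∀ x, σ x = g → Commute h.Zt x) (fun k hk => ?_) ?_ ?_ hx x rfl
  · intro x hx
    have base : ∀ y, σ y = eg hK k → Commute h.Zt y → Commute h.Zt x := by
      intro y hy hc
      obtain ⟨a, ha, rfl⟩ := h.eq_mul (hy.trans hx.symm)
      exact hc.mul_right (h.ker_comm ha _).symm
    rcases id_facts.2.2.2 k hk with ⟨i, hi, rfl⟩ | rfl | ⟨j, hj, rfl⟩
    · exact base _ (h.σ_Qt hi) (commute_of_comm_one (h.cz_Qt i))
    · exact base _ h.σ_Zt (Commute.refl _)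
    · exact base _ (h.σ_St hj) (h.cz_St hj)
  · exact fun x hx => (h.ker_comm (MonoidHom.mem_ker.2 hx) _).symm
  · intro a b ha hb x hx
    obtain ⟨c, hc, rfl⟩ := h.eq_mul (x := h.lf a * h.lf b) (y := x)
      (by rw [map_mul, σ_lf, σ_lf, hx])
    exact ((ha _ (h.σ_lf a)).mul_right (hb _ (h.σ_lf b))).mul_right (h.ker_comm hc _).symm

/-- an element over the centre of the radical -/
def InZ (x : Γ) : Prop := ∃ b, ∃ a ∈ σ.ker, x = bp h.Zt b * a

theorem InZ_comm {x y : Γ} (hx : h.InZ x) (hy : σ y ∈ Pp hK) : Commute x y := by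
  obtain ⟨b, a, ha, rfl⟩ := hx
  refine Commute.mul_left ?_ (h.ker_comm ha y)
  cases b
  exacts [Commute.one_left _, h.z_comm hy]

theorem InZ_of {x : Γ} {b : Bool} (e : σ x = bp (zg hK) b) : h.InZ x :=
  ⟨b, h.eq_mul (by rw [map_bp, h.σ_Zt, e])⟩

theorem InZ_σ {x : Γ} (hx : h.InZ x) : σ x ∈ Pp hK := by
  obtain ⟨b, a, ha, rfl⟩ := hx
  rw [map_mul, MonoidHom.mem_ker.1 ha, mul_one, map_bp, h.σ_Zt]
  exact bp_mem_Pp hK b

/-! ### the commutator form of the lifts -/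

theorem comm_InZ {x y : Γ} (hx : σ x ∈ Qr hK) (hy : σ y ∈ Qr hK) : h.InZ ⁅x, y⁆ := by
  obtain ⟨b, e⟩ := Qr_comm hK hx hy
  exact h.InZ_of (b := b) (by rw [map_commutatorElement, e])

include h in
theorem comm_mul_l {x y z : Γ} (hx : σ x ∈ Qr hK) (hy : σ y ∈ Qr hK) (hz : σ z ∈ Qr hK) :
    ⁅x * y, z⁆ = ⁅x, z⁆ * ⁅y, z⁆ := by
  have hc := (h.InZ_comm (h.comm_InZ hy hz) (Qr_le_Pp hK hx)).eq
  have hc' := (h.InZ_comm (h.comm_InZ hy hz) (h.InZ_σ (h.comm_InZ hx hz))).eq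
  calc ⁅x * y, z⁆ = x * ⁅y, z⁆ * x⁻¹ * ⁅x, z⁆ := by simp only [commutatorElement_def]; group
    _ = ⁅y, z⁆ * ⁅x, z⁆ := by rw [← hc, mul_inv_cancel_right]
    _ = _ := hc'

include h in
theorem comm_mul_r {x y z : Γ} (hx : σ x ∈ Qr hK) (hy : σ y ∈ Qr hK) (hz : σ z ∈ Qr hK) :
    ⁅x, y * z⁆ = ⁅x, y⁆ * ⁅x, z⁆ := by
  have hc := (h.InZ_comm (h.comm_InZ hx hz) (Qr_le_Pp hK hy)).eq
  calc ⁅x, y * z⁆ = ⁅x, y⁆ * (y * ⁅x, z⁆ * y⁻¹) := by simp only [commutatorElement_def]; group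
    _ = _ := by rw [← hc, mul_inv_cancel_right]

include h in
theorem comm_sq {x y : Γ} (hx : σ x ∈ Qr hK) (hy : σ y ∈ Qr hK) : ⁅x, y⁆ * ⁅x, y⁆ = 1 := by
  rw [← h.comm_mul_l hx hx hy, commutatorElement_eq_one_iff_commute]
  obtain ⟨b, e⟩ := Qr_sq hK hx
  exact h.InZ_comm (h.InZ_of (x := x * x) (b := b) (by rw [map_mul, e])) (Qr_le_Pp hK hy)

include h in
theorem comm_symm {x y : Γ} (hx : σ x ∈ Qr hK) (hy : σ y ∈ Qr hK) : ⁅y, x⁆ = ⁅x, y⁆ := by
  rw [← commutatorElement_inv, comm_self_one (h.comm_sq hx hy)]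

/-- the commutators of the lifts of the generators -/
noncomputable def fv (k : ℕ) : Γ := ⁅h.Qt (k / 20), h.Qt (k % 20)⁆

theorem fv_comm (i k : ℕ) : Commute (h.fv i) (h.fv k) :=
  h.InZ_comm (h.comm_InZ (h.σ_Qt_mem _) (h.σ_Qt_mem _))
    (h.InZ_σ (h.comm_InZ (h.σ_Qt_mem _) (h.σ_Qt_mem _)))

theorem fv_sq (i : ℕ) : h.fv i * h.fv i = 1 := h.comm_sq (h.σ_Qt_mem _) (h.σ_Qt_mem _)

theorem fv_val {i k : ℕ} (hk : k < 20) : h.fv (20 * i + k) = ⁅h.Qt i, h.Qt k⁆ := by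
  rw [fv, Nat.mul_add_div (by norm_num), Nat.div_eq_of_lt hk, Nat.add_zero, Nat.mul_add_mod,
    Nat.mod_eq_of_lt hk]

theorem u_mask {i k : ℕ} (hi : i < 20) (hk : k < 20) :
    qsel h.fv (pm i k) 400 = ⁅h.Qt i, h.Qt k⁆ := by
  unfold pm
  rcases lt_trichotomy i k with hlt | rfl | hgt
  · rw [Bool.eq_false_iff.2 fun e => hlt.ne (Nat.eq_of_beq_eq_true e),
      show Nat.blt i k = true from Nat.ble_eq_true_of_le hlt]
    show qsel h.fv (2 ^ (20 * i + k)) 400 = _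
    rw [qsel_one_hot, if_pos (by omega), h.fv_val hk]
  · rw [Nat.beq_refl, commutatorElement_self]
    exact qsel_zero _ _
  · rw [Bool.eq_false_iff.2 fun e => hgt.ne' (Nat.eq_of_beq_eq_true e),
      Bool.eq_false_iff.2 fun e => absurd (bltT e) (by omega)]
    show qsel h.fv (2 ^ (20 * k + i)) 400 = _
    rw [qsel_one_hot, if_pos (by omega), h.fv_val hi, h.comm_symm (h.σ_Qt_mem i) (h.σ_Qt_mem k)]

theorem comm_qsel_r {x : Γ} (hx : σ x ∈ Qr hK) (m : ℕ) :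
    ∀ n, ⁅x, qsel h.Qt m n⁆ = qsel (fun k => ⁅x, h.Qt k⁆) m n
  | 0 => commutatorElement_one_right x
  | n + 1 => by
    rw [qsel, qsel, h.comm_mul_r hx (h.σ_qsel_Qt_mem m n) (by
      cases m.testBit n
      · exact (map_one σ).symm ▸ one_mem _
      · exact h.σ_Qt_mem n), comm_qsel_r hx m n]
    cases m.testBit n
    · exact congrArg _ (commutatorElement_one_right _)
    · rfl

theorem comm_qsel_l {y : Γ} (hy : σ y ∈ Qr hK) (m : ℕ) :
    ∀ n, ⁅qsel h.Qt m n, y⁆ = qsel (fun k => ⁅h.Qt k, y⁆) m n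
  | 0 => commutatorElement_one_left y
  | n + 1 => by
    rw [qsel, qsel, h.comm_mul_l (h.σ_qsel_Qt_mem m n) (by
      cases m.testBit n
      · exact (map_one σ).symm ▸ one_mem _
      · exact h.σ_Qt_mem n) hy, comm_qsel_l hy m n]
    cases m.testBit n
    · exact congrArg _ (commutatorElement_one_left _)
    · rfl

theorem comm_pmask (a b : ℕ) :
    ⁅qsel h.Qt a 20, qsel h.Qt b 20⁆ = qsel h.fv (pmask a b) 400 := by
  rw [h.comm_qsel_l (h.σ_qsel_Qt_mem b 20), pmask, ← qsel_comp h.fv_comm h.fv_sq]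
  refine qsel_congr_fun _ _ fun i hi => ?_
  rw [h.comm_qsel_r (h.σ_Qt_mem i), ← qsel_comp h.fv_comm h.fv_sq]
  exact qsel_congr_fun _ _ fun k hk => (h.u_mask hi hk).symm

theorem u_inv {j : ℕ} (hj : j < 8) {i k : ℕ} (hi : i < 20) (hk : k < 20) :
    qsel h.fv (pm i k ^^^ pmask (rC j i) (rC j k)) 400 = 1 := by
  rw [qsel_xor h.fv_comm h.fv_sq, h.u_mask hi hk, ← h.comm_pmask]
  obtain ⟨c, a, ha, e⟩ := h.conj_Qt_zt hj hi
  obtain ⟨d, b, hb, e'⟩ := h.conj_Qt_zt hj hk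
  have hu := (h.InZ_comm (h.comm_InZ (h.σ_Qt_mem i) (h.σ_Qt_mem k)) (h.σ_St_mem hj)).eq
  have hz : ∀ (c : Bool) (x : Γ), σ x ∈ Pp hK → Commute (bp h.Zt c) x := fun c x hx => by
    cases c
    exacts [Commute.one_left _, h.z_comm hx]
  have hzσ : ∀ c : Bool, σ (bp h.Zt c) ∈ Pp hK := fun c => by
    rw [map_bp, h.σ_Zt]; exact bp_mem_Pp hK c
  have e1 : h.St j * ⁅h.Qt i, h.Qt k⁆ * (h.St j)⁻¹ = ⁅h.Qt i, h.Qt k⁆ := by
    rw [← hu, mul_inv_cancel_right]
  have e2 : ⁅h.Qt i, h.Qt k⁆ = ⁅qsel h.Qt (rC j i) 20, qsel h.Qt (rC j k) 20⁆ := by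
    conv_lhs => rw [← e1, conjugate_commutatorElement, e, e', comm_mul_left_of (h.ker_comm ha _),
      comm_mul_right_of (h.ker_comm hb _)]
    have hp : σ (qsel h.Qt (rC j k) 20 * bp h.Zt d) ∈ Pp hK := by
      rw [map_mul]
      exact mul_mem (Qr_le_Pp hK (h.σ_qsel_Qt_mem _ 20)) (hzσ d)
    rw [comm_mul_left_of (hz c _ hp), comm_mul_right_of (hz d _ (Qr_le_Pp hK (h.σ_qsel_Qt_mem _ 20)))]
  rw [e2]
  exact h.comm_sq (h.σ_qsel_Qt_mem _ 20) (h.σ_qsel_Qt_mem _ 20)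

/-- the central involution of the lifted radical -/
noncomputable def F0 : Γ := ⁅h.Qt 0, h.Qt 19⁆

theorem F0_InZ : h.InZ h.F0 := h.comm_InZ (h.σ_Qt_mem 0) (h.σ_Qt_mem 19)

theorem F0_sq : h.F0 * h.F0 = 1 := h.comm_sq (h.σ_Qt_mem 0) (h.σ_Qt_mem 19)

theorem u_eq {i k : ℕ} (hi : i < 20) (hk : k < 20) :
    ⁅h.Qt i, h.Qt k⁆ = bp h.F0 ((bTab.getD i 0).testBit k) := by
  have hs := fSym_ok
  simp only [fSymChk, Bool.and_eq_true, List.all_eq_true, List.mem_range] at hs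
  obtain ⟨-, hs⟩ := hs
  obtain ⟨hdiag, hsym⟩ := hs i hi
  wlog hik : i ≤ k generalizing i k
  · rw [h.comm_symm (h.σ_Qt_mem k) (h.σ_Qt_mem i), this hk hi (hs k hk).1 (hs k hk).2 (by omega)]
    exact congrArg _ (eq_of_beq ((hsym k hk).1)).symm
  rcases Nat.eq_or_lt_of_le hik with rfl | hlt
  · rw [commutatorElement_self, show (bTab.getD i 0).testBit i = false by simpa using hdiag]
    rfl
  have hp := (hsym k hk).2
  rw [show Nat.blt i k = true from Nat.ble_eq_true_of_le hlt] at hp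
  simp only [Bool.not_true, Bool.false_or, Bool.and_eq_true] at hp
  set t := qPairs.idxOf (i, k)
  have hget : qPairs.getD t (0, 0) = (i, k) := eq_of_beq hp.1
  have ht := bltT hp.2
  have hchk : fPairChk t = true := by
    rcases Nat.lt_or_ge t 95 with h1 | h1
    · exact List.all_eq_true.1 fPair_ok0 t (List.mem_range.2 h1)
    · exact List.all_eq_true.1 fPair_ok1 t
        (List.mem_map.2 ⟨t - 95, List.mem_range.2 (by omega), by omega⟩)
  have hlen := dLen_ok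
  simp only [Bool.and_eq_true, Nat.beq_eq] at hlen
  have hall : ∀ e ∈ fEqT.flatten, qsel h.fv e 400 = 1 := by
    intro e he
    obtain ⟨j, hj, hej⟩ := listEq_getD hlen.1.2 (g := fEq) (fun j hj => listEq_eq (by
      rcases Nat.lt_or_ge j 4 with h1 | h1
      · exact List.all_eq_true.1 fEq_ok0 j (List.mem_range.2 h1)
      · exact List.all_eq_true.1 fEq_ok1 j
          (List.mem_map.2 ⟨j - 4, List.mem_range.2 (by omega), by omega⟩))) he
    obtain ⟨⟨a, b⟩, hab, rfl⟩ := List.mem_map.1 hej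
    have hlt : ∀ p ∈ qPairs, p.1 < 20 ∧ p.2 < 20 := by decide +kernel
    exact h.u_inv hj (hlt _ hab).1 (hlt _ hab).2
  have e := qsel_xsel h.fv_comm h.fv_sq 400 _ (fCert.getD t 0) hall
  simp only [fPairChk, hget, Nat.beq_eq] at hchk
  rw [hchk, qsel_xor h.fv_comm h.fv_sq, h.u_mask hi hk] at e
  have e' := eq_inv_of_mul_eq_one_left e
  rw [comm_self_one (qsel_sq h.fv_comm h.fv_sq _ _)] at e'
  rw [e']
  cases (bTab.getD i 0).testBit k <;> simp only [cond_true, cond_false, bp]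
  · exact qsel_zero _ _
  · exact h.u_mask (show 0 < 20 by norm_num) (show 19 < 20 by norm_num)

theorem σ_F0 : σ h.F0 = zg hK := by
  have hb : (bTab.getD 0 0).testBit 19 = true := by decide +kernel
  have e := (qsys hK).f_comm 0 (by norm_num) 19 (by norm_num)
  rw [hb] at e
  rw [F0, map_commutatorElement, h.σ_Qt (by norm_num), h.σ_Qt (by norm_num), commutatorElement_def,
    mul_inv_eq_iff_eq_mul, mul_inv_eq_iff_eq_mul, mul_assoc (zg hK)]
  show _ = zg hK * (qg hK 19 * qg hK 0)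
  rw [e]
  exact ((zg_comm hK (mul_mem (q_mem hK (by norm_num)) (q_mem hK (by norm_num)))).eq).symm

theorem σ_bpF (b : Bool) : σ (bp h.F0 b) = bp (zg hK) b := by rw [map_bp, h.σ_F0]

theorem F_comm (b : Bool) {x : Γ} (hx : σ x ∈ Pp hK) : Commute (bp h.F0 b) x := by
  cases b
  exacts [Commute.one_left _, h.InZ_comm h.F0_InZ hx]

theorem sq_qsel (m : ℕ) : ∀ n, n ≤ 20 → ∃ b, qsel h.Qt m n * qsel h.Qt m n =
    qsel (fun i => h.Qt i * h.Qt i) m n * bp h.F0 b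
  | 0, _ => ⟨false, by simp [qsel, bp]⟩
  | n + 1, hn => by
    obtain ⟨b, e⟩ := sq_qsel m n (by omega)
    rw [qsel, qsel]
    cases m.testBit n
    · exact ⟨b, by simpa [bp] using e⟩
    · show ∃ b, qsel h.Qt m n * h.Qt n * (qsel h.Qt m n * h.Qt n) =
        qsel (fun i => h.Qt i * h.Qt i) m n * (h.Qt n * h.Qt n) * bp h.F0 b
      have hsq2 : ∀ c d : Bool, bp h.F0 c * bp h.F0 d = bp h.F0 (c ^^ d) := fun c d => by
        cases c <;> cases d <;> simp [bp, h.F0_sq]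
      have hF : ∀ k, k ≤ 20 → ∃ c, ⁅h.Qt n, qsel h.Qt m k⁆ = bp h.F0 c := by
        intro k hk
        rw [h.comm_qsel_r (h.σ_Qt_mem n)]
        induction k with
        | zero => exact ⟨false, rfl⟩
        | succ k ih =>
          obtain ⟨c, hc⟩ := ih (by omega)
          rw [qsel, hc, h.u_eq (show n < 20 by omega) (show k < 20 by omega)]
          cases m.testBit k
          · exact ⟨c, mul_one _⟩
          · exact ⟨_, hsq2 _ _⟩
      obtain ⟨c, hc⟩ := hF n (by omega)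
      refine ⟨b ^^ c, ?_⟩
      set A := qsel h.Qt m n
      set q := h.Qt n
      have hA : σ A ∈ Pp hK := Qr_le_Pp hK (h.σ_qsel_Qt_mem m n)
      have hq : σ q ∈ Pp hK := Qr_le_Pp hK (h.σ_Qt_mem n)
      have hqA : q * A = bp h.F0 c * (A * q) := by
        rw [← hc, commutatorElement_def]; group
      calc A * q * (A * q) = A * (q * A) * q := by group
        _ = A * A * (q * q) * bp h.F0 c := by
          rw [hqA, ← mul_assoc A, ← (h.F_comm c hA).eq, mul_assoc (bp h.F0 c), mul_assoc (bp h.F0 c),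
            (h.F_comm c (x := A * (A * q) * q) (by
              simp only [map_mul]
              exact mul_mem (mul_mem hA (mul_mem hA hq)) hq)).eq]
          group
        _ = qsel (fun i => h.Qt i * h.Qt i) m n * bp h.F0 b * (q * q) * bp h.F0 c := by rw [e]
        _ = _ := by
          rw [mul_assoc _ (bp h.F0 b), (h.F_comm b (x := q * q)
            (by rw [map_mul]; exact mul_mem hq hq)).eq, ← mul_assoc, mul_assoc _ (bp h.F0 b), hsq2]

theorem Qt_sq_ker (i : ℕ) : h.Qt i * h.Qt i ∈ σ.ker := by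
  rw [MonoidHom.mem_ker, map_mul]
  by_cases hi : i < 20
  · rw [h.σ_Qt hi, (qsys hK).f_sq i hi]
  · rw [Qt, if_neg hi, map_one, mul_one]

theorem Qt_sq {i : ℕ} (hi : i < 20) : h.Qt i * h.Qt i = 1 := by
  refine h.inv_zero (v := fun i => h.Qt i * h.Qt i) (fun i k => h.ker_comm (h.Qt_sq_ker i) _)
    (fun i => h.sq _ (h.Qt_sq_ker i)) (fun j hj i hi => ?_) hi
  obtain ⟨c, a, ha, e⟩ := h.conj_Qt_zt hj hi
  obtain ⟨b, hb⟩ := h.sq_qsel (rC j i) 20 le_rfl
  have hzz : bp h.Zt c * bp h.Zt c ∈ σ.ker := by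
    rw [MonoidHom.mem_ker, map_mul, map_bp, h.σ_Zt, (qsys hK).bp_mul, Bool.xor_self]; rfl
  have e1 : h.Qt i * h.Qt i =
      qsel (fun i => h.Qt i * h.Qt i) (rC j i) 20 * bp h.F0 b * (bp h.Zt c * bp h.Zt c) := by
    calc h.Qt i * h.Qt i = h.St j * (h.Qt i * h.Qt i) * (h.St j)⁻¹ := by
          rw [← (h.ker_comm (h.Qt_sq_ker i) _).eq, mul_inv_cancel_right]
      _ = (h.St j * h.Qt i * (h.St j)⁻¹) * (h.St j * h.Qt i * (h.St j)⁻¹) := by group
      _ = qsel h.Qt (rC j i) 20 * (bp h.Zt c * qsel h.Qt (rC j i) 20) * bp h.Zt c * (a * a) := by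
        rw [e, mul_assoc _ a, ← mul_assoc a, (h.ker_comm ha (qsel h.Qt (rC j i) 20 * bp h.Zt c)).eq]
        group
      _ = qsel h.Qt (rC j i) 20 * qsel h.Qt (rC j i) 20 * (bp h.Zt c * bp h.Zt c) := by
        rw [h.sq a ha, mul_one, show bp h.Zt c * qsel h.Qt (rC j i) 20 =
          qsel h.Qt (rC j i) 20 * bp h.Zt c by
            cases c
            · simp [bp]
            · exact h.z_comm (Qr_le_Pp hK (h.σ_qsel_Qt_mem _ 20))]
        group
      _ = _ := by rw [hb]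
  have hker : qsel (fun i => h.Qt i * h.Qt i) (rC j i) 20 ∈ σ.ker :=
    qsel_closed _ _ _ fun k _ => h.Qt_sq_ker k
  have hb0 : b = false := bp_zg_eq hK (b' := false) (by
    have := congrArg σ e1
    rw [map_mul, map_mul, map_mul, MonoidHom.mem_ker.1 hker, MonoidHom.mem_ker.1 hzz, h.σ_bpF,
      mul_one, one_mul, h.σ_Qt hi, (qsys hK).f_sq i hi] at this
    exact this.symm)
  have hc0 : bp h.Zt c * bp h.Zt c = 1 := by
    cases c
    · exact one_mul _
    · show h.Zt * h.Zt = 1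
      obtain ⟨a', ha', e'⟩ := h.eq_mul (x := h.F0) (y := h.Zt) (by rw [h.σ_F0, h.σ_Zt])
      rw [e', mul_assoc, ← mul_assoc a', (h.ker_comm ha' h.F0).eq, mul_assoc, h.sq a' ha', mul_one,
        h.F0_sq]
  rw [e1, hb0, hc0, mul_one]
  exact mul_one _

theorem qsys_Qt : QSys h.Qt h.F0 bTab where
  w_sq := h.F0_sq
  w_comm i _ := h.InZ_comm h.F0_InZ (Qr_le_Pp hK (h.σ_Qt_mem i))
  f_sq i hi := h.Qt_sq hi
  f_comm i hi k hk := by
    have hF := (h.F_comm ((bTab.getD i 0).testBit k) (x := h.Qt k * h.Qt i) (by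
      rw [map_mul]; exact mul_mem (Qr_le_Pp hK (h.σ_Qt_mem k)) (Qr_le_Pp hK (h.σ_Qt_mem i)))).eq
    rw [← hF, ← h.u_eq hi hk, commutatorElement_def]
    group

/-! ### lifts of the radical and crossed functions -/

/-- lifts of the generators with values for their conjugates -/
structure Cls (Q v : ℕ → Γ) (dm : ℕ → ℕ → ℕ) (N : ℕ) : Prop where
  sys : QSys Q h.F0 bTab
  σQ : ∀ i, i < 20 → σ (Q i) = qg hK i
  vker : ∀ i, v i ∈ σ.ker
  act : ∀ j, j < 8 → ∀ i, i < 20 → ∃ b,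
    h.St j * Q i * (h.St j)⁻¹ = qsel Q (rC j i) 20 * bp h.F0 b * qsel v (dm j i) N

namespace Cls

variable {h} {Q v : ℕ → Γ} {dm : ℕ → ℕ → ℕ} {N : ℕ} (C : Cls h Q v dm N)

include C

theorem σ_sel (m : ℕ) : σ (qsel Q m 20) = qsel (qg hK) m 20 := by
  rw [map_qsel]; exact qsel_congr_fun _ _ C.σQ

theorem σ_sel_mem (m : ℕ) : σ (qsel Q m 20) ∈ Pp hK := by
  rw [C.σ_sel]; exact qsel_mem hK m 20 le_rfl

theorem vsel_ker (m : ℕ) : qsel v m N ∈ σ.ker := qsel_closed _ _ _ fun i _ => C.vker i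

theorem vsel_add (a b : ℕ) : qsel v (a ^^^ b) N = qsel v a N * qsel v b N :=
  qsel_xor (fun i _ => h.ker_comm (C.vker i) _) (fun i => h.sq _ (C.vker i)) a b N

theorem unique {m m' : ℕ} {b b' : Bool} {a a' : Γ} (ha : a ∈ σ.ker) (ha' : a' ∈ σ.ker)
    (e : qsel Q m 20 * bp h.F0 b * a = qsel Q m' 20 * bp h.F0 b' * a') : a = a' := by
  have hs := congrArg σ e
  simp only [map_mul, MonoidHom.mem_ker.1 ha, MonoidHom.mem_ker.1 ha', mul_one, C.σ_sel,
    h.σ_bpF] at hs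
  have hm : qsel (qg hK) m 20 = qsel (qg hK) m' 20 :=
    qsel_congr _ 20 fun j hj => testBit_of_bvz (by
      rw [← (rMV_form hK m b).2, ← (rMV_form hK m' b').2, hs]) hj
  have hQ : qsel Q m 20 = qsel Q m' 20 := qsel_congr _ 20 fun j hj => testBit_of_bvz (by
    rw [← (rMV_form hK m b).2, ← (rMV_form hK m' b').2, hs]) hj
  rw [hm] at hs
  rw [bp_zg_eq hK (mul_left_cancel hs), hQ] at e
  exact mul_left_cancel e

theorem conj_sel {j : ℕ} (hj : j < 8) (m : ℕ) : ∀ n, n ≤ 20 → ∃ b,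
    h.St j * qsel Q m n * (h.St j)⁻¹ =
      qsel Q (xorF (rC j) m n) 20 * bp h.F0 b * qsel v (xorF (dm j) m n) N
  | 0, _ => ⟨false, by simp [qsel, xorF, qsel_zero, bp]⟩
  | n + 1, hn => by
    obtain ⟨b, e⟩ := conj_sel hj m n (by omega)
    rw [qsel, xorF, xorF]
    cases m.testBit n
    · exact ⟨b, by simpa [bp] using e⟩
    · obtain ⟨c, ec⟩ := C.act j hj n (by omega)
      obtain ⟨d, ed⟩ := C.sys.mul_eq (xorF (rC j) m n) (rC j n)
      refine ⟨d ^^ b ^^ c, ?_⟩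
      show h.St j * (qsel Q m n * Q n) * (h.St j)⁻¹ = _
      rw [show h.St j * (qsel Q m n * Q n) * (h.St j)⁻¹ =
        (h.St j * qsel Q m n * (h.St j)⁻¹) * (h.St j * Q n * (h.St j)⁻¹) by group, e, ec]
      show _ = qsel Q (xorF (rC j) m n ^^^ rC j n) 20 * _ * qsel v (xorF (dm j) m n ^^^ dm j n) N
      rw [C.vsel_add, ← C.sys.bp_mul, ← C.sys.bp_mul, ← mul_assoc (qsel Q _ 20),
        ← mul_assoc (qsel Q _ 20), ← ed]
      have h1 := (h.ker_comm (C.vsel_ker (xorF (dm j) m n)) (qsel Q (rC j n) 20)).eq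
      have h2 := (h.ker_comm (C.vsel_ker (xorF (dm j) m n)) (bp h.F0 c)).eq
      have h3 := (C.sys.bp_qsel b (rC j n))
      simp only [mul_assoc]
      rw [← mul_assoc (qsel v (xorF (dm j) m n) N), h1, mul_assoc,
        ← mul_assoc (qsel v (xorF (dm j) m n) N), h2, mul_assoc, ← mul_assoc (bp h.F0 b), h3]
      simp only [mul_assoc]

theorem conj_step {j : ℕ} (hj : j < 8) (m : ℕ) : ∃ b, h.St j * qsel Q m 20 * (h.St j)⁻¹ =
    qsel Q (rap20 (rTab.getD j []) m) 20 * bp h.F0 b * qsel v (xorF (dm j) m 20) N := by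
  rw [rap20, rapN_xorF]
  exact C.conj_sel hj m 20 le_rfl

theorem conj_word : ∀ {w : List ℕ}, (∀ j ∈ w, j < 8) → ∀ m, ∃ b,
    h.pS w * qsel Q m 20 * (h.pS w)⁻¹ =
      qsel Q (run dm w m).1 20 * bp h.F0 b * qsel v (run dm w m).2 N
  | [], _, m => ⟨false, by simp [pS, run, qsel_zero, bp]⟩
  | j :: w, hw, m => by
    obtain ⟨b, e⟩ := conj_word (fun k hk => hw k (List.mem_cons_of_mem _ hk)) m
    have hj := hw j List.mem_cons_self
    obtain ⟨c, ec⟩ := C.conj_step hj (run dm w m).1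
    refine ⟨c ^^ b, ?_⟩
    show h.St j * h.pS w * qsel Q m 20 * (h.St j * h.pS w)⁻¹ =
      qsel Q (rap20 (rTab.getD j []) (run dm w m).1) 20 * bp h.F0 (c ^^ b) *
        qsel v ((run dm w m).2 ^^^ xorF (dm j) (run dm w m).1 20) N
    rw [show h.St j * h.pS w * qsel Q m 20 * (h.St j * h.pS w)⁻¹ =
      h.St j * (h.pS w * qsel Q m 20 * (h.pS w)⁻¹) * (h.St j)⁻¹ by group, e,
      show h.St j * (qsel Q (run dm w m).1 20 * bp h.F0 b * qsel v (run dm w m).2 N) * (h.St j)⁻¹ =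
        (h.St j * qsel Q (run dm w m).1 20 * (h.St j)⁻¹) * (h.St j * bp h.F0 b * (h.St j)⁻¹) *
          (h.St j * qsel v (run dm w m).2 N * (h.St j)⁻¹) by group, ec,
      ← (h.F_comm b (h.σ_St_mem hj)).eq, ← (h.ker_comm (C.vsel_ker (run dm w m).2) (h.St j)).eq,
      mul_inv_cancel_right, mul_inv_cancel_right, mul_assoc _ _ (bp h.F0 b),
      (h.ker_comm (C.vsel_ker _) (bp h.F0 b)).eq, ← mul_assoc, mul_assoc _ _ (bp h.F0 b),
      C.sys.bp_mul, C.vsel_add, (h.ker_comm (C.vsel_ker (run dm w m).2) _).eq, mul_assoc]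

theorem σ_pair (m : ℕ) (b : Bool) (w : List ℕ) (hw : ∀ j ∈ w, j < 8) :
    σ (qsel Q m 20 * bp h.F0 b * h.pS w) =
      qsel (qg hK) m 20 * bp (zg hK) b * wg hK (sW w) := by
  rw [map_mul, map_mul, C.σ_sel, h.σ_bpF, h.σ_pS hw]

theorem pair_mul {m m' : ℕ} {b b' : Bool} {w w' : List ℕ} (hw : ∀ j ∈ w, j < 8) :
    ∃ k c, (qsel Q m 20 * bp h.F0 b * h.pS w) * (qsel Q m' 20 * bp h.F0 b' * h.pS w') =
      qsel Q k 20 * bp h.F0 c * qsel v (run dm w m').2 N * (h.pS w * h.pS w') := by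
  obtain ⟨c, ec⟩ := C.conj_word hw m'
  obtain ⟨d, ed⟩ := C.sys.mul_eq m (run dm w m').1
  refine ⟨m ^^^ (run dm w m').1, d ^^ b ^^ c ^^ b', ?_⟩
  obtain ⟨S, hS⟩ : ∃ S, h.pS w = S := ⟨_, rfl⟩
  have hSm : σ S ∈ Pp hK := hS ▸ h.σ_pS_mem hw
  rw [hS] at ec ⊢
  calc qsel Q m 20 * bp h.F0 b * S * (qsel Q m' 20 * bp h.F0 b' * h.pS w')
      = qsel Q m 20 * bp h.F0 b * (S * qsel Q m' 20 * S⁻¹) * (S * bp h.F0 b') * h.pS w' := by group
    _ = qsel Q m 20 * (bp h.F0 b * qsel Q (run dm w m').1 20) * bp h.F0 c *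
          (qsel v (run dm w m').2 N * bp h.F0 b') * S * h.pS w' := by
        rw [ec, ← (h.F_comm b' hSm).eq]; group
    _ = qsel Q m 20 * qsel Q (run dm w m').1 20 * (bp h.F0 b * bp h.F0 c * bp h.F0 b') *
          qsel v (run dm w m').2 N * (S * h.pS w') := by
        rw [C.sys.bp_qsel, (h.ker_comm (C.vsel_ker _) (bp h.F0 b')).eq]; group
    _ = _ := by
        rw [ed, C.sys.bp_mul, C.sys.bp_mul, mul_assoc (qsel Q _ 20), C.sys.bp_mul]
        simp only [Bool.xor_assoc]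

end Cls

/-- the first values of the conjugates -/
noncomputable def dv (k : ℕ) : Γ :=
  if k / 20 < 8 then
    (qsel h.Qt (rC (k / 20) (k % 20)) 20 *
        bp h.F0 (Nat.beq ((cjTab.getD (k / 20) []).getD (k % 20) 0) 1))⁻¹ *
      (h.St (k / 20) * h.Qt (k % 20) * (h.St (k / 20))⁻¹)
  else 1

theorem dv_ker (k : ℕ) : h.dv k ∈ σ.ker := by
  unfold dv
  split_ifs with hj
  · have hi : k % 20 < 20 := Nat.mod_lt _ (by norm_num)
    rw [MonoidHom.mem_ker, map_mul, map_inv, map_mul, map_mul, map_mul, map_inv, h.σ_St hj,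
      h.σ_Qt hi, h.σ_qsel_Qt, h.σ_bpF, comm_self_one (s_sq hK hj).1, s_conj hK hj hi,
      inv_mul_eq_one]
    rfl
  · exact one_mem _

theorem cls0 : h.Cls h.Qt h.dv dm0 160 where
  sys := h.qsys_Qt
  σQ _ hi := h.σ_Qt hi
  vker := h.dv_ker
  act j hj i hi := by
    refine ⟨Nat.beq ((cjTab.getD j []).getD i 0) 1, ?_⟩
    rw [dm0, qsel_one_hot, if_pos (by omega), dv, Nat.mul_add_div (by norm_num),
      Nat.div_eq_of_lt hi, Nat.add_zero, Nat.mul_add_mod, Nat.mod_eq_of_lt hi, if_pos hj,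
      mul_inv_cancel_left]

theorem dv_comm (i k : ℕ) : Commute (h.dv i) (h.dv k) := h.ker_comm (h.dv_ker i) _

theorem dv_sq (i : ℕ) : h.dv i * h.dv i = 1 := h.sq _ (h.dv_ker i)

theorem dEq_zero {e : ℕ} (he : e ∈ dEqT.flatten) : qsel h.dv e 160 = 1 := by
  have hlen := dLen_ok
  simp only [Bool.and_eq_true, Nat.beq_eq] at hlen
  have hchk : ∀ r, r < 37 → dEqChk r = true := fun r hr => by
    rcases Nat.lt_or_ge r 19 with h1 | h1
    · exact List.all_eq_true.1 dEq_ok0 r (List.mem_range.2 h1)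
    · exact List.all_eq_true.1 dEq_ok1 r
        (List.mem_map.2 ⟨r - 19, List.mem_range.2 (by omega), by omega⟩)
  obtain ⟨r, hr, her⟩ := listEq_getD (hlen.1.1.trans hlen.2) (g := fun r => dEq (relList.getD r []))
    (fun r hr => by
      have := hchk r hr
      simp only [dEqChk, Bool.and_eq_true] at this
      exact listEq_eq this.2) he
  obtain ⟨i, hi, rfl⟩ := List.mem_map.1 her
  rw [List.mem_range] at hi
  have hc := hchk r hr
  simp only [dEqChk, Bool.and_eq_true, List.all_eq_true, List.mem_range, Nat.beq_eq] at hc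
  obtain ⟨⟨⟨hw, hwe⟩, hfix⟩, -⟩ := hc
  have hw' : ∀ j ∈ relList.getD r [], j < 8 := fun j hj => bltT (hw j hj)
  have h1 : h.pS (relList.getD r []) = 1 := h.pS_eq (w' := []) hw' (by simp) hwe
  obtain ⟨b, eb⟩ := h.cls0.conj_word hw' (2 ^ i)
  rw [h1, one_mul, inv_one, mul_one, hfix i hi] at eb
  exact (h.cls0.unique (b := false) (b' := b) (a := 1) (one_mem _) (h.cls0.vsel_ker _)
    (by rw [mul_one]; exact (mul_one _).trans eb)).symm

/-- the correction of a lift -/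
noncomputable def al (i : ℕ) : Γ := qsel h.dv (alTab.getD i 0) 160

theorem al_ker (i : ℕ) : h.al i ∈ σ.ker := h.cls0.vsel_ker _

theorem al_comm (i k : ℕ) : Commute (h.al i) (h.al k) := h.ker_comm (h.al_ker i) _

/-- the corrected lifts -/
noncomputable def Q2 (i : ℕ) : Γ := h.Qt i * h.al i

/-- the values of the two classes -/
noncomputable def v2 (k : ℕ) : Γ := qsel h.dv (amTab.getD k 0) 160

theorem qsel_Q2 (m : ℕ) : ∀ n, qsel h.Q2 m n = qsel h.Qt m n * qsel h.al m n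
  | 0 => (one_mul _).symm
  | n + 1 => by
    rw [qsel, qsel, qsel, qsel_Q2 m n]
    cases m.testBit n
    · simp [bp]
    · show qsel h.Qt m n * qsel h.al m n * (h.Qt n * h.al n) = _
      rw [mul_assoc, ← mul_assoc (qsel h.al m n),
        (h.ker_comm (qsel_closed σ.ker m n fun i _ => h.al_ker i) (h.Qt n)).eq]
      simp only [bp, cond_true, mul_assoc]

theorem cls2 : h.Cls h.Q2 h.v2 dm2 2 where
  sys :=
    { w_sq := h.F0_sq
      w_comm := fun i hi => Commute.mul_right (h.qsys_Qt.w_comm i hi)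
        (h.ker_comm (h.al_ker i) _).symm
      f_sq := fun i hi => by
        rw [Q2, mul_assoc, ← mul_assoc (h.al i), (h.ker_comm (h.al_ker i) (h.Qt i)).eq, mul_assoc,
          h.sq _ (h.al_ker i), mul_one, h.Qt_sq hi]
      f_comm := fun i hi k hk => by
        have ci := h.ker_comm (h.al_ker i)
        have ck := h.ker_comm (h.al_ker k)
        simp only [Q2]
        rw [mul_assoc, ← mul_assoc (h.al i), (ci (h.Qt k)).eq, ← mul_assoc, ← mul_assoc,
          h.qsys_Qt.f_comm i hi k hk]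
        simp only [mul_assoc]
        rw [← mul_assoc (h.al k) (h.Qt i), (ck (h.Qt i)).eq, mul_assoc,
          ← (h.ker_comm (mul_mem (h.al_ker i) (h.al_ker k)) (bp h.F0 _)).eq, mul_assoc,
          ← mul_assoc (h.al i) (h.al k), (ci (h.al k)).eq, mul_assoc] }
  σQ i hi := by rw [Q2, map_mul, h.σ_Qt hi, MonoidHom.mem_ker.1 (h.al_ker i), mul_one]
  vker i := h.cls0.vsel_ker _
  act j hj i hi := by
    obtain ⟨b, e⟩ := h.cls0.act j hj i hi
    refine ⟨b, ?_⟩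
    have hchk := List.all_eq_true.1 dTgt_ok j (List.mem_range.2 hj)
    simp only [dTgtChk, List.all_eq_true, List.mem_range, Nat.beq_eq] at hchk
    have ht := qsel_xsel h.dv_comm h.dv_sq 160 _ (dCert.getD (20 * j + i) 0) fun _ => h.dEq_zero
    rw [hchk i hi, dTgt, qsel_xor h.dv_comm h.dv_sq, qsel_xor h.dv_comm h.dv_sq,
      qsel_xor h.dv_comm h.dv_sq, ← qsel_comp h.dv_comm h.dv_sq, ← qsel_comp h.dv_comm h.dv_sq,
      ← dm0] at ht
    change qsel h.dv (dm0 j i) 160 * h.al i * qsel h.al (rC j i) 20 * qsel h.v2 (dm2 j i) 2 = 1 at ht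
    have hv2 : ∀ k, h.v2 k ∈ σ.ker := fun k => h.cls0.vsel_ker _
    have ht' := eq_inv_of_mul_eq_one_left ht
    rw [comm_self_one (h.sq _ (qsel_closed σ.ker _ _ fun k _ => hv2 k))] at ht'
    rw [← ht', Q2, show h.St j * (h.Qt i * h.al i) * (h.St j)⁻¹ =
      h.St j * h.Qt i * (h.St j)⁻¹ * h.al i by
        rw [← mul_assoc, mul_assoc _ (h.al i), (h.ker_comm (h.al_ker i) (h.St j)⁻¹).eq, ← mul_assoc],
      e, qsel_Q2]
    set D0 := qsel h.dv (dm0 j i) 160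
    set A := qsel h.al (rC j i) 20
    set R := qsel h.Qt (rC j i) 20
    set F := bp h.F0 b
    have hA : A ∈ σ.ker := qsel_closed σ.ker _ _ fun k _ => h.al_ker k
    have hDA : A * (F * (D0 * h.al i * A)) = F * D0 * h.al i := by
      rw [(h.ker_comm hA _).eq, mul_assoc, mul_assoc, mul_assoc, h.sq A hA, mul_one,
        ← mul_assoc F]
    rw [mul_assoc (R * A), mul_assoc R A, hDA]
    simp only [mul_assoc]

theorem v2_one
    (hcomm : ∀ x y, x ∈ D → y ∈ D → Commute (σ x) (σ y) → Commute x y) {k : ℕ} (hk : k < 2) :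
    h.v2 k = 1 := by
  have hchk := List.all_eq_true.1 wit_ok k (List.mem_range.2 hk)
  simp only [witChk] at hchk
  generalize upWit.getD k ([], ([], 0, false, []), ([], 0, false, [])) = W at hchk
  obtain ⟨nw, ⟨wx, mx, zx, sx⟩, ⟨wy, my, zy, sy⟩⟩ := W
  simp only [movChk, Bool.and_eq_true, List.all_eq_true, Nat.beq_eq] at hchk
  obtain ⟨⟨⟨⟨⟨hn, hX⟩, hY⟩, hc0⟩, hc1⟩, ha⟩ := hchk
  obtain ⟨⟨⟨hwx, hsx⟩, -⟩, ex⟩ := hX
  obtain ⟨⟨⟨hwy, hsy⟩, -⟩, ey⟩ := hY
  have hwx' : ∀ j ∈ wx, j < 8 := fun j hj => bltT (hwx j hj)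
  have hwy' : ∀ j ∈ wy, j < 8 := fun j hj => bltT (hwy j hj)
  have hsx' : ∀ j ∈ sx, j < 8 := fun j hj => bltT (hsx j hj)
  have hsy' : ∀ j ∈ sy, j < 8 := fun j hj => bltT (hsy j hj)
  have hinv : (wg hK nw)⁻¹ = wg hK nw.reverse :=
    inv_eq_of_mul_eq_one_right (by rw [← wg_append, wg_wEq hK hn]; rfl)
  have hC := h.cls2
  set Nt := h.lf (wg hK nw)
  have moved : ∀ {w s : List ℕ} {m : ℕ} {z : Bool}, (∀ j ∈ w, j < 8) → (∀ j ∈ s, j < 8) →
      wEq (nw ++ sW w ++ nw.reverse) (qW m ++ zIf z ++ sW s) = true →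
      ∃ a ∈ σ.ker, qsel h.Q2 m 20 * bp h.F0 z * h.pS s = Nt * h.pS w * Nt⁻¹ * a := by
    intro w s m z hw hs e
    apply h.eq_mul
    rw [hC.σ_pair m z s hs, map_mul, map_mul, map_inv, h.σ_lf, h.σ_pS hw, hinv, ← wg_append,
      ← wg_append, wg_wEq hK e, wg_append, wg_append, wg_zIf, qW, ← qsel_wg]
  obtain ⟨a, hak, eX⟩ := moved hwx' hsx' ex
  obtain ⟨b, hbk, eY⟩ := moved hwy' hsy' ey
  have hD : Commute (h.pS wx) (h.pS wy) := hcomm _ _ (h.pS_mem _) (h.pS_mem _) (by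
    show _ = _
    rw [h.σ_pS hwx', h.σ_pS hwy', ← wg_append, ← wg_append, wg_wEq hK hc0])
  have hUV : Commute (qsel h.Q2 mx 20 * bp h.F0 zx * h.pS sx)
      (qsel h.Q2 my 20 * bp h.F0 zy * h.pS sy) := by
    rw [eX, eY]
    have := hD.map (MulAut.conj Nt).toMonoidHom
    simp only [MulEquiv.coe_toMonoidHom, MulAut.conj_apply] at this
    exact (this.mul_right (h.ker_comm hbk _).symm).mul_left (h.ker_comm hak _)
  obtain ⟨k1, c1, e1⟩ := hC.pair_mul (m := mx) (b := zx) (m' := my) (b' := zy) (w' := sy) hsx'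
  obtain ⟨k2, c2, e2⟩ := hC.pair_mul (m := my) (b := zy) (m' := mx) (b' := zx) (w' := sx) hsy'
  have hpS : h.pS sx * h.pS sy = h.pS sy * h.pS sx := by
    rw [← h.pS_append, ← h.pS_append]
    refine h.pS_eq ?_ ?_ ?_
    · intro j hj; exact (List.mem_append.1 hj).elim (hsx' j) (hsy' j)
    · intro j hj; exact (List.mem_append.1 hj).elim (hsy' j) (hsx' j)
    · simpa [sW] using hc1
  have eq2 := e1.symm.trans (hUV.eq.trans e2)
  rw [hpS] at eq2
  have eq3 := hC.unique (hC.vsel_ker _) (hC.vsel_ker _) (mul_right_cancel eq2)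
  have hz : qsel h.v2 ((run dm2 sx my).2 ^^^ (run dm2 sy mx).2) 2 = 1 := by
    rw [hC.vsel_add, eq3, h.sq _ (hC.vsel_ker _)]
  rwa [ha, qsel_one_hot, if_pos hk] at hz

include h in
theorem exists_complement
    (hcomm : ∀ x y, x ∈ D → y ∈ D → Commute (σ x) (σ y) → Commute x y) :
    ∃ P0 : Subgroup Γ, P0.map σ = Pp hK ∧ P0 ⊓ σ.ker = ⊥ := by
  have hC := h.cls2
  have hv : ∀ m, qsel h.v2 m 2 = 1 := fun m => qsel_ones m 2 fun i hi => h.v2_one hcomm hi
  let gens : Set Γ :=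
    {x | x = h.F0 ∨ (∃ i, i < 20 ∧ x = h.Q2 i) ∨ ∃ j, j < 8 ∧ x = h.St j}
  let Shape : Γ → Prop := fun x => ∃ m b, ∃ w : List ℕ, (∀ j ∈ w, j < 8) ∧
    x = qsel h.Q2 m 20 * bp h.F0 b * h.pS w
  have hinv : ∀ g ∈ gens, g⁻¹ = g := by
    rintro g (rfl | ⟨i, hi, rfl⟩ | ⟨j, hj, rfl⟩)
    · exact comm_self_one h.F0_sq
    · exact comm_self_one (hC.sys.f_sq i hi)
    · exact h.St_inv hj
  have hstep : ∀ g ∈ gens, ∀ x, Shape x → Shape (g * x) := by
    rintro g (rfl | ⟨i, hi, rfl⟩ | ⟨j, hj, rfl⟩) x ⟨m, b, w, hw, rfl⟩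
    · refine ⟨m, true ^^ b, w, hw, ?_⟩
      rw [← mul_assoc, ← mul_assoc]
      nth_rewrite 1 [show h.F0 = bp h.F0 true from rfl]
      rw [hC.sys.bp_qsel,
        mul_assoc (qsel _ _ _), hC.sys.bp_mul]
    · obtain ⟨c, ec⟩ := hC.sys.mul_eq (2 ^ i) m
      rw [qsel_one_hot, if_pos hi] at ec
      refine ⟨2 ^ i ^^^ m, c ^^ b, w, hw, ?_⟩
      rw [← mul_assoc, ← mul_assoc, ec, mul_assoc (qsel _ _ _), hC.sys.bp_mul]
    · obtain ⟨c, ec⟩ := hC.conj_step hj m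
      rw [hv, mul_one] at ec
      refine ⟨rap20 (rTab.getD j []) m, c ^^ b, j :: w,
        fun k hk => (List.mem_cons.1 hk).elim (fun e => e ▸ hj) (hw k), ?_⟩
      rw [← hC.sys.bp_mul, ← mul_assoc (qsel _ _ _), ← ec,
        show h.pS (j :: w) = h.St j * h.pS w by simp [pS],
        show h.St j * qsel h.Q2 m 20 * (h.St j)⁻¹ * bp h.F0 b * (h.St j * h.pS w) =
          h.St j * qsel h.Q2 m 20 * ((h.St j)⁻¹ * bp h.F0 b * h.St j) * h.pS w by group,
        mul_assoc (h.St j)⁻¹, (h.F_comm b (h.σ_St_mem hj)).eq, inv_mul_cancel_left]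
      group
  have hshape : ∀ x ∈ Subgroup.closure gens, Shape x := by
    intro x hx
    induction hx using Subgroup.closure_induction_left with
    | one => exact ⟨0, false, [], by simp, by simp [qsel_zero, bp, pS]⟩
    | mul_left g hg x _ ih => exact hstep g hg x ih
    | inv_mul_cancel g hg x _ ih => rw [hinv g hg]; exact hstep g hg x ih
  refine ⟨Subgroup.closure gens, ?_, ?_⟩
  · refine le_antisymm ?_ ?_
    · rw [MonoidHom.map_closure, Subgroup.closure_le]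
      rintro _ ⟨g, hg, rfl⟩
      rcases hg with rfl | ⟨i, hi, rfl⟩ | ⟨j, hj, rfl⟩
      · rw [h.σ_F0]; exact z_mem hK
      · rw [hC.σQ i hi]; exact q_mem hK hi
      · exact h.σ_St_mem hj
    · rw [Pp, Subgroup.closure_le]
      rintro _ ⟨k, hk, rfl⟩
      rcases id_facts.2.2.2 k hk with ⟨i, hi, rfl⟩ | rfl | ⟨j, hj, rfl⟩
      · exact ⟨h.Q2 i, Subgroup.subset_closure (Or.inr (Or.inl ⟨i, hi, rfl⟩)), hC.σQ i hi⟩
      · exact ⟨h.F0, Subgroup.subset_closure (Or.inl rfl), h.σ_F0⟩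
      · exact ⟨h.St j, Subgroup.subset_closure (Or.inr (Or.inr ⟨j, hj, rfl⟩)), h.σ_St hj⟩
  · rw [eq_bot_iff]
    rintro x ⟨hx, hk⟩
    obtain ⟨m, b, w, hw, rfl⟩ := hshape x hx
    have hs : qsel (qg hK) m 20 * bp (zg hK) b * wg hK (sW w) = 1 :=
      (hC.σ_pair m b w hw).symm.trans (MonoidHom.mem_ker.1 hk)
    have hQmem : qsel (qg hK) m 20 * bp (zg hK) b ∈ Qr hK :=
      mul_mem (qsel_closed _ _ _ fun i hi => q_mem_Qr hK hi) (by
        cases b
        exacts [one_mem _, z_mem_Qr hK])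
    have hwg : wg hK (sW w) ∈ Lg hK := by
      rw [← h.map_D, ← h.σ_pS hw]
      exact Subgroup.mem_map_of_mem σ (h.pS_mem w)
    have hle : Qr hK ≤ (piP hK).ker.map (Pp hK).subtype := by
      rw [Qr, Subgroup.closure_le]
      rintro y (rfl | ⟨i, hi, rfl⟩)
      · exact ⟨⟨zg hK, z_mem hK⟩, piP_z hK, rfl⟩
      · exact ⟨⟨qg hK i, q_mem hK hi⟩, piP_q hK hi, rfl⟩
    have hwQ : wg hK (sW w) ∈ (piP hK).ker.map (Pp hK).subtype :=
      hle ((eq_inv_of_mul_eq_one_right hs) ▸ inv_mem hQmem)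
    obtain ⟨y, hy, ey⟩ := hwQ
    have hw1 : wg hK (sW w) = 1 := eq_one_of_piP hK hwg (by
      rw [← MonoidHom.mem_ker.1 hy]
      exact congrArg (piP hK) (Subtype.ext ey.symm))
    rw [hw1, mul_one] at hs
    have hm : bvz m = bvz 0 := by
      rw [← (rMV_form hK m b).2, hs, (rMV_one hK).2, bvz_zero]
    have hm0 : ∀ (f : ℕ → Γ), qsel f m 20 = 1 := fun f => by
      rw [qsel_congr f 20 fun j hj => testBit_of_bvz hm hj, qsel_zero]
    have hm1 : qsel (qg hK) m 20 = 1 := by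
      rw [qsel_congr _ 20 fun j hj => testBit_of_bvz hm hj, qsel_zero]
    rw [hm1, one_mul] at hs
    have hb : b = false := bp_zg_eq hK (b' := false) hs
    have hp : h.pS w = 1 := h.inj_D _ (h.pS_mem w) (by rw [h.σ_pS hw, hw1])
    rw [hm0, hb, hp]
    exact Subgroup.mem_bot.2 (by simp [bp])

end Cov

end Upper

end Cfsg.Agent.H56.EMult
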