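import Cfsg.Agent.H56.EMult.Upper
import Cfsg.Agent.H56.EMult.Wrap.Transfer
import Cfsg.Agent.H56.EMult.Wrap.Witness
import Cfsg.Agent.H56.EMult.Wrap.Reduce
import Cfsg.Agent.H56.EMult.Wrap.Odd

/-!
The kernel of a stem extension of `²E₆(2)` is an image of `3 × 2 × 2`, given that the parabolic subgroup
has odd index.
-/

set_option autoImplicit false

namespace Cfsg.Agent.H56.EMult

open Cfsg.Lie
open scoped commutatorElement

universe u v

variable {K : Type u} [Field K] [Fintype K] (hK : Fintype.card K = 4)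

/-- a stem extension with elementary kernel in which the witness commutators vanish is trivial -/
theorem main_ker_bot (hidx : ¬ 2 ∣ (Pp hK).index) {Γ : Type v} [Group Γ] [Finite Γ]
    {σ : Γ →* ↥(twistedE6 K 2)} (hσ : Cfsg.IsStemExtension σ) (h2 : ∀ a ∈ σ.ker, a * a = 1)
    (hw : ∀ k X Y, σ X = wx card_F4 (eLg hK) k → σ Y = wy card_F4 (eLg hK) k → ⁅X, Y⁆ = 1) :
    σ.ker = ⊥ := by
  obtain ⟨hD, hD1⟩ := levi_split card_F4 (eLg hK) hσ.1 hσ.2.1 h2 hw
  have h : Cov hK σ ⁅(Lg hK).comap σ, (Lg hK).comap σ⁆ := ⟨hσ.1, hσ.2.1, h2, hD, hD1⟩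
  obtain ⟨P0, hmap, hdisj⟩ := h.exists_complement fun x y hx hy hxy =>
    commutatorElement_eq_one_iff_commute.1 (hD1 _
      (by
        rw [commutatorElement_def]
        exact mul_mem (mul_mem (mul_mem hx hy) (inv_mem hx)) (inv_mem hy))
      (by rw [map_commutatorElement]; exact commutatorElement_eq_one_iff_commute.2 hxy))
  exact ker_eq_bot_of_complement hσ h2 (Pp hK) hidx P0 hmap hdisj

/-- the upper bound -/
theorem upper_bound (hidx : ¬ 2 ∣ (Pp hK).index) (Γ : Type u) [Group Γ] [Finite Γ]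
    (σ : Γ →* ↥(twistedE6 K 2)) (hσ : Cfsg.IsStemExtension σ) :
    ∃ f : Multiplicative (ZMod 3 × ZMod 2 × ZMod 2) →* σ.ker, Function.Surjective f :=
  exists_surjection_of (wx card_F4 (eLg hK)) (wy card_F4 (eLg hK))
    (commute_wit card_F4 (eLg hK))
    (fun Γ _ _ σ hσ => comm_pow_six card_F4 (eLg hK) hσ.1 hσ.2.1)
    (fun Γ _ _ σ hσ => main_ker_bot hK hidx hσ)
    (fun Γ _ _ σ hσ => card_ker_dvd_three hK hσ)
    Γ σ hσ

end Cfsg.Agent.H56.EMult
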